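import Cfsg.Agent.SporChar.HeKer
import Cfsg.Agent.Spor.LXSplit
import Cfsg.Agent.Class.SLGen

/-! The amalgam with two orbits of length `21` gives `SL(5, 2)`. -/

set_option autoImplicit false
set_option maxRecDepth 100000

namespace Cfsg.Lib.SporChar.He

open Cfsg.Lib.Spor Cfsg.Lib.Spor.Bulk Subgroup
open Cfsg.Lib.Spor.PK (force force_eq)

noncomputable def cL_n1 : Net := (Net.cons (nat_lit 16) (nat_lit 0x8000)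
 (Net.cons (nat_lit 8) (nat_lit 0x800000)
 (Net.cons (nat_lit 4) (nat_lit 0xa020200)
 (Net.cons (nat_lit 2) (nat_lit 0x2200002)
 (Net.cons (nat_lit 1) (nat_lit 0x54111004)
 (Net.cons (nat_lit 2) (nat_lit 0x2200022)
 (Net.cons (nat_lit 4) (nat_lit 0xa020200)
 (Net.cons (nat_lit 8) (nat_lit 0x800000)
 (Net.cons (nat_lit 16) (nat_lit 0x8000)
 Net.nil)))))))))
theorem cL_n1_ok : cL_n1.OK 31 := Net.OK_of_ok (by decide +kernel)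
noncomputable def cL_n2 : Net := (Net.cons (nat_lit 16) (nat_lit 0x2000)
 (Net.cons (nat_lit 8) (nat_lit 0x100000)
 (Net.cons (nat_lit 4) (nat_lit 0x4000802)
 (Net.cons (nat_lit 2) (nat_lit 0x20)
 (Net.cons (nat_lit 1) (nat_lit 0x10000410)
 (Net.cons (nat_lit 2) (nat_lit 0x1100022)
 (Net.cons (nat_lit 4) (nat_lit 0x4000802)
 (Net.cons (nat_lit 8) (nat_lit 0x1a0000)
 (Net.cons (nat_lit 16) (nat_lit 0x2000)
 Net.nil)))))))))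
theorem cL_n2_ok : cL_n2.OK 31 := Net.OK_of_ok (by decide +kernel)
noncomputable def cL_n3 : Net := (Net.cons (nat_lit 16) (nat_lit 0x5820)
 (Net.cons (nat_lit 8) (nat_lit 0x20050)
 (Net.cons (nat_lit 4) (nat_lit 0x200)
 (Net.cons (nat_lit 1) (nat_lit 0x10110)
 (Net.cons (nat_lit 2) (nat_lit 0x2002000)
 (Net.cons (nat_lit 4) (nat_lit 0x600)
 (Net.cons (nat_lit 8) (nat_lit 0x520050)
 (Net.cons (nat_lit 16) (nat_lit 0x5820)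
 Net.nil))))))))
theorem cL_n3_ok : cL_n3.OK 31 := Net.OK_of_ok (by decide +kernel)
noncomputable def cL_n4 : Net := (Net.cons (nat_lit 16) (nat_lit 0x5a00)
 (Net.cons (nat_lit 8) (nat_lit 0x440000)
 (Net.cons (nat_lit 4) (nat_lit 0xc000000)
 (Net.cons (nat_lit 1) (nat_lit 0x40400000)
 (Net.cons (nat_lit 2) (nat_lit 0x1031200)
 (Net.cons (nat_lit 4) (nat_lit 0xc000000)
 (Net.cons (nat_lit 8) (nat_lit 0x640000)
 (Net.cons (nat_lit 16) (nat_lit 0x5a00)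
 Net.nil))))))))
theorem cL_n4_ok : cL_n4.OK 31 := Net.OK_of_ok (by decide +kernel)
noncomputable def cL_n5 : Net := (Net.cons (nat_lit 16) (nat_lit 0x828)
 (Net.cons (nat_lit 8) (nat_lit 0x280040)
 (Net.cons (nat_lit 4) (nat_lit 0x8000400)
 (Net.cons (nat_lit 2) (nat_lit 0x20200)
 (Net.cons (nat_lit 1) (nat_lit 0x14401)
 (Net.cons (nat_lit 2) (nat_lit 0x20020200)
 (Net.cons (nat_lit 4) (nat_lit 0x8000400)
 (Net.cons (nat_lit 8) (nat_lit 0x2e0048)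
 (Net.cons (nat_lit 16) (nat_lit 0x828)
 Net.nil)))))))))
theorem cL_n5_ok : cL_n5.OK 31 := Net.OK_of_ok (by decide +kernel)
noncomputable def cL_n6 : Net := (Net.cons (nat_lit 8) (nat_lit 0x80000)
 (Net.cons (nat_lit 4) (nat_lit 0x2000004)
 (Net.cons (nat_lit 2) (nat_lit 0x200200)
 (Net.cons (nat_lit 1) (nat_lit 0x5411400)
 (Net.cons (nat_lit 2) (nat_lit 0x200212)
 (Net.cons (nat_lit 4) (nat_lit 0x2000004)
 (Net.cons (nat_lit 8) (nat_lit 0x80000)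
 Net.nil)))))))
theorem cL_n6_ok : cL_n6.OK 31 := Net.OK_of_ok (by decide +kernel)
noncomputable def cL_n7 : Net := (Net.cons (nat_lit 16) (nat_lit 0x4268)
 (Net.cons (nat_lit 8) (nat_lit 0x600050)
 (Net.cons (nat_lit 4) (nat_lit 0x4040000)
 (Net.cons (nat_lit 2) (nat_lit 0x20000)
 (Net.cons (nat_lit 1) (nat_lit 0x4010050)
 (Net.cons (nat_lit 2) (nat_lit 0x1030030)
 (Net.cons (nat_lit 4) (nat_lit 0x6040100)
 (Net.cons (nat_lit 8) (nat_lit 0x290058)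
 (Net.cons (nat_lit 16) (nat_lit 0x4268)
 Net.nil)))))))))
theorem cL_n7_ok : cL_n7.OK 31 := Net.OK_of_ok (by decide +kernel)
noncomputable def cL_n8 : Net := (Net.cons (nat_lit 16) (nat_lit 0x2620)
 (Net.cons (nat_lit 8) (nat_lit 0x420028)
 (Net.cons (nat_lit 4) (nat_lit 0xc08)
 (Net.cons (nat_lit 2) (nat_lit 0x22000000)
 (Net.cons (nat_lit 1) (nat_lit 0x44011040)
 (Net.cons (nat_lit 2) (nat_lit 0x22000300)
 (Net.cons (nat_lit 4) (nat_lit 0xc08)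
 (Net.cons (nat_lit 8) (nat_lit 0x520028)
 (Net.cons (nat_lit 16) (nat_lit 0x2620)
 Net.nil)))))))))
theorem cL_n8_ok : cL_n8.OK 31 := Net.OK_of_ok (by decide +kernel)
noncomputable def cL_T : ℕ → Net := getN Net.nil [Net.nil, cL_n1, cL_n2, cL_n3, cL_n4, cL_n5, cL_n6, cL_n7, cL_n8]
theorem cL_nets : NetsOK cL_T 31 := netsOK_getN (forall_mem_cons' (Net.OK_nil _) (forall_mem_cons' cL_n1_ok (forall_mem_cons' cL_n2_ok (forall_mem_cons' cL_n3_ok (forall_mem_cons' cL_n4_ok (forall_mem_cons' cL_n5_ok (forall_mem_cons' cL_n6_ok (forall_mem_cons' cL_n7_ok (forall_mem_cons' cL_n8_ok forall_mem_nil')))))))))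
noncomputable def cL_R : List (List ℕ) := [[1,3,1,3],[1,4,1,4],[1,7,1,7],[1,8,1,8],[2,4,2,4],[2,5,2,5],[2,8,2,8],[3,5,3,5],[3,8,3,8],[4,5,4,5],[4,6,4,6],[5,7,5,7],[5,8,5,8],[6,8,6,8],[1,3,1,5,3,5],[1,4,1,5,4,5],[1,4,1,6,4,6],[1,5,1,5,1,5],[2,4,2,6,4,6],[2,5,2,7,5,7],[2,6,2,6,2,6],[2,7,6,3,6,7],[3,5,3,7,5,7],[3,7,3,7,3,7],[4,5,4,7,5,7],[4,5,4,8,5,8],[4,6,4,8,6,8],[4,8,4,8,4,8],[6,7,6,7,6,7],[1,2,1,2,6,1,6],[2,3,2,3,6,3,6],[2,3,2,3,7,2,7],[3,4,3,4,7,4,7],[1,2,1,2,1,2,1,2],[1,2,1,5,6,1,6,5],[1,2,4,2,1,5,4,5],[1,2,4,2,1,6,4,6],[1,2,5,2,1,5,1,5],[1,2,6,2,1,2,6,2],[1,2,6,2,1,6,2,6],[1,2,6,4,6,2,1,4],[1,2,7,6,3,6,1,7],[1,3,1,6,7,2,7,6],[1,6,7,6,7,6,1,7],[2,3,2,6,2,3,2,6],[2,3,5,3,2,7,5,7],[2,3,6,2,6,3,2,6],[2,3,7,3,2,3,7,3],[2,3,7,3,2,7,3,7],[2,3,7,5,7,3,2,5],[2,4,5,4,2,7,5,7],[2,6,3,6,2,7,2,7],[2,6,7,6,7,3,6,7],[2,7,3,6,3,6,3,7],[2,7,8,7,2,7,8,7],[3,4,3,4,3,4,3,4],[3,4,3,7,3,4,3,7],[3,4,5,4,3,7,5,7],[3,4,7,3,7,4,3,7],[3,4,7,5,7,4,3,5],[3,4,8,4,8,4,3,8],[3,4,8,5,8,4,3,5],[3,4,8,7,4,7,8,4],[3,6,5,6,3,6,5,6],[5,6,5,6,5,6,5,6],[7,8,7,8,7,8,7,8],[1,2,1,2,5,1,2,1,5],[3,4,3,4,8,4,3,4,8]]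
theorem cL_w : 31 ≤ 2 ^ 5 := by norm_num
theorem cL_inv_0 : eqsOn cL_T 31 5 (invPairs idI 9) 0 5 = true := by decide +kernel
theorem cL_r0_0 : eqsOn cL_T 31 5 (relPairs idI [[1,3,1,3],[1,4,1,4],[1,7,1,7],[1,8,1,8],[2,4,2,4],[2,5,2,5],[2,8,2,8],[3,5,3,5],[3,8,3,8],[4,5,4,5],[4,6,4,6],[5,7,5,7],[5,8,5,8],[6,8,6,8],[1,3,1,5,3,5],[1,4,1,5,4,5],[1,4,1,6,4,6],[1,5,1,5,1,5],[2,4,2,6,4,6],[2,5,2,7,5,7],[2,6,2,6,2,6],[2,7,6,3,6,7],[3,5,3,7,5,7],[3,7,3,7,3,7],[4,5,4,7,5,7],[4,5,4,8,5,8],[4,6,4,8,6,8],[4,8,4,8,4,8],[6,7,6,7,6,7],[1,2,1,2,6,1,6],[2,3,2,3,6,3,6],[2,3,2,3,7,2,7],[3,4,3,4,7,4,7],[1,2,1,2,1,2,1,2],[1,2,1,5,6,1,6,5],[1,2,4,2,1,5,4,5],[1,2,4,2,1,6,4,6],[1,2,5,2,1,5,1,5],[1,2,6,2,1,2,6,2],[1,2,6,2,1,6,2,6],[1,2,6,4,6,2,1,4],[1,2,7,6,3,6,1,7],[1,3,1,6,7,2,7,6],[1,6,7,6,7,6,1,7],[2,3,2,6,2,3,2,6],[2,3,5,3,2,7,5,7],[2,3,6,2,6,3,2,6],[2,3,7,3,2,3,7,3],[2,3,7,3,2,7,3,7],[2,3,7,5,7,3,2,5],[2,4,5,4,2,7,5,7],[2,6,3,6,2,7,2,7],[2,6,7,6,7,3,6,7],[2,7,3,6,3,6,3,7],[2,7,8,7,2,7,8,7],[3,4,3,4,3,4,3,4],[3,4,3,7,3,4,3,7],[3,4,5,4,3,7,5,7],[3,4,7,3,7,4,3,7],[3,4,7,5,7,4,3,5],[3,4,8,4,8,4,3,8],[3,4,8,5,8,4,3,5],[3,4,8,7,4,7,8,4],[3,6,5,6,3,6,5,6],[5,6,5,6,5,6,5,6],[7,8,7,8,7,8,7,8],[1,2,1,2,5,1,2,1,5],[3,4,3,4,8,4,3,4,8]])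 0 5 = true := by decide +kernel
theorem cL_inv : ∀ l < 9, prm cL_T 31 (idI l) = (prm cL_T 31 l)⁻¹ := inv_of_eqs cL_nets cL_w ((EqsBelow.zero _ _ _ _).step cL_inv_0)
theorem cL_rel0 : ∀ r ∈ ([[1,3,1,3],[1,4,1,4],[1,7,1,7],[1,8,1,8],[2,4,2,4],[2,5,2,5],[2,8,2,8],[3,5,3,5],[3,8,3,8],[4,5,4,5],[4,6,4,6],[5,7,5,7],[5,8,5,8],[6,8,6,8],[1,3,1,5,3,5],[1,4,1,5,4,5],[1,4,1,6,4,6],[1,5,1,5,1,5],[2,4,2,6,4,6],[2,5,2,7,5,7],[2,6,2,6,2,6],[2,7,6,3,6,7],[3,5,3,7,5,7],[3,7,3,7,3,7],[4,5,4,7,5,7],[4,5,4,8,5,8],[4,6,4,8,6,8],[4,8,4,8,4,8],[6,7,6,7,6,7],[1,2,1,2,6,1,6],[2,3,2,3,6,3,6],[2,3,2,3,7,2,7],[3,4,3,4,7,4,7],[1,2,1,2,1,2,1,2],[1,2,1,5,6,1,6,5],[1,2,4,2,1,5,4,5],[1,2,4,2,1,6,4,6],[1,2,5,2,1,5,1,5],[1,2,6,2,1,2,6,2],[1,2,6,2,1,6,2,6],[1,2,6,4,6,2,1,4],[1,2,7,6,3,6,1,7],[1,3,1,6,7,2,7,6],[1,6,7,6,7,6,1,7],[2,3,2,6,2,3,2,6],[2,3,5,3,2,7,5,7],[2,3,6,2,6,3,2,6],[2,3,7,3,2,3,7,3],[2,3,7,3,2,7,3,7],[2,3,7,5,7,3,2,5],[2,4,5,4,2,7,5,7],[2,6,3,6,2,7,2,7],[2,6,7,6,7,3,6,7],[2,7,3,6,3,6,3,7],[2,7,8,7,2,7,8,7],[3,4,3,4,3,4,3,4],[3,4,3,7,3,4,3,7],[3,4,5,4,3,7,5,7],[3,4,7,3,7,4,3,7],[3,4,7,5,7,4,3,5],[3,4,8,4,8,4,3,8],[3,4,8,5,8,4,3,5],[3,4,8,7,4,7,8,4],[3,6,5,6,3,6,5,6],[5,6,5,6,5,6,5,6],[7,8,7,8,7,8,7,8],[1,2,1,2,5,1,2,1,5],[3,4,3,4,8,4,3,4,8]]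 : List (List ℕ)), wv (prm cL_T 31) r = 1 := rels_of_eqs cL_nets cL_w cL_inv (by decide +kernel) ((EqsBelow.zero _ _ _ _).step cL_r0_0)
theorem cL_sat : Sat (prm cL_T 31) 9 idI cL_R := sat_prm rfl cL_inv fun r hr => cL_rel0 r (mem_of_subL (by decide +kernel) r hr)
noncomputable def cL_t1_0 : ℕ := (nat_lit 0x7c0e62f4)
noncomputable def cL_t1_1 : ℕ := (nat_lit 0x7df180f8)
noncomputable def cL_t1_2 : ℕ := (nat_lit 0x7dffff00)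
noncomputable def cL_t1_3 : ℕ := (nat_lit 0x2000000)
noncomputable def cL_t1 : List ℕ := [cL_t1_0, cL_t1_1, cL_t1_2, cL_t1_3]
noncomputable def cL_e1 : ℕ := (nat_lit 0x4)
noncomputable def cL_t2_0 : ℕ := (nat_lit 0x26d613e0)
noncomputable def cL_t2_1 : ℕ := (nat_lit 0x59081346)
noncomputable def cL_t2_2 : ℕ := (nat_lit 0x36f7ec00)
noncomputable def cL_t2_3 : ℕ := 0
noncomputable def cL_t2 : List ℕ := [cL_t2_0, cL_t2_1, cL_t2_2, cL_t2_3]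
noncomputable def cL_e2 : ℕ := (nat_lit 0xa0)
noncomputable def cL_t3_0 : ℕ := (nat_lit 0x118a4b0)
noncomputable def cL_t3_1 : ℕ := (nat_lit 0x1a6348be)
noncomputable def cL_t3_2 : ℕ := (nat_lit 0x2c8c0000)
noncomputable def cL_t3_3 : ℕ := (nat_lit 0x41000000)
noncomputable def cL_t3 : List ℕ := [cL_t3_0, cL_t3_1, cL_t3_2, cL_t3_3]
noncomputable def cL_e3 : ℕ := (nat_lit 0x10a400)
noncomputable def cL_t4_0 : ℕ := (nat_lit 0x75cc00b8)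
noncomputable def cL_t4_1 : ℕ := (nat_lit 0xa0a00be)
noncomputable def cL_t4_2 : ℕ := (nat_lit 0xa10b740)
noncomputable def cL_t4_3 : ℕ := (nat_lit 0x51400000)
noncomputable def cL_t4 : List ℕ := [cL_t4_0, cL_t4_1, cL_t4_2, cL_t4_3]
noncomputable def cL_e4 : ℕ := (nat_lit 0x24840000)
noncomputable def cL_t5_0 : ℕ := (nat_lit 0x47173922)
noncomputable def cL_t5_1 : ℕ := (nat_lit 0x79e8402c)
noncomputable def cL_t5_2 : ℕ := (nat_lit 0x7fffffd0)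
noncomputable def cL_t5_3 : ℕ := 0
noncomputable def cL_t5 : List ℕ := [cL_t5_0, cL_t5_1, cL_t5_2, cL_t5_3]
noncomputable def cL_e5 : ℕ := (nat_lit 0x2)
noncomputable def cL_t6_0 : ℕ := (nat_lit 0x46b95f8)
noncomputable def cL_t6_1 : ℕ := (nat_lit 0x1a1005e0)
noncomputable def cL_t6_2 : ℕ := (nat_lit 0x1efffa00)
noncomputable def cL_t6_3 : ℕ := (nat_lit 0x61000000)
noncomputable def cL_t6 : List ℕ := [cL_t6_0, cL_t6_1, cL_t6_2, cL_t6_3]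
noncomputable def cL_e6 : ℕ := (nat_lit 0x18)
noncomputable def cL_t7_0 : ℕ := (nat_lit 0x594e1744)
noncomputable def cL_t7_1 : ℕ := (nat_lit 0x6800406)
noncomputable def cL_t7_2 : ℕ := (nat_lit 0x616a000)
noncomputable def cL_t7_3 : ℕ := (nat_lit 0x30c00000)
noncomputable def cL_t7 : List ℕ := [cL_t7_0, cL_t7_1, cL_t7_2, cL_t7_3]
noncomputable def cL_e7 : ℕ := (nat_lit 0x49081340)
noncomputable def cL_t8_0 : ℕ := (nat_lit 0x3fe7488c)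
noncomputable def cL_t8_1 : ℕ := (nat_lit 0x4000000e)
noncomputable def cL_t8_2 : ℕ := (nat_lit 0x6d8c00b0)
noncomputable def cL_t8_3 : ℕ := 0
noncomputable def cL_t8 : List ℕ := [cL_t8_0, cL_t8_1, cL_t8_2, cL_t8_3]
noncomputable def cL_e8 : ℕ := (nat_lit 0x12634800)
noncomputable def cL_C : BulkCert := ⟨31, 5, 4, cL_T, getN [] [[], cL_t1, cL_t2, cL_t3, cL_t4, cL_t5, cL_t6, cL_t7, cL_t8], getN 0 [0, cL_e1, cL_e2, cL_e3, cL_e4, cL_e5, cL_e6, cL_e7, cL_e8]⟩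
noncomputable def cL_U : List (List ℕ) := [[1],[2],[3],[4],[6],[7],[8],[5,6,5,2,6,5],[5,6,7,3,8,4,7,8,7,6,5]]
theorem cL_head : cL_C.head 9 cL_R cL_U [1,2,3,4,5,6,7,8] = true := by decide +kernel
theorem cL_tr0 : allL cL_C.treeOK [1,2,3,4,5,6,7,8] = true := by decide +kernel
theorem cL_j0 : (band (cL_C.just 9 idI cL_R cL_U [1,2,3,4,5,6,7,8] 1 (ones 31) true [⟨0,0,[3],[3,1],0,0,0⟩, ⟨0,0,[4],[4,1],1,0,0⟩, ⟨0,0,[7],[7,1],2,0,0⟩, ⟨0,0,[8],[8,1],3,0,0⟩, ⟨0,0,[6,5],[6,5,1,2,1],34,0,5⟩, ⟨0,0,[2,6,2],[2,6,2,1],38,0,4⟩, ⟨1,1,[1],[],0,2,0⟩, ⟨2,0,[],[],0,0,0⟩]) <|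
  band (cL_C.just 9 idI cL_R cL_U [1,2,3,4,5,6,7,8] 2 (ones 31) true [⟨0,0,[4],[4,2],4,0,0⟩, ⟨0,0,[8],[8,2],6,0,0⟩, ⟨0,0,[1,5,6,1,6,5],[1],34,0,1⟩, ⟨0,0,[3,7,3],[3,7,3,2],47,0,4⟩, ⟨0,0,[2],[],0,2,0⟩, ⟨1,2,[5],[5,2],5,0,0⟩, ⟨1,2,[7,8,7],[7,8,7,2],54,0,4⟩, ⟨1,3,[7,6,3,6,7],[],21,0,0⟩, ⟨1,3,[7],[7,2,6,3,6,2],51,0,6⟩, ⟨2,0,[],[],1,0,0⟩]) <|
  band (cL_C.just 9 idI cL_R cL_U [1,2,3,4,5,6,7,8] 3 (ones 31) true [⟨0,0,[1],[1,3],0,0,1⟩, ⟨0,0,[6],[6,3,2,3,2],30,0,5⟩, ⟨0,0,[2,3,7,3],[7,3,2],47,0,3⟩, ⟨0,0,[4,8,7,4,7,8,4],[],62,0,0⟩, ⟨1,2,[5],[5,3],7,0,0⟩, ⟨1,2,[8],[8,3],8,0,0⟩, ⟨1,2,[1,5,3,5],[1],14,0,1⟩, ⟨1,2,[6,5,6],[6,5,6,3],63,0,4⟩, ⟨1,3,[2,6],[2,6,2,3,2],44,0,5⟩, ⟨1,1,[3],[],0,2,0⟩, ⟨2,0,[],[],2,0,0⟩]) <|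
  band (cL_C.just 9 idI cL_R cL_U [1,2,3,4,5,6,7,8] 4 (ones 31) true [⟨0,0,[1],[1,4],1,0,1⟩, ⟨0,0,[2],[2,4],4,0,1⟩, ⟨0,0,[6],[6,4],10,0,0⟩, ⟨0,0,[7],[7,4,3,4,3],32,0,5⟩, ⟨0,0,[4],[],0,2,0⟩, ⟨1,2,[5],[5,4],9,0,0⟩, ⟨1,2,[1,5,4,5],[1],15,0,1⟩, ⟨1,3,[2,6,4,6],[2],18,0,1⟩, ⟨1,4,[3,7],[3,7,3,4,3],56,0,5⟩, ⟨2,0,[],[],3,0,0⟩, ⟨2,2,[7,8,7,6,5],[8,3,7,6,5],8,0,0⟩]) <|
  band (cL_C.just 9 idI cL_R cL_U [1,2,3,4,5,6,7,8] 5 (ones 31) true [⟨0,0,[7],[7,5],11,0,0⟩, ⟨0,0,[8],[8,5],12,0,0⟩, ⟨0,0,[3,7,5,7],[3],22,0,1⟩, ⟨0,0,[4,8,5,8],[4],25,0,1⟩, ⟨0,0,[6,1,6,5],[1,2,1],34,0,3⟩, ⟨0,0,[5],[],0,2,0⟩, ⟨1,2,[1,5],[1,5,1],17,0,1⟩, ⟨1,4,[1,5],[1,5,1],17,0,1⟩, ⟨2,2,[2,6,5],[6,5],7,0,0⟩]) <|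
  band (cL_C.just 9 idI cL_R cL_U [1,2,3,4,5,6,7,8] 6 (ones 31) true [⟨0,0,[8],[8,6],13,0,0⟩, ⟨0,0,[2,6],[2,6,2],20,0,1⟩, ⟨0,0,[3,6,7],[7,2],21,0,2⟩, ⟨0,0,[4,8,6,8],[4],26,0,1⟩, ⟨0,0,[],[3,6,3,2,3,2],30,0,6⟩, ⟨0,0,[1,6,5],[5,1,2,1],34,0,4⟩, ⟨0,0,[2,1,2,6,2],[2,1],38,0,2⟩, ⟨0,0,[7,3,6,7],[7,6,2],52,0,3⟩, ⟨0,0,[7],[3,7,6,7,6,2],52,0,6⟩, ⟨0,0,[6],[],0,2,0⟩, ⟨1,3,[7,6,1,7],[7,6,1],43,0,3⟩, ⟨2,0,[],[],4,0,0⟩]) <|
  band (cL_C.just 9 idI cL_R cL_U [1,2,3,4,5,6,7,8] 7 (ones 31) true [⟨0,0,[1],[1,7],2,0,1⟩, ⟨0,0,[5],[5,7],11,0,1⟩, ⟨0,0,[3,7],[3,7,3],23,0,1⟩, ⟨0,0,[],[4,7,4,3,4,3],32,0,6⟩, ⟨0,0,[3,7],[2,3,7,3,2],48,0,5⟩, ⟨0,0,[4,7,8,4],[8,4,3],62,0,3⟩, ⟨1,1,[7],[],0,2,0⟩, ⟨2,0,[],[],5,0,0⟩]) <|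
  band (cL_C.just 9 idI cL_R cL_U [1,2,3,4,5,6,7,8] 8 (ones 31) true [⟨0,0,[1],[1,8],3,0,1⟩, ⟨0,0,[2],[2,8],6,0,1⟩, ⟨0,0,[5],[5,8],12,0,1⟩, ⟨0,0,[6],[6,8],13,0,1⟩, ⟨0,0,[7,8,7],[7,8,7,8],65,0,1⟩, ⟨1,5,[4,8],[4,8,4],27,0,1⟩, ⟨1,1,[8],[],0,2,0⟩, ⟨2,0,[],[],6,0,0⟩]) <|
  true) = true := by decide +kernel
theorem cL_tree : ∀ l ∈ ([1,2,3,4,5,6,7,8] : List ℕ), cL_C.treeOK l = true := (allL_iff.1 cL_tr0)
theorem cL_just : ∀ l ∈ ([1,2,3,4,5,6,7,8] : List ℕ), cL_C.Just 9 idI cL_R cL_U [1,2,3,4,5,6,7,8] l (ones cL_C.n) :=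
  (forall_mem_cons' (BulkCert.Just.of_just (C := cL_C) cL_nets (band_left cL_j0))
  (forall_mem_cons' (BulkCert.Just.of_just (C := cL_C) cL_nets (band_left (band_right cL_j0)))
  (forall_mem_cons' (BulkCert.Just.of_just (C := cL_C) cL_nets (band_left (band_right (band_right cL_j0))))
  (forall_mem_cons' (BulkCert.Just.of_just (C := cL_C) cL_nets (band_left (band_right (band_right (band_right cL_j0)))))
  (forall_mem_cons' (BulkCert.Just.of_just (C := cL_C) cL_nets (band_left (band_right (band_right (band_right (band_right cL_j0))))))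
  (forall_mem_cons' (BulkCert.Just.of_just (C := cL_C) cL_nets (band_left (band_right (band_right (band_right (band_right (band_right cL_j0)))))))
  (forall_mem_cons' (BulkCert.Just.of_just (C := cL_C) cL_nets (band_left (band_right (band_right (band_right (band_right (band_right (band_right cL_j0))))))))
  (forall_mem_cons' (BulkCert.Just.of_just (C := cL_C) cL_nets (band_left (band_right (band_right (band_right (band_right (band_right (band_right (band_right cL_j0)))))))))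
  forall_mem_nil'))))))))
theorem cL_idx {G : Type*} [Group G] {g : ℕ → G} {H : Subgroup G} (hg : Sat g 9 idI cL_R)
    (hH : ∀ u ∈ cL_U, wv g u ∈ H) : IdxLe H (Subgroup.closure {x | ∃ l ∈ ([1,2,3,4,5,6,7,8] : List ℕ), g l = x}) 31 :=
  BulkCert.idxLe (C := cL_C) cL_nets cL_sat cL_head cL_tree cL_just hg hH
noncomputable def cLs_C : SeqCert := ⟨nat_lit 5, nat_lit 9, nat_lit 9, nat_lit 0x80807070606050504040303020201010000, (NT.leaf (nat_lit 0) (nat_lit 0x4740023000938028c009c01eb504ad41e74048480e31088400def0363814a30048c00c500520194d075ac154a0232404a80642018c60121004630318c20630418c0842080841c21040840821080001c0006000100002000040008ac80e92039c01e4e048b81e0c047b021cb056a021870359c05460549409040738c14c30228c1882061840441050800000)), (NT.node (nat_lit 14) (NT.node (nat_lit 7) (NT.node (nat_lit 3) (NT.node (nat_lit 1) (NT.leaf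 (nat_lit 20) (nat_lit 0x2050205)) (NT.node (nat_lit 2) (NT.leaf (nat_lit 36) (nat_lit 0x4050405)) (NT.leaf (nat_lit 16428) (nat_lit 0x7050705)))) (NT.node (nat_lit 5) (NT.node (nat_lit 4) (NT.leaf (nat_lit 16432) (nat_lit 0x8050805)) (NT.leaf (nat_lit 16520) (nat_lit 0x201050601060501))) (NT.node (nat_lit 6) (NT.leaf (nat_lit 40) (nat_lit 0x4060406)) (NT.leaf (nat_lit 16436) (nat_lit 0x8060806))))) (NT.node (nat_lit 10) (NT.node (nat_lit 8) (NT.leaf (nat_lit 49236) (nat_lit 0x30607020706)) (NT.node (nat_lit 9) (NT.leaf (nat_lit 82036) (nat_lit 0x1060102010206)) (NT.leaf (nat_lit 16640) (nat_lit 0x605060506050605)))) (NT.node (nat_lit 12) (NT.node (nat_lit 11) (NT.leaf (nat_lit 16464) (nat_lit 0x60206020602)) (NT.leaf (nat_lit 32884) (nat_lit 0x1020601060102))) (NT.node (nat_lit 13) (NT.leaf (nat_lit 16452) (nat_lit 0x50105010501))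 (NT.leaf (nat_lit 16476) (nat_lit 0x70307030703)))))) (NT.node (nat_lit 21) (NT.node (nat_lit 17) (NT.node (nat_lit 15) (NT.leaf (nat_lit 65672) (nat_lit 0x601060501020105)) (NT.node (nat_lit 16) (NT.leaf (nat_lit 6) (nat_lit 0x101)) (NT.leaf (nat_lit 10) (nat_lit 0x202)))) (NT.node (nat_lit 19) (NT.node (nat_lit 18) (NT.leaf (nat_lit 22) (nat_lit 0x505)) (NT.leaf (nat_lit 32) (nat_lit 0x3080308))) (NT.node (nat_lit 20) (NT.leaf (nat_lit 248) (nat_lit 0x304080704070804)) (NT.leaf (nat_lit 16644) (nat_lit 0x807080708070807))))) (NT.node (nat_lit 24) (NT.node (nat_lit 22) (NT.leaf (nat_lit 220) (nat_lit 0x304030403040304)) (NT.node (nat_lit 23) (NT.leaf (nat_lit 82048) (nat_lit 0x4070304030407)) (NT.leaf (nat_lit 108) (nat_lit 0x40804080408)))) (NT.node (nat_lit 26) (NT.node (nat_lit 25) (NT.leaf (nat_lit 260) (nat_lit 0x708070807080708))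 (NT.leaf (nat_lit 30) (nat_lit 0x707))) (NT.node (nat_lit 27) (NT.leaf (nat_lit 14) (nat_lit 0x303)) (NT.leaf (nat_lit 18) (nat_lit 0x404)))))))⟩
noncomputable def cLs_U : List (List ℕ) := []
noncomputable def cLs_HL : List ℕ := [1,2,3,4,6,7,8]
theorem cLs_head : cLs_C.head 9 idI cL_R cLs_U cLs_HL 22 5 6 = true := by decide +kernel
noncomputable def cLs_s0 : List ℕ := [nat_lit 0x1e444020d9a8ec230186cc6751400c3421399b00619350ace26f388a8d6270404c54240e1583a251581c302a35998d42b0285c5024318844e050689046681118c42060b088c61f32078c423038544018071101e191081c281e0c038840f0c87c0e130e05832030917c24020882cba5201840a05b0a00c1e1b2c954b01a2786cb20804868a20a240349815038382c0e2303c2e05068501848068540a0c090281a030004094080201c1606058401040048440a0a0601804320181c1a070482080041c0141206040187005200100e060401878381e01c0a07030f80e03030187407018140802190b064030281c08021b00c0603010d0060301008600301804042e0180c0022]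
theorem cLs_ok0 : cLs_C.StepsOK 28 62 := (SeqCert.StepsOK.refl _ 28).step (L := cLs_s0) (by decide +kernel)
theorem cLs_ok : cLs_C.StepsOK (22 + 6) 62 := cLs_ok0
noncomputable def cLs_V : List (List ℕ × ℕ) := [([5,6,5,2,6,5], nat_lit 0xc0e0b300180406), ([5,6,7,3,8,4,7,8,7,6,5], nat_lit 0x181c1e19109ec381607018040b)]
theorem cLs_loops : allL (fun p => cLs_C.loopOK 9 62 p.1 p.2) cLs_V = true := by decide +kernel
theorem cLs {G : Type*} [Group G] {g : ℕ → G} {H : Subgroup G} (hg : Sat g 9 idI cL_R)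
    (hU : ∀ u ∈ cLs_U, wv g u ∈ H) (hL : ∀ l ∈ cLs_HL, g l ∈ H) :
    ∀ v ∈ cLs_V.map Prod.fst, wv g v ∈ H :=
  SeqCert.mem_of_loops hg hU hL cLs_head cLs_ok cLs_loops
theorem cL_loops {G : Type*} [Group G] {g : ℕ → G} {H : Subgroup G} (hg : Sat g 9 idI cL_R)
    (hU : ∀ u ∈ ([] : List (List ℕ)), wv g u ∈ H) (hL : ∀ l ∈ ([1,2,3,4,6,7,8] : List ℕ), g l ∈ H) :
    ∀ u ∈ cL_U, wv g u ∈ H :=
  loops_mem hU hL (cLs hg hU hL) (by decide +kernel)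
theorem cL {G : Type*} [Group G] {g : ℕ → G} {H : Subgroup G} (hg : Sat g 9 idI cL_R)
    (hU : ∀ u ∈ ([] : List (List ℕ)), wv g u ∈ H) (hL : ∀ l ∈ ([1,2,3,4,6,7,8] : List ℕ), g l ∈ H) :
    IdxLe H (Subgroup.closure {x | ∃ l ∈ ([1,2,3,4,5,6,7,8] : List ℕ), g l = x}) 31 :=
  cL_idx hg (cL_loops hg hU hL)

theorem cL_rels : allL (D2121.rel O21 O21) cL_R = true := by decide +kernel

theorem cL_ker {G : Type*} [Group G] [Finite G] {z x y : G} {E : Emb G z} (h : E.Std D2121 x y)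
    (hO : E.O = O21) (hO' : E.swap.O = O21) : Sat (E.ltr D2121 x y) 9 idI cL_R ∧
    ∀ w : List ℕ, (∀ l ∈ w, l ∈ [1,2,3,4,5,6,7,8]) → wv (prm cL_T cL_C.n) w = 1 → wv (E.ltr D2121 x y) w = 1 := by
  have := h.toXY.isSimpleGroup
  have hs : Sat (E.ltr D2121 x y) 9 idI cL_R :=
    h.sat (by rw [hO, hO']; exact D2121_inv) (by rw [hO, hO']; exact cL_rels)
  exact ⟨hs, fun w hw => wv_eq_one_of_cert (C := cL_C) cL_nets cL_sat cL_head cL_tree cL_just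
    (by decide) hs (cL_loops hs (by simp) (h.mem_normalizer_W hO rfl)) Emb.normalizer_W_ne_top (h.gL_top D2121_gens) hw⟩

/-- The matrices of the letters. -/
noncomputable def cL_M (l : ℕ) : ℕ := getN oc [17043521,17043523,17043649,17051713,17567809,17044065,17041537,16916545,25432137] l

/-- The product of the matrices of a word. -/
noncomputable def cL_ev (w : List ℕ) : ℕ := List.rec oc (fun l _ r => mul (cL_M l) r) w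

theorem cL_det (l : ℕ) : (dec (cL_M l)).det = 1 ∧ toSL (cL_M l) * toSL (cL_M l) = 1 := by
  have : mul (cL_M l) (cL_M l) = oc := by
    rcases getN_mem_or oc [17043521,17043523,17043649,17051713,17567809,17044065,17041537,16916545,25432137] l with h | h
    · exact Nat.eq_of_beq_eq_true (allL_iff.1 (show allL (fun c => Nat.beq (mul c c) oc)
        [17043521,17043523,17043649,17051713,17567809,17044065,17041537,16916545,25432137] = true by decide +kernel) _ h)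
    · rw [cL_M, h, mul_oc ok_oc.lt]
  have h1 := congrArg (fun c => (dec c).det) this
  simp only [dec_mul, Matrix.det_mul, dec_oc, Matrix.det_one] at h1
  have h2 := (by decide : ∀ a : ZMod 2, a * a = 1 → a = 1) _ h1
  exact ⟨h2, by rw [← toSL_mul h2 h2, this]; exact (embSL _ (coe_toSL ok_zc.det |>.trans dec_zc)).el_oc⟩

theorem cL_wv (w : List ℕ) : (dec (cL_ev w)).det = 1 ∧ cL_ev w < 2 ^ 25 ∧
    wv (fun l => toSL (cL_M l)) w = (toSL (cL_ev w))⁻¹ ∧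
    ∀ j < 32, evA (fun l j => mul j (cL_M l)) w j = mul j (cL_ev w) := by
  induction w with
  | nil => exact ⟨ok_oc.det, ok_oc.lt, (inv_eq_one.2
      (embSL _ (coe_toSL ok_zc.det |>.trans dec_zc)).el_oc).symm, fun j hj => (mul_oc (c := j) (by omega)).symm⟩
  | cons l w ih =>
    have e : cL_ev (l :: w) = mul (cL_M l) (cL_ev w) := rfl
    refine ⟨by rw [e, dec_mul, Matrix.det_mul, ih.1, (cL_det l).1, mul_one], mul_lt _ _, by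
      rw [wv_cons, ih.2.2.1, e, toSL_mul (cL_det l).1 ih.1, mul_inv_rev,
        inv_eq_of_mul_eq_one_left (cL_det l).2], fun j hj => ?_⟩
    have h1 : mul j (cL_M l) < 32 := by
      have := allR_zero_iff.1 (show allR (fun j => allL (fun c => Nat.blt (mul j c) 32)
        (oc :: [17043521,17043523,17043649,17051713,17567809,17044065,17041537,16916545,25432137])) 0 32 = true by decide +kernel) j hj
      exact Nat.blt_eq ▸ allL_iff.1 this _ (List.mem_cons.2 (getN_mem_or _ _ l).symm)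
    rw [e, ← mul_assoc', ← ih.2.2.2 _ h1]
    exact force_eq _ _

theorem cL_top : gL (fun l => toSL (cL_M l)) [1,2,3,4,5,6,7,8] = ⊤ := by
  refine Class.SL_eq_top_of_transvection_mem _ fun i j hij c => ?_
  rcases (by decide : ∀ c : ZMod 2, c = 0 ∨ c = 1) c with rfl | rfl
  · rw [show Matrix.SpecialLinearGroup.transvection hij (0 : ZMod 2) = 1 from
      Subtype.ext (Matrix.transvection_zero i j)]
    exact one_mem _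
  have : ∀ i j : Fin 5, i ≠ j → (∀ l ∈ getN [] (getN [] [[[],[8,4,7,6,1,6,7,4,8],[1],[6,1,6],[7,6,1,6,7]],[[4,8,4,7,6,5,1,5,6,7,4,8,4],[],[4,8,7,6,5,6,1,6,5,6,7,8,4],[4,8,6,7,6,5,6,1,6,5,6,7,6,8,4],[7,4,8,6,7,6,5,6,1,6,5,6,7,6,8,4,7]],[[8,4,7,1,5,2,1,2,5,1,7,4,8],[8,4,7,1,5,6,1,6,5,1,7,4,8],[],[2],[7,1,5,6,1,6,5,1,7]],[[8,6,4,7,1,5,2,1,2,5,1,7,4,6,8],[8,6,4,7,1,5,6,1,6,5,1,7,4,6,8],[6,1,5,6,1,6,5,1,6],[],[3]],[[7,8,6,4,7,1,5,2,1,2,5,1,7,4,6,8,7],[4],[7,6,1,5,6,1,6,5,1,6,7],[6,7,6,1,5,6,1,6,5,1,6,7,6],[]]] i) j, l ∈ [1,2,3,4,5,6,7,8]) ∧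
      dec (cL_ev (getN [] (getN [] [[[],[8,4,7,6,1,6,7,4,8],[1],[6,1,6],[7,6,1,6,7]],[[4,8,4,7,6,5,1,5,6,7,4,8,4],[],[4,8,7,6,5,6,1,6,5,6,7,8,4],[4,8,6,7,6,5,6,1,6,5,6,7,6,8,4],[7,4,8,6,7,6,5,6,1,6,5,6,7,6,8,4,7]],[[8,4,7,1,5,2,1,2,5,1,7,4,8],[8,4,7,1,5,6,1,6,5,1,7,4,8],[],[2],[7,1,5,6,1,6,5,1,7]],[[8,6,4,7,1,5,2,1,2,5,1,7,4,6,8],[8,6,4,7,1,5,6,1,6,5,1,7,4,6,8],[6,1,5,6,1,6,5,1,6],[],[3]],[[7,8,6,4,7,1,5,2,1,2,5,1,7,4,6,8,7],[4],[7,6,1,5,6,1,6,5,1,6,7],[6,7,6,1,5,6,1,6,5,1,6,7,6],[]]] i) j)) = Matrix.transvection i j 1 := by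
    decide +kernel
  obtain ⟨h1, h2⟩ := this i j hij
  generalize getN [] (getN [] [[[],[8,4,7,6,1,6,7,4,8],[1],[6,1,6],[7,6,1,6,7]],[[4,8,4,7,6,5,1,5,6,7,4,8,4],[],[4,8,7,6,5,6,1,6,5,6,7,8,4],[4,8,6,7,6,5,6,1,6,5,6,7,6,8,4],[7,4,8,6,7,6,5,6,1,6,5,6,7,6,8,4,7]],[[8,4,7,1,5,2,1,2,5,1,7,4,8],[8,4,7,1,5,6,1,6,5,1,7,4,8],[],[2],[7,1,5,6,1,6,5,1,7]],[[8,6,4,7,1,5,2,1,2,5,1,7,4,6,8],[8,6,4,7,1,5,6,1,6,5,1,7,4,6,8],[6,1,5,6,1,6,5,1,6],[],[3]],[[7,8,6,4,7,1,5,2,1,2,5,1,7,4,6,8,7],[4],[7,6,1,5,6,1,6,5,1,6,7],[6,7,6,1,5,6,1,6,5,1,6,7,6],[]]] i) j = w at h1 h2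
  rw [show Matrix.SpecialLinearGroup.transvection hij 1 = toSL (cL_ev w) from
    Subtype.ext (h2.symm.trans (coe_toSL (cL_wv w).1).symm), ← inv_mem_iff, ← (cL_wv w).2.2.1]
  exact wv_mem _ fun l hl => mem_gL (h1 l hl)

theorem cL_lab : labB cL_T 31 32 17 [0,1910556267,2117178022,265376973,1532667064,716858067,627783198,1418457205,309591872,1670592811,1816292838,497200013,1227447288,952737171,924371294,1190661941,2146387968,235900523,31382182,1883118797,615902392,1431644883,1518632478,728021109,1838987072,477917483,330114534,1649271693,918950904,1193727379,1224180062,957826869] (fun l j => mul j (cL_M l)) [1,2,3,4,5,6,7,8] = true := by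
  decide +kernel

theorem Emb.equiv_SL {G : Type*} [Group G] [Finite G] {z : G} (E : Emb G z) (hO : E.O = O21)
    (hO' : E.swap.O = O21) : Nonempty (G ≃* Matrix.SpecialLinearGroup (Fin 5) (ZMod 2)) := by
  obtain ⟨x, y, h⟩ := Emb.exists_std (D := D2121) (Or.inl hO) (Or.inl hO') (by
    rw [hO, hO']; exact D2121_chk)
  have := h.toXY.isSimpleGroup
  have := Local.isSimpleGroup_SL_two (ι := Fin 5) (by simp)
  obtain ⟨hs, hk⟩ := cL_ker h hO hO'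
  refine nonempty_equiv_of_ker (g' := fun l => toSL (cL_M l))
    (fun l _ => by rw [idI]; exact eq_inv_of_mul_eq_one_left (cL_det l).2)
    (fun l hl => hs.inv l (by simp at hl; omega)) cL_top (h.gL_top D2121_gens) fun w hw e =>
      hk w hw (wv_prm_eq_one cL_nets cL_lab hw fun j hj => ?_)
  obtain ⟨h1, h2, h3, h4⟩ := cL_wv w
  rw [e, eq_comm, inv_eq_one] at h3
  rw [h4 j hj, dec_inj h2 ok_oc.lt (by
    rw [← coe_toSL h1, h3, dec_oc, Matrix.SpecialLinearGroup.coe_one]), mul_oc (by omega)]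

end Cfsg.Lib.SporChar.He
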