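/-
Normalisation of a perfect double cover of `U₆(2)`; the split case; uniqueness of `J`.
-/
import Cfsg.Agent.SporChar.FiTU6

set_option autoImplicit false
set_option Elab.async false

namespace Cfsg.Lib.Spor.FT

open TQ U6 Equiv

variable {G : Type*} [Group G]

theorem exists_fix {L α : Type*} [Group L] [Finite α] (hL : commutator L = ⊤) (ρ : L →* Perm α) {s : L}
    (hs : s * s = 1) (h : Nat.card α % 4 = 2 ∨ Nat.card α % 2 = 1) : ∃ x, ρ s x = x := by
  classical
  have := Fintype.ofFinite α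
  by_contra hn
  push Not at hn
  have h0 : Fintype.card (Function.fixedPoints (ρ s)) = 0 :=
    Fintype.card_eq_zero_iff.2 ⟨fun x => hn x x.2⟩
  have h2 : ρ s ^ 2 = 1 := by rw [pow_two, ← map_mul, hs, map_one]
  rw [Nat.card_eq_fintype_card] at h
  rcases h with h | h
  · have h3 := Perm.sign_of_pow_two_eq_one h2
    have h4 : (Perm.sign.comp ρ) s = 1 :=
      Abelianization.commutator_subset_ker (Perm.sign.comp ρ) (hL ▸ Subgroup.mem_top s)
    rw [h0, Odd.neg_one_pow ⟨Fintype.card α / 4, by omega⟩] at h3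
    exact absurd (h4.symm.trans h3) (by decide)
  · have : Fact (Nat.Prime 2) := ⟨Nat.prime_two⟩
    have h3 := Perm.card_fixedPoints_modEq (p := 2) (n := 1) (f := (⇑(ρ s) : α → α))
      (funext fun x => congrArg (fun σ : Perm α => σ x) h2)
    rw [h0, Nat.ModEq] at h3
    omega

theorem Pre.card {Y : Type*} [TQ Y] {d : G} {π : G →* Perm Y} (P : Pre d π) :
    Nat.card G = 2 * Nat.card (Inn Y) := by
  have h1 : π.range = Inn Y := le_antisymm (by rintro _ ⟨h, rfl⟩; exact P.mem h) P.sur
  have h2 : Nat.card π.ker = 2 := by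
    rw [← SetLike.coe_sort_coe, show (π.ker : Set G) = {1, d} from Set.ext P.ker, Nat.card_coe_set_eq,
      Set.ncard_pair P.d1.symm]
  rw [← h1, ← π.ker.card_mul_index, h2, Subgroup.index_ker]

theorem Ov.mem_A {d : G} {π : G →* Perm T6} {a : T6 → G} (h : Ov d π a) {b : G} (hb : b ∈ h.Tw 6)
    (hf : π b = 1) : b ∈ h.A := by
  obtain ⟨n, hn, h1⟩ := h.nf6 hb
  obtain rfl : n = 0 := by
    by_contra h0
    have := allN_iff.1 chk_U n hn
    simp only [Bool.and_eq_true] at this
    obtain ⟨i, hi, h2⟩ := anyN_iff.1 (allN_iff.1 this.2 0 (by omega))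
    rw [← val_wpt hi, ← (h.val_of hn h1 (inW_wpt hi)).1, hf] at h2
    exact absurd h2 (by simp [show bw rt 6 0 = [] from rfl, wac])
  simpa [U, aw, show bw rt 6 0 = [] from rfl] using h1

theorem Pre.not_split [Finite G] {d : G} {π : G →* Perm T6} (P : Pre d π) {a : T6 → G} :
    ¬ Ov 1 π a := by
  intro h
  have h1 := (h.Tw 6).card_mul_index
  rw [h.card_T, h.card_A1 rfl, P.card, card_Inn_T6] at h1
  obtain ⟨x, hx⟩ := exists_fix P.perf (MulAction.toPermHom G (G ⧸ h.Tw 6)) P.d2
    (Or.inl (by change (h.Tw 6).index % 4 = 2; omega))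
  obtain ⟨g, rfl⟩ := QuotientGroup.mk_surjective x
  change ((d * g : G) : G ⧸ h.Tw 6) = g at hx
  have h2 := QuotientGroup.eq.1 hx.symm
  rw [← (P.cen g).eq, inv_mul_cancel_left] at h2
  obtain ⟨m, hm, e⟩ := h.mem_A h2 P.πd
  rcases h.el_ker hm (by rw [e, P.πd]) with rfl | rfl
  · exact P.d1 (by rw [← e, el_zero])
  · exact P.d1 (by rw [← e, Pl.el_d])

/-- permutation tables of the root elements -/
def T22t (j : ℕ) : ℕ := fld 0x2000000004000010000040000200000020000000400400000100000800000000201000000000100001000000800080000008000002000000010000040000020000082000000020000080000000200200000004000800000008001000000000400040000100000000080001000000800010000400000000010002000000040000020000102000000080000040000100000001000400001000000800000002000000100000080004000020000200000000020000400000200010000008000000040000800000012000000008000020000010000000800000100000080002000800000400001000000004000040000000020200000000400000200100000080000000040001000000012000000400000200001000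00080000008000010000000100000080000800001000000400000002004000002000000040000020000008000010000004000200000001200000020000040000080000100000004000000100010000001000002000000080000400000010008000000800000040000020000200000002000004000008000001200000000400000040000020000004002000001000000800010000008000004000100000000200000080000100080000040000000010000008020000000002000001200000010000008000004000000100100000080000040000000400000040000020002000000200020000000004001000000800000010000008000080000002000001200000020000040000080000100000000100004000008000000080000800001000000004000200010000002000000020000040000010000008000400000002000001200000080000100000020000040000008000010000000100001000002000000080000040000200004000000800000400000004000010000008000020000002000001 528 j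

theorem chk_T22 : allN 10 (fun j => allN 21 (fun i => anyN 21 fun i' =>
    Nat.beq (wac (rt j) (wc i)) (wc i') && Nat.beq (fld (T22t j) 24 i) (2 ^ i')) &&
      Nat.beq (fld (T22t j) 24 21) (2 ^ 21)) = true := by decide +kernel

theorem el22_a (d : G) (a : T6 → G) {i : ℕ} (h : i < 21) : el (gk 21 d a) 22 (2 ^ i) = a (wpt i) := by
  rw [el_two_pow _ (by omega), gk, if_pos h]

theorem el22_d (d : G) (a : T6 → G) : el (gk 21 d a) 22 (2 ^ 21) = d := el_two_pow _ (by omega)

theorem Pl0.der {d : G} {a : T6 → G} (h : Pl0 d a) (ops : List (ℕ × ℕ × ℕ)) {s : List ℕ}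
    (hs : ∀ m ∈ s, el (gk 21 d a) 22 m = 1) :
    ∀ m ∈ der (fun j => lin (T22t (Nat.mod j 10)) 24 22) ops s, el (gk 21 d a) 22 m = 1 := by
  have hc := h.ci le_rfl 22
  refine der_sound (el_zero _ _) (fun m n h1 h2 => by rw [hc.el_xor, h1, h2, one_mul]) (fun j m h1 => ?_)
    ops hs
  have hj : Nat.mod j 10 < 10 := Nat.mod_lt _ (by decide)
  generalize Nat.mod j 10 = j at hj
  have h2 := allN_iff.1 chk_T22 j hj
  simp only [Bool.and_eq_true, Nat.beq_eq, allN_iff, anyN_iff] at h2
  rw [← conj_el (aw a (rt j)) hc (fun i hi => ?_), h1, mul_one, mul_inv_cancel]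
  rcases Nat.lt_succ_iff_lt_or_eq.1 hi with h4 | rfl
  · obtain ⟨i', hi', e1, e2⟩ := h2.1 i h4
    rw [gk, if_pos h4, wpt, aw_conj h.rep (chkT_spec (chkT_LT hj)).1 (wc_spec h4).1, e1, e2, el22_a _ _ hi']
    rfl
  · rw [h2.2, el22_d, gk, if_neg (by omega), ← (h.cen_aw _).eq, mul_inv_cancel_right]

theorem chk_B : fN (Nat.succ 0) (fun _ => allN 21 fun i =>
    anyL (0 :: der (fun j => lin (T22t (Nat.mod j 10)) 24 22) [(1, 6, 0), (1, 7, 0), (1, 0, 1), (1, 1, 1), (1, 3, 1), (1, 4, 1), (1, 5, 1), (1, 6, 1), (1, 8, 1), (0, 0, 5), (0, 12, 6), (0, 13, 7), (0, 14, 8), (0, 15, 9), (0, 16, 10), (0, 4, 5), (0, 18, 6), (0, 19, 8), (0, 20, 10), (0, 21, 11), (0, 0, 2), (0, 23, 6), (0, 24, 7), (0, 25, 8), (0, 26, 9), (0, 27, 10), (0, 28, 11), (0, 0, 2), (0, 30, 5), (0, 31, 7), (0, 32, 9), (0, 2, 5), (0, 34, 6), (0, 35, 8), (0, 36, 11), (0, 0, 2), (0, 38, 7), (0, 39, 9), (0, 40, 10), (0, 0, 3), (0, 42, 5), (0, 43, 6), (0, 44, 7), (0, 45, 8), (0, 46, 9), (0, 47, 10), (0, 48, 11), (0, 0,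 6), (0, 50, 8), (0, 51, 9), (0, 52, 11), (0, 2, 5), (0, 54, 6), (0, 55, 11), (0, 0, 1), (0, 57, 3), (0, 58, 4), (0, 59, 7), (0, 60, 9), (0, 0, 2), (0, 62, 5), (0, 63, 7), (0, 64, 9), (0, 65, 10)] [2097691, 591879, 3166215])
      (Nat.beq (Nat.xor (2 ^ i) (lin 0x200000000100000080000040000020000010000008000004000002000001 24 10 (fld CT 12 i))))) = true := by
  decide +kernel

theorem Pl0.toPl {d : G} {a : T6 → G} (h : Pl0 d a) (h1 : el (gk 21 d a) 22 2097691 = 1)
    (h2 : el (gk 21 d a) 22 591879 = 1) (h3 : el (gk 21 d a) 22 3166215 = 1) : Pl d a := by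
  refine ⟨h, fun i hi => ?_⟩
  have hc := h.ci le_rfl 22
  obtain ⟨m, hm, e⟩ := anyL_iff.1 (allN_iff.1 (fN_eq _ _ ▸ chk_B) i hi)
  have h4 : el (gk 21 d a) 22 m = 1 := by
    rcases List.mem_cons.1 hm with rfl | hm
    · exact el_zero _ _
    · exact h.der _ (by simpa using ⟨h1, h2, h3⟩) m hm
  rw [← Nat.eq_of_beq_eq_true e, Nat.xor_eq, hc.el_xor, el22_a _ _ hi, mul_eq_one_iff_eq_inv, hc.el_inv] at h4
  rw [h4]
  refine (el_lin hc (fun j hj => ?_) _).symm
  rcases Nat.lt_succ_iff_lt_or_eq.1 hj with h5 | rfl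
  · rw [gk, if_pos h5, ← el22_a d a (by omega)]
    congr 1
    interval_cases j <;> decide +kernel
  · exact (el22_d d a).symm

theorem Pl.el22 {d : G} {a : T6 → G} (h : Pl d a) (m : ℕ) :
    el (gk 21 d a) 22 m = el (gk 9 d a) 10 (lin CT 12 22 m) := by
  refine el_lin h.c10 (fun i hi => ?_) m
  rcases Nat.lt_succ_iff_lt_or_eq.1 hi with h5 | rfl
  · rw [gk, if_pos h5, h.cd i h5]
  · exact Pl.el_d.symm

/-- multiplication of the first two coordinates -/
def dl2 (c n : ℕ) : ℕ := nrm (Nat.xor (Nat.land n 4080) (sm c (Nat.land n 15)))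

/-- a diagonal automorphism normalising `W` -/
def δ2 : Perm T6 := mkPerm (dl2 2) (dl2 3) (by decide +kernel)

theorem δ2_mem : δ2 ∈ Aut T6 := mkPerm_mem_Aut _ (by decide +kernel)

theorem chk_al : allN 21 (fun i => anyN 21 fun i' => Nat.beq (dl2 2 (wc i)) (wc i') &&
    Nat.beq (fld 0x200000040000100000080000020000004000010000008000000800002000001000000020000008000100000080000400000040000200000010000004000002000001 24 i) (2 ^ i')) = true := by decide +kernel

theorem Pl0.el_δ {d : G} {a : T6 → G} (h : Pl0 d a) (m : ℕ) :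
    el (gk 21 d fun x => a (δ2 x)) 22 m = el (gk 21 d a) 22 (lin 0x200000040000100000080000020000004000010000008000000800002000001000000020000008000100000080000400000040000200000010000004000002000001 24 22 m) := by
  refine el_lin (h.ci le_rfl 22) (fun i hi => ?_) m
  rcases Nat.lt_succ_iff_lt_or_eq.1 hi with h5 | rfl
  · obtain ⟨i', hi', e⟩ := anyN_iff.1 (allN_iff.1 chk_al i h5)
    rw [Bool.and_eq_true, Nat.beq_eq, Nat.beq_eq] at e
    rw [gk, if_pos h5, e.2, el22_a _ _ hi']
    refine congrArg a (T6.ext ?_)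
    rw [val_wpt hi', ← e.1, ← val_wpt h5]; rfl
  · exact (el22_d d a).symm

theorem Pl0.el_mul {d : G} {a : T6 → G} (h : Pl0 d a) (e : G) (T : ℕ)
    (hT : ∀ i < 21, fld T 24 i = 2 ^ i ^^^ 2 ^ 21) (he : e = el (gk 21 d a) 22 (fld T 24 21)) (m : ℕ) :
    el (gk 21 e fun x => a x * d) 22 m = el (gk 21 d a) 22 (lin T 24 22 m) := by
  have hc := h.ci le_rfl 22
  refine el_lin hc (fun i hi => ?_) m
  rcases Nat.lt_succ_iff_lt_or_eq.1 hi with h5 | rfl
  · rw [gk, if_pos h5, hT i h5, hc.el_xor, el22_a _ _ h5, el22_d]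
  · exact he

theorem Cov.pl0 {d : G} {π : G →* Perm T6} {a : T6 → G} (C : Cov d π a) : Pl0 d a :=
  ⟨C.rep, C.d2, fun x => (C.cen _).symm⟩

theorem Cov.el22_or {d : G} {π : G →* Perm T6} {a : T6 → G} (C : Cov d π a) {m : ℕ}
    (hm : Nat.land (lin CT 12 22 m) 511 = 0) : el (gk 21 d a) 22 m = 1 ∨ el (gk 21 d a) 22 m = d := by
  rw [← C.ker, map_el', el_congr_left (g' := gk 21 1 toPerm) (fun i _ => by
    unfold gk; split_ifs
    exacts [C.πa _, C.πd]), pl_one.el22]
  exact (Pl.el_small hm).elim id id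

/-- the normalised structure -/
structure N22 (d : G) (π : G →* Perm T6) (a : T6 → G) : Prop extends Cov d π a where
  pl : Pl d a

theorem N22.ov {d : G} {π : G →* Perm T6} {a : T6 → G} (h : N22 d π a) : Ov d π a := ⟨h.pl, h.πa, h.πd⟩

attribute [local irreducible] el in
theorem Cov.exists_n22 [Finite G] {d : G} {π : G →* Perm T6} {a : T6 → G} (C : Cov d π a)
    (hL : el (gk 21 d a) 22 2097691 = 1) : ∃ π a, N22 d π a := by
  have hc := C.pl0.ci le_rfl 22
  have h2 : el (gk 21 d a) 22 (591879 ^^^ 1069063 ^^^ 303111) = 1 :=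
    C.pl0.der [(1, 6, 0), (1, 7, 0), (1, 2, 1), (1, 8, 1), (1, 9, 1), (1, 2, 2), (1, 8, 2), (1, 9, 2), (1, 4, 4), (0, 0, 2), (0, 10, 6), (0, 11, 7), (0, 12, 8), (0, 13, 9)] (s := [2097691]) (by simpa using hL) _ (by decide +kernel)
  have hD : ∀ m, el (gk 21 d a) 22 m = d → el (gk 21 d a) 22 (m ^^^ 2 ^ 21) = 1 := fun m e => by
    rw [hc.el_xor, e, el22_d, C.d2]
  rw [hc.el_xor, hc.el_xor] at h2
  have C1 := C.pre δ2_mem
  rcases C.el22_or (m := 591879) (by decide +kernel) with e0 | e0 <;>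
    rcases C.el22_or (m := 1069063) (by decide +kernel) with e1 | e1
  · have h3 := C.pl0.el_mul 1 0x300000280000240000220000210000208000204000202000201000200800200400200200200100200080200040200020200010200008200004200002200001 (by decide +kernel) (el_zero _ _).symm
    refine absurd ⟨Pl0.toPl ⟨C.mul_d.rep, mul_one _, fun _ => Commute.one_left _⟩ ?_ ?_ ?_, C.mul_d.πa,
      map_one π⟩ (C.not_split (a := fun x => a x * d))
    · rw [h3]; exact (congrArg _ (by decide +kernel)).trans (hL)
    · rw [h3]; exact (congrArg _ (by decide +kernel)).trans (e0)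
    · rw [h3]; exact (congrArg _ (by decide +kernel)).trans (e1)
  · exact ⟨π, a, C, C.pl0.toPl hL e0 ((congrArg _ (by decide +kernel)).trans (hD _ e1))⟩
  · rw [e0, e1, mul_one, mul_eq_one_iff_inv_eq, inv_eq_of_mul_eq_one_right C.d2] at h2
    refine ⟨_, _, C1, C1.pl0.toPl ?_ ?_ ?_⟩
    · rw [C.pl0.el_δ]; exact (congrArg _ (by decide +kernel)).trans (hL)
    · rw [C.pl0.el_δ]; exact (congrArg _ (by decide +kernel)).trans (e1)
    · rw [C.pl0.el_δ]; exact (congrArg _ (by decide +kernel)).trans (hD _ h2.symm)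
  · rw [e0, e1, C.d2, one_mul] at h2
    have C2 := C1.pre δ2_mem
    refine ⟨_, _, C2, C2.pl0.toPl ?_ ?_ ?_⟩
    · rw [C1.pl0.el_δ, C.pl0.el_δ]; exact (congrArg _ (by decide +kernel)).trans (hL)
    · rw [C1.pl0.el_δ, C.pl0.el_δ]; exact (congrArg _ (by decide +kernel)).trans (h2)
    · rw [C1.pl0.el_δ, C.pl0.el_δ]; exact (congrArg _ (by decide +kernel)).trans (hD _ e0)

theorem Pre.exists_n22 [Finite G] {d : G} {π : G →* Perm T6} (P : Pre d π) : ∃ π a, N22 d π a := by
  obtain ⟨a, C⟩ := P.exists_cov_T6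
  rcases C.el22_or (m := 539) (by decide +kernel) with e | e
  · refine C.mul_d.exists_n22 ?_
    rw [C.pl0.el_mul d 0x200000300000280000240000220000210000208000204000202000201000200800200400200200200100200080200040200020200010200008200004200002200001 (by decide +kernel) (el22_d d a).symm]; exact (congrArg _ (by decide +kernel)).trans (e)
  · refine C.exists_n22 ?_
    rw [show 2097691 = 539 ^^^ 2 ^ 21 by decide, (C.pl0.ci le_rfl 22).el_xor, e, el22_d, C.d2]

theorem exists_conj_le [Finite G] {p : ℕ} [Fact p.Prime] {H P : Subgroup G} (hP : IsPGroup p P)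
    (hH : ¬ p ∣ H.index) : ∃ g : G, ∀ x ∈ P, g * x * g⁻¹ ∈ H := by
  obtain ⟨q, hq⟩ := hP.nonempty_fixed_point_of_prime_not_dvd_card (G ⧸ H) hH
  obtain ⟨g, rfl⟩ := QuotientGroup.mk_surjective q
  refine ⟨g⁻¹, fun x hx => ?_⟩
  have := hq ⟨x⁻¹, P.inv_mem hx⟩
  change ((x⁻¹ * g : G) : G ⧸ H) = g at this
  simpa [mul_assoc] using QuotientGroup.eq.1 this

/-- elementary abelian 2-subgroups -/
structure EA (B : Subgroup G) : Prop where
  sq : ∀ x ∈ B, x * x = 1
  com : ∀ x ∈ B, ∀ y ∈ B, Commute x y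

theorem EA.map {G' : Type*} [Group G'] {B : Subgroup G} (h : EA B) (φ : G →* G') : EA (B.map φ) := by
  constructor
  · rintro _ ⟨x, hx, rfl⟩
    rw [← map_mul, h.sq x hx, map_one]
  · rintro _ ⟨x, hx, rfl⟩ _ ⟨y, hy, rfl⟩
    exact (h.com x hx y hy).map φ

theorem CI.ea {g : ℕ → G} {k : ℕ} (h : CI g k) : EA h.sub :=
  ⟨fun _ => h.sub_sq, fun _ hx _ hy => h.sub_comm hx hy⟩

theorem EA.pgroup {B : Subgroup G} (h : EA B) : IsPGroup 2 B := fun x =>
  ⟨1, Subtype.ext (by simpa [pow_two] using h.sq x x.2)⟩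

/-- Large elementary abelian subgroups of a 2-subgroup are a conjugate of `A`. -/
theorem N22.ju [Finite G] {d : G} {π : G →* Perm T6} {a : T6 → G} (h : N22 d π a) {S : Subgroup G}
    (hS : IsPGroup 2 S) : ∃ g : G, ∀ B ≤ S, EA B → 2 ^ 10 ≤ Nat.card B →
      B.map (MulAut.conj g).toMonoidHom = h.pl.A := by
  have : Fact (Nat.Prime 2) := ⟨Nat.prime_two⟩
  have h1 := (h.ov.Tw 6).card_mul_index
  rw [h.ov.card_T, h.ov.card_A h.d1, h.card, card_Inn_T6] at h1
  obtain ⟨g, hg⟩ := exists_conj_le (H := h.ov.Tw 6) hS (by omega)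
  refine ⟨g, fun B hB hE hc => h.ov.eq_A h.d1 ?_ (hE.map _).sq (hE.map _).com ?_⟩
  · rintro _ ⟨x, hx, rfl⟩
    exact hg x (hB hx)
  · rwa [Subgroup.card_map_of_injective (MulAut.conj g).injective]

end Cfsg.Lib.Spor.FT
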