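import Cfsg.Agent.SporChar.Fix7A
import Cfsg.Agent.SporChar.HeHeld
import Cfsg.Agent.Solv.PConstrained
import Cfsg.Agent.Trans.Component
import Cfsg.Agent.S1258
import Cfsg.Agent.S5604

/-! Groups of Monster type: the normalizer of the subgroup of order 7 of type `He`. -/

set_option autoImplicit false

namespace Cfsg.Lib.SporChar

open Subgroup Cfsg.Lib.Spor Cfsg.Lib.Local Cfsg.Lib.Solv Cfsg.Lib.SporChar.Fx
open scoped Pointwise

theorem M24_not_real_seven {σ n : M24} (ho : orderOf σ = 7) : n * σ * n⁻¹ ≠ σ⁻¹ := fun e => by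
  obtain ⟨h1, h2, -⟩ := Cfsg.Agent.S5604.result (zpowers σ) (by rw [Nat.card_zpowers, ho])
  have hn : n ∈ normalizer (zpowers σ : Set M24) :=
    MP.mem_normalizer_zpowers_iff.2 (e ▸ inv_mem (mem_zpowers σ))
  have h3 := ((centralizer (zpowers σ : Set M24)).subgroupOf
    (normalizer (zpowers σ : Set M24))).card_mul_index
  rw [Nat.card_congr (subgroupOfEquivOfLe (centralizer_le_normalizer _)).toEquiv, h1, h2] at h3
  have h4 := pow_index_mem (H := (centralizer (zpowers σ : Set M24)).subgroupOf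
    (normalizer (zpowers σ : Set M24))) ⟨n, hn⟩
  rw [show index _ = 3 by omega] at h4
  have h5 : σ * n ^ 3 = n ^ 3 * σ := h4 σ (mem_zpowers σ)
  have e' : n * σ⁻¹ * n⁻¹ = σ := by rw [← conj_inv, e, inv_inv]
  have h6 : n ^ 3 * σ * (n ^ 3)⁻¹ = σ⁻¹ := by
    calc _ = n * (n * (n * σ * n⁻¹) * n⁻¹) * n⁻¹ := by simp only [pow_three, mul_inv_rev, mul_assoc]
      _ = _ := by rw [e, e', e]
  rw [← h5, mul_inv_cancel_right, eq_inv_iff_mul_eq_one, ← sq] at h6
  exact absurd (ho ▸ orderOf_dvd_of_pow_eq_one h6) (by decide)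

theorem exists_conj_cube : ∃ g : Co0, g * permHom s7A * g⁻¹ = permHom s7A ^ 3 := by
  have h : orderOf (s7A : Equiv.Perm GolayPt) = 7 := MP.orderOf_r7A
  obtain ⟨k, hk, e | e⟩ := MP.M24_order_seven (s7A ^ 3).2 (by
    rw [coe_pow, Nat.Coprime.orderOf_pow (by rw [h]; decide), h])
  · exact ⟨permHom ⟨k, hk⟩, by
      rw [← map_pow, ← map_inv, ← map_mul, ← map_mul]; exact congrArg _ (Subtype.ext e)⟩
  · refine ⟨permHom ⟨k, hk⟩ * (CK.el A7)⁻¹, ?_⟩
    rw [mul_inv_rev, inv_inv, ← mul_assoc, mul_assoc _ _ (CK.el A7), ← conj7, ← mul_assoc,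
      inv_mul_cancel_right, ← map_pow, ← map_inv, ← map_mul, ← map_mul]
    exact congrArg _ (Subtype.ext e)

variable {G : Type*} [Group G] [Finite G]

omit [Finite G] in
theorem exists_invol_of_aut {C B : Subgroup G} [(B.subgroupOf C).Normal] {t : G}
    (hC : t ∈ normalizer (C : Set G)) (hB : t ∈ normalizer (B : Set G)) (h2 : t * t ∈ C)
    (hZ : center (C ⧸ B.subgroupOf C) = ⊥)
    (h : ∀ α : MulAut (C ⧸ B.subgroupOf C), ∃ c, MulAut.conj c * α * (MulAut.conj c * α) = 1) :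
    ∃ c ∈ C, c * t * (c * t) ∈ B := by
  obtain ⟨c, hc⟩ := h (QuotientGroup.congr _ _ (C.normalizerMonoidHom ⟨t, hC⟩) (Subgroup.ext fun x =>
    mem_map_equiv.trans ((mem_normalizer_iff.1 (inv_mem hB) x).symm)))
  obtain ⟨c, rfl⟩ := QuotientGroup.mk_surjective c
  have h3 : (c : G) * t * (c * t) ∈ C := by
    have := mul_mem (mul_mem c.2 ((mem_normalizer_iff.1 hC _).1 c.2)) h2
    convert this using 1; group
  refine ⟨c, c.2, (QuotientGroup.eq_one_iff (N := B.subgroupOf C) ⟨_, h3⟩).1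
    (mem_bot.1 (hZ ▸ mem_center_iff.2 fun x => ?_))⟩
  obtain ⟨x, rfl⟩ := QuotientGroup.mk_surjective x
  refine (mul_inv_eq_iff_eq_mul.1 (Eq.trans ?_ (DFunLike.congr_fun hc (QuotientGroup.mk x)))).symm
  refine congrArg QuotientGroup.mk (Subtype.ext ?_)
  change _ * (x : G) * ((c : G) * t * (c * t))⁻¹ =
    c * (t * (c * (t * x * t⁻¹) * (c : G)⁻¹) * t⁻¹) * (c : G)⁻¹
  group

theorem relIndex_eq_six {b n : G} (ho : orderOf b = 7) (hn : n * b * n⁻¹ = b ^ 3) :
    (centralizer (zpowers b : Set G)).relIndex (normalizer (zpowers b : Set G)) = 6 := by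
  have h1 : ∀ k : ℕ, n ^ k * b * (n ^ k)⁻¹ = b ^ 3 ^ k := fun k => by
    induction k with
    | zero => simp
    | succ k ih => rw [pow_succ' 3, pow_mul, ← hn, conj_pow, ← ih]; group
  have h2 := pow_index_mem (H := (centralizer (zpowers b : Set G)).subgroupOf
    (normalizer (zpowers b : Set G))) ⟨n, MP.mem_normalizer_zpowers_iff.2 (hn ▸ npow_mem_zpowers b 3)⟩
  have h3 : ((centralizer (zpowers b : Set G)).subgroupOf
      (normalizer (zpowers b : Set G))).index ≤ 6 := by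
    rw [← normalizerMonoidHom_ker, index_ker]
    refine (card_le_card_group _).trans ?_
    rw [IsCyclic.card_mulAut, Nat.card_zpowers, ho]
    decide
  have h4 := index_ne_zero_of_finite (H := (centralizer (zpowers b : Set G)).subgroupOf
    (normalizer (zpowers b : Set G)))
  rw [relIndex]
  generalize index ((centralizer (zpowers b : Set G)).subgroupOf _) = d at h2 h3 h4
  have h5 := h1 d
  rw [← show b * n ^ d = n ^ d * b from h2 b (mem_zpowers b), mul_inv_cancel_right] at h5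
  nth_rewrite 1 [← pow_one b] at h5
  rw [pow_eq_pow_iff_modEq, ho] at h5
  interval_cases d <;> first | rfl | exact absurd rfl h4 | exact absurd h5 (by decide)

theorem mem_layer_of_quot {B : Subgroup G} [B.Normal] (hB : B ≤ center G) (hc : Odd (Nat.card B))
    [IsSimpleGroup (G ⧸ B)] (hZ : center (G ⧸ B) = ⊥) {z : G} (hz : z * z = 1) : z ∈ layer G := by
  have e : B = center G := le_antisymm hB fun x hx => (QuotientGroup.eq_one_iff x).1
    (mem_bot.1 (hZ ▸ mem_center_iff.2 fun y => by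
      obtain ⟨y, rfl⟩ := QuotientGroup.mk_surjective y
      exact congrArg QuotientGroup.mk (mem_center_iff.1 hx y)))
  subst e
  obtain ⟨h1, h2⟩ := Cfsg.Agent.S1258.result (X := G) inferInstance fun h => by
    obtain ⟨x, hx⟩ := exists_ne (1 : G ⧸ center G)
    exact hx (mem_bot.1 (hZ ▸ mem_center_iff.2 fun y => h.1.1 y x))
  refine le_sSup (s := {K : Subgroup G | IsComponent K}) (a := commutator G)
    ⟨Normal.isSubnormal inferInstance, h2⟩ ?_
  obtain ⟨c, hc1, a, ha, rfl⟩ := mem_sup_of_normal_right.1 (h1 ▸ mem_top z)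
  obtain ⟨k, hk⟩ := hc
  have h3 : a ^ (2 * k + 1) = 1 := hk ▸ congrArg Subtype.val (pow_card_eq_one' (x := (⟨a, ha⟩ : center G)))
  have h4 := pow_mem hc1 (2 * k + 1)
  rwa [← mul_one (c ^ _), ← h3, ← Commute.mul_pow (mem_center_iff.1 ha c), pow_succ, pow_mul, sq, hz,
    one_pow, one_mul] at h4

namespace MonData

variable {z s b : G} {Q R : Subgroup G} {π : centralizer ({z} : Set G) →* Spor.Co1}
  {r : leechLattice → G → Prop}

omit [Finite G] in
theorem exists_twist_seven (h : MonData z Q π r) (hr : r (e8 none) s)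
    (hb : b ∈ centralizer ({z, s} : Set G)) (ho : orderOf b = 7) : ∃ π' r', MonData z Q π' r' ∧
      π' ⟨b, (mem_cent_pair.mp hb).1⟩ = pCo (permHom s7A) := by
  obtain ⟨σ, h1, h2⟩ := h.exists_twist_perm hr hb Nat.prime_seven (by decide) ho
  obtain ⟨k, hk, e | e⟩ := MP.M24_order_seven σ.2 h1
  · obtain ⟨π', r', h', -, hπ⟩ := h2 k hk s7A e
    exact ⟨_, _, h', hπ⟩
  · obtain ⟨π', r', h', -, hπ⟩ := h2 k hk s7B e
    refine ⟨_, _, h'.twist (CK.el A7)⁻¹, ?_⟩
    change (pCo _)⁻¹ * π' _ * (pCo _)⁻¹⁻¹ = _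
    rw [hπ, inv_inv, ← map_inv, inv_inv, ← map_mul, conj7, ← map_mul, mul_inv_cancel_right]

theorem exists_two_cent (h : MonData z Q π r) (hp : LXPair Q R z s)
    (hb : b ∈ centralizer ({z, s} : Set G)) (ho : orderOf b = 7) :
    ∃ t ∈ Q ⊓ R, t ∈ centralizer ({b} : Set G) ∧ t ≠ 1 ∧ ¬ IsConj z t := by
  obtain ⟨g₀, hg⟩ := h.exists_twist hp
  obtain ⟨σ, h1, h2⟩ := (h.twist g₀).exists_twist_perm hg hb Nat.prime_seven (by decide) ho
  have := Fact.mk Nat.prime_seven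
  have h3 := Equiv.Perm.card_compl_support_modEq (p := 7) (n := 1) (σ := σ.1)
    (by rw [pow_one, ← h1, pow_orderOf_eq_one])
  obtain ⟨i, hi, j, hj, hij⟩ := Finset.one_lt_card.1 (show 1 < σ.1.supportᶜ.card by
    rw [show Fintype.card GolayPt = 24 by decide, Nat.ModEq] at h3; omega)
  rw [Finset.mem_compl, Equiv.Perm.notMem_support] at hi hj
  obtain ⟨k, k1, k2⟩ := MulAction.is_two_pretransitive_iff.1
    (MP.M24_isMultiplyPretransitive (n := 2) (by norm_num))
    (show (some 14 : GolayPt) ≠ some 22 by decide) hij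
  obtain ⟨π', r', h', hs', hπ⟩ := h2 k k.2 (k⁻¹ * σ * k) (by simp [mul_assoc])
  obtain ⟨a, ha, e⟩ := (h'.A_eq hp hs').1.ge ⟨_, mono_one_mem octA, rfl⟩
  obtain ⟨c, hc⟩ := h'.tot vecB
  have hv := h'.mul (h'.conj e hc) (h'.inv hc)
  rw [← sub_eq_add_neg] at hv
  refine ⟨_, hp.comm_P_P (a := a) ⟨ha, a.2⟩ ⟨h'.mem hc, mem_centralizer_singleton_iff.mpr
    ((h'.comm_iff hc hs').mpr (vecB_dot_e8 _))⟩, (h'.mem_cent_iff_fix (ho ▸ by decide) hπ hv).2 ?_,
    fun e => h'.not_mem hv (by rw [sqNorm_octA_B]; norm_num) (by rw [sqNorm_octA_B]; norm_num)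
      (e ▸ one_mem _), h'.not_isConj_of_two hv sqNorm_octA_B⟩
  have k3 : ∀ {p q : GolayPt}, k • p = q → σ.1 q = q → ∀ l,
      ((k⁻¹ * σ * k : M24) : Equiv.Perm GolayPt).symm l = p ↔ l = p := fun {p q} e1 e2 l => by
    change k.1 p = q at e1
    rw [Equiv.symm_apply_eq, coe_mul, coe_mul, Equiv.Perm.mul_apply, Equiv.Perm.mul_apply, e1, e2,
      ← e1]
    simp
  rw [show permHom (k⁻¹ * σ * k) • (monoCo0 1 octA • vecB - vecB) = monoCo0 1 octA • vecB - vecB from
    Subtype.ext ((monoCo0_smul _ _ _).trans (by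
      rw [octA_smul_B]
      funext l
      simp only [signedPerm, Finset.notMem_empty, if_false, k3 k1 hi, k3 k2 hj]))]
  exact Cong.refl _

theorem exists_emb_seven (h : MonData z Q π r) (hp : LXPair Q R z s) (hr : r (e8 none) s)
    (hb : b ∈ centralizer ({z, s} : Set G)) (ho : orderOf b = 7) {B : Subgroup G}
    (hB : zpowers b = B) {G' : Type*} [Group G'] {f : centralizer (B : Set G) →* G'}
    (hf : Function.Surjective f) (hk : f.ker = B.subgroupOf _) :
    ∃ (z' : G') (E : He.Emb G' z'), E.O = He.O45 ∧ E.swap.O = He.O45 := by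
  have := Finite.of_surjective f hf
  have hC : centralizer (B : Set G) = centralizer {b} := by rw [← hB, centralizer_zpowers_eq_sing]
  have hz : z ∈ centralizer (B : Set G) := hC.ge (mem_cent_symm (mem_cent_pair.1 hb).1)
  have hs : s ∈ centralizer (B : Set G) := hC.ge (mem_cent_symm (mem_cent_pair.1 hb).2)
  have hob : Odd (orderOf b) := ho ▸ by decide
  obtain ⟨π', r', h', hπ⟩ := h.exists_twist_seven hr hb ho
  obtain ⟨φ, D⟩ := cent7A
  obtain ⟨h1, ν, h2, h3⟩ := h'.descent hp ho hB hπ D basis7A.fixCls (w := 3) (by simp [D7A]) hs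
    hf hk hz
  have h4 := h'.ncard_conj_descent hp hob hB hπ basis7A.fixCls hf hk hz
  have h5 := h'.preLX_odd hp ho hB hπ D hs hf hk hz
  rw [card_four7A] at h4
  have hz2 : ∀ c : centralizer (B : Set G), (c * ⟨z, hz⟩ * c⁻¹) ^ 2 = 1 := fun c => by
    rw [conj_pow, show (⟨z, hz⟩ : centralizer (B : Set G)) ^ 2 = 1 from Subtype.ext (by
      simp [sq, h.pre.mul_self])]
    simp
  have key : ∀ c q : centralizer (B : Set G), (q : G) ∈ Q → f q = f c * f ⟨z, hz⟩ * (f c)⁻¹ →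
      (c : G) * z * (c : G)⁻¹ = q := fun c q hq e => by
    obtain ⟨k, hk2⟩ := h.pre.isPGroup ⟨q, hq⟩
    exact congrArg Subtype.val (eq_of_map_eq hob hB hk (q := q) (k := k)
      (Subtype.ext (by simpa using congrArg Subtype.val hk2)) (hz2 c) (by simpa using e))
  refine ⟨_, He.exists_emb_of_mix h5 ((Nat.card_congr
    (subgroupOfEquivOfLe h5.le_cent).toEquiv).symm.trans h1.2.2.2.1) ν h2
    (fun x => (SetLike.ext_iff.1 h3 x).symm) D.core ?_ fun g g1 g2 => ?_⟩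
  · exact lt_of_lt_of_le (by norm_num) (h4.ge.trans (Set.ncard_le_ncard_of_injOn Subtype.val
      (fun y hy => ⟨hy.2, mem_centralizer_singleton_iff.1 y.2⟩) Subtype.val_injective.injOn))
  · obtain ⟨g, rfl⟩ := hf g
    obtain ⟨q, hq, e⟩ := g1
    have e1 := key g q hq.1 e
    have hp' := h.pre.pair (g := g) (fun e2 => g2 (by
      rw [← e]; exact congrArg f (Subtype.ext (e1.symm.trans e2)))) (e1 ▸ hq.1)
    obtain ⟨t, t1, t2, t3, t4⟩ := h.exists_two_cent hp' (mem_cent_pair.2 ⟨(mem_cent_pair.1 hb).1,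
      mem_cent_symm (hC.le (e1 ▸ q.2))⟩) ho
    refine ⟨f ⟨t, hC.ge t2⟩, ⟨_, ⟨t1.1, hC.ge t2⟩, rfl⟩, ⟨g⁻¹ * ⟨t, hC.ge t2⟩ * g, ⟨?_,
      mul_mem (mul_mem (g⁻¹).2 (hC.ge t2)) g.2⟩, by simp⟩, fun e2 => t3 (congrArg Subtype.val
        (h.map_injOn hob hB hk t1.1 (one_mem _) (e2.trans (map_one f).symm))), fun e2 => t4 ?_⟩
    · simpa using mem_pointwise_smul_iff_inv_smul_mem.1 t1.2
    · obtain ⟨c, e2⟩ := isConj_iff.1 e2
      obtain ⟨c, rfl⟩ := hf c
      exact isConj_iff.2 ⟨c, key c _ t1.1 e2.symm⟩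

theorem exists_conj_pow (h : MonData z Q π r) {hb : b ∈ centralizer ({z} : Set G)}
    (ho : Odd (orderOf b)) {x g : Co0} (hπ : π ⟨b, hb⟩ = pCo x) {k : ℕ} (hg : g * x * g⁻¹ = x ^ k) :
    ∃ n : G, n * b * n⁻¹ = b ^ k := by
  have := Finite.of_surjective π h.surjπ
  have hk : IsPGroup 2 π.ker := by
    rintro ⟨a, ha⟩
    obtain ⟨k, hk⟩ := h.pre.isPGroup ⟨a, (h.ker a).mp ha⟩
    exact ⟨k, Subtype.ext (Subtype.ext (by simpa using congrArg Subtype.val hk))⟩
  have hc : (Nat.card (zpowers (⟨b, hb⟩ : centralizer {z}))).Coprime (Nat.card π.ker) := by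
    rw [Nat.card_zpowers, orderOf_mk]
    exact (coprime_card_of_isPGroup hk (Nat.coprime_two_right.mpr ho)).symm
  have e := map_normalizer_of_coprime π h.surjπ hc (Or.inr (Coprime.isSolvable_of_isPGroup hk))
  have e1 : pCo g * pCo x * (pCo g)⁻¹ = pCo x ^ k := by rw [← map_pow, ← hg]; simp
  rw [MonoidHom.map_zpowers, hπ] at e
  obtain ⟨c, hc1, e2⟩ := e.ge (MP.mem_normalizer_zpowers_iff.2 (e1 ▸ npow_mem_zpowers _ k))
  refine ⟨c, congrArg Subtype.val (mul_inv_eq_one.1 ((inf_eq_bot_of_coprime_card hc).le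
    (x := c * ⟨b, hb⟩ * c⁻¹ * (⟨b, hb⟩ ^ k)⁻¹) (mem_inf.2 ⟨mul_mem
      (MP.mem_normalizer_zpowers_iff.1 hc1) (inv_mem (npow_mem_zpowers _ k)), ?_⟩)))⟩
  rw [MonoidHom.mem_ker, map_mul, map_mul, map_mul, map_inv, map_inv, map_pow, hπ, e2, e1,
    mul_inv_cancel]

omit [Finite G] in
theorem not_invert_seven (h : MonData z Q π r) (hr : r (e8 none) s)
    (hb : b ∈ centralizer ({z, s} : Set G)) (ho : orderOf b = 7) {n : G}
    (hn : n ∈ centralizer ({z, s} : Set G)) : n * b * n⁻¹ ≠ b⁻¹ := fun e => by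
  obtain ⟨θ, -, h2, -⟩ := h.exists_theta hr
  have := Fact.mk Nat.prime_seven
  refine M24_not_real_seven (σ := θ ⟨b, hb⟩) (n := θ ⟨n, hn⟩) (orderOf_eq_prime ?_ fun e1 => ?_) ?_
  · rw [← map_pow, ← map_one θ]
    exact congrArg θ (Subtype.ext (by simp [← ho]))
  · obtain ⟨k, hk⟩ := h2 ⟨_, e1⟩
    have h3 : b ^ 2 ^ k = 1 := by simpa using congrArg (fun a : θ.ker => (a.1 : G)) hk
    exact absurd (Nat.prime_seven.dvd_of_dvd_pow (ho ▸ orderOf_dvd_of_pow_eq_one h3)) (by decide)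
  · rw [← map_inv, ← map_inv, ← map_mul, ← map_mul]
    exact congrArg θ (Subtype.ext e)

end MonData

theorem exists_mon_seven {z : G} {Q : Subgroup (centralizer ({z} : Set G))} [Q.Normal]
    (hM : IsOfMonsterType z Q) {s : G}
    (hsQ : ∃ hsc : s ∈ centralizer ({z} : Set G), (⟨s, hsc⟩ : centralizer ({z} : Set G)) ∈ Q)
    (hs : IsConj z s) (hs1 : s ≠ z) {B : Subgroup G} (hB : B ≤ centralizer ({z, s} : Set G))
    (hBp : Nat.card B = 7 ^ (Nat.card (centralizer ({z, s} : Set G))).factorization 7) :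
    ∃ Q' π r R b, MonData z Q' π r ∧ LXPair Q' R z s ∧ r (e8 none) s ∧
      b ∈ centralizer ({z, s} : Set G) ∧ orderOf b = 7 ∧ zpowers b = B := by
  obtain ⟨Q', π, r, R, h, hp, hr⟩ := exists_monPair hM hsQ hs hs1
  rw [h.sylow_card hr (by decide), show Nat.factorization 244823040 7 = 1 by decide +kernel] at hBp
  obtain ⟨b, hb, ho⟩ := exists_gen_of_card_prime Nat.prime_seven hBp
  exact ⟨Q', π, r, R, b, h, hp, hr, hB (hb.le (mem_zpowers b)), ho, hb⟩

end Cfsg.Lib.SporChar
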