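import Cfsg.Agent.SporChar.Fix3A
import Cfsg.Agent.SporChar.MonsterHe

/-! Groups of Monster type: the normalizer of the subgroup of order 3 of type `Fi24`. -/

set_option autoImplicit false

namespace Cfsg.Lib.SporChar

open Subgroup Cfsg.Lib.Spor Cfsg.Lib.Local Cfsg.Lib.Solv Cfsg.Lib.SporChar.Fx Cfsg.Lib.Trans

theorem exists_comm3A : ∃ a c : centralizer ({permHom s3A} : Set Co0),
    (a : Co0) * c * (a : Co0)⁻¹ * (c : Co0)⁻¹ = permHom s3A := by
  have k : ∀ {p : ℕ} (h : MP.isM24 p = true), MP.comm p MP.r3A = true →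
      permHom ⟨_, MP.toPerm_mem_M24 h⟩ ∈ centralizer ({permHom s3A} : Set Co0) := fun h e =>
    mem_centralizer_singleton_iff.2 (by
      rw [← map_mul, ← map_mul]
      exact congrArg _ (Subtype.ext (((MP.rep_of_isM24 h).comm_iff MP.inSub_r3A.rep).1 e)))
  have h1 : MP.isM24 976986504408275476917123152122839085 = true := by decide +kernel
  have h2 : MP.isM24 144763723189842583595819288958632685 = true := by decide +kernel
  refine ⟨⟨_, k h1 (by decide +kernel)⟩, ⟨_, k h2 (by decide +kernel)⟩, ?_⟩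
  rw [← map_inv, ← map_inv, ← map_mul, ← map_mul, ← map_mul]
  exact congrArg _ (Subtype.ext ((((MP.rep_of_isM24 h1).conj (MP.rep_of_isM24 h2)).mul
    (MP.rep_of_isM24 h2).inv).eq_of_peq MP.inSub_r3A.rep (by decide +kernel)))

theorem exists_conj_sq3A : ∃ g : Co0, g * permHom s3A * g⁻¹ = permHom s3A ^ 2 := by
  have h : orderOf (s3A : Equiv.Perm GolayPt) = 3 := MP.orderOf_r3A
  have h1 : (s3A : Equiv.Perm GolayPt) none = none := MP.r3A_none
  obtain ⟨k, hk, e⟩ := MP.M24_conj_3A (s3A ^ 2).2 (by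
    rw [coe_pow, Nat.Coprime.orderOf_pow (by rw [h]; decide), h]) (p := none) (by
    rw [coe_pow, sq, Equiv.Perm.mul_apply, h1, h1])
  exact ⟨permHom ⟨k, hk⟩, by
    rw [← map_pow, ← map_inv, ← map_mul, ← map_mul]; exact congrArg _ (Subtype.ext e)⟩

variable {G : Type*} [Group G]

theorem conj_eq_of_comm_mem {x a c n : G} (ha : a * x = x * a) (hc : c * x = x * c)
    (e : a * c * a⁻¹ * c⁻¹ = x) (h1 : n * a * n⁻¹ * a⁻¹ ∈ zpowers x)
    (h2 : n * c * n⁻¹ * c⁻¹ ∈ zpowers x) : n * x * n⁻¹ = x := by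
  obtain ⟨i, e1⟩ := h1
  obtain ⟨j, e2⟩ := h2
  have k : ∀ {g : G} (i : ℤ), g * x = x * g → g * x ^ i * g⁻¹ = x ^ i := fun i h => by
    rw [← conj_zpow, h, mul_inv_cancel_right]
  beta_reduce at e1 e2
  calc n * x * n⁻¹ = n * a * n⁻¹ * a⁻¹ * a * (n * c * n⁻¹ * c⁻¹ * c) * (n * a * n⁻¹ * a⁻¹ * a)⁻¹ *
        (n * c * n⁻¹ * c⁻¹ * c)⁻¹ := by rw [← e]; group
    _ = x ^ i * (a * x ^ j * a⁻¹) * (a * c * a⁻¹ * c⁻¹) * (c * x ^ i * c⁻¹)⁻¹ * (x ^ j)⁻¹ := by
        rw [← e1, ← e2]; group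
    _ = x := by rw [k j ha, k i hc, e]; group

variable [Finite G]

theorem genFitting_cent_eq {G₀ : Subgroup G} [G₀.Normal] (z : G₀)
    (hK : ∀ n ∈ centralizer ({(z : G)} : Set G), (∀ c ∈ G₀, c ∈ centralizer ({(z : G)} : Set G) →
      n * c * n⁻¹ * c⁻¹ ∈ ((generalizedFittingSubgroup (centralizer ({z} : Set G₀))).map
        (Subgroup.subtype _)).map G₀.subtype) → n ∈ G₀) :
    (generalizedFittingSubgroup (centralizer ({(z : G)} : Set G))).map (Subgroup.subtype _) =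
      ((generalizedFittingSubgroup (centralizer ({z} : Set G₀))).map
        (Subgroup.subtype _)).map G₀.subtype := by
  have e : (centralizer ({z} : Set G₀)).map G₀.subtype = G₀ ⊓ centralizer {(z : G)} := by
    ext x
    refine ⟨?_, fun h => ⟨⟨x, h.1⟩, mem_centralizer_singleton_iff.2
      (Subtype.ext (mem_centralizer_singleton_iff.1 h.2)), rfl⟩⟩
    rintro ⟨x, h, rfl⟩
    exact ⟨x.2, mem_centralizer_singleton_iff.2
      (congrArg Subtype.val (mem_centralizer_singleton_iff.1 h))⟩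
  rw [map_genFitting_subtype_map_of_injective _ G₀.subtype_injective, e,
    ← map_genFitting_subtype_subgroupOf inf_le_right, inf_subgroupOf_right,
    map_genFitting_subtype_eq_inf_of_normal (G₀.subgroupOf _)] at hK ⊢
  rw [inf_eq_left.2 fun (n : centralizer ({(z : G)} : Set G)) hn => hK n n.2 fun c h1 h2 =>
    ⟨n * ⟨c, h2⟩ * n⁻¹ * (⟨c, h2⟩ : centralizer ({(z : G)} : Set G))⁻¹, mem_inf.2 ⟨by
      simpa only [mul_assoc] using
        mul_mem hn ((genFitting_normal _).conj_mem _ (inv_mem hn) ⟨c, h2⟩),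
      mul_mem (‹G₀.Normal›.conj_mem c h1 n) (G₀.inv_mem h1)⟩, rfl⟩]

theorem isQuasisimple_of_quot {B : Subgroup G} [B.Normal] (hB : B ≤ center G)
    (hc : B ≤ commutator G) [IsSimpleGroup (G ⧸ B)] (hZ : center (G ⧸ B) = ⊥) :
    IsQuasisimple G := by
  obtain rfl : B = center G := le_antisymm hB fun x hx => (QuotientGroup.eq_one_iff x).1
    (mem_bot.1 (hZ ▸ mem_center_iff.2 fun y => by
      obtain ⟨y, rfl⟩ := QuotientGroup.mk_surjective y
      exact congrArg QuotientGroup.mk (mem_center_iff.1 hx y)))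
  obtain ⟨h1, -⟩ := Cfsg.Agent.S1258.result (X := G) inferInstance fun h => by
    obtain ⟨x, hx⟩ := exists_ne (1 : G ⧸ center G)
    exact hx (mem_bot.1 (hZ ▸ mem_center_iff.2 fun y => h.1.1 y x))
  exact ⟨⟨sup_eq_left.2 hc ▸ h1⟩, inferInstance⟩

theorem index_cent_three {b n : G} (ho : orderOf b = 3) (hn : n * b * n⁻¹ = b ^ 2) :
    ((centralizer (zpowers b : Set G)).subgroupOf (normalizer (zpowers b : Set G))).index = 2 := by
  have h3 : ((centralizer (zpowers b : Set G)).subgroupOf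
      (normalizer (zpowers b : Set G))).index ≤ 2 := by
    rw [← normalizerMonoidHom_ker, index_ker]
    refine (card_le_card_group _).trans ?_
    rw [IsCyclic.card_mulAut, Nat.card_zpowers, ho]
    decide
  have h4 := index_ne_zero_of_finite (H := (centralizer (zpowers b : Set G)).subgroupOf
    (normalizer (zpowers b : Set G)))
  have h5 := mt (index_eq_one (H := (centralizer (zpowers b : Set G)).subgroupOf
    (normalizer (zpowers b : Set G)))).1 fun e => by
      rw [← show b * n = n * b from subgroupOf_eq_top.1 e (MP.mem_normalizer_zpowers_iff.2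
        (hn ▸ npow_mem_zpowers b 2)) b (mem_zpowers b), mul_inv_cancel_right, sq, left_eq_mul] at hn
      simp [hn] at ho
  omega

namespace MonData

variable {z s b : G} {Q R : Subgroup G} {π : centralizer ({z} : Set G) →* Spor.Co1}
  {r : leechLattice → G → Prop}

theorem exists_twist_three (h : MonData z Q π r) (hr : r (e8 none) s)
    (hb : b ∈ centralizer ({z, s} : Set G)) (ho : orderOf b = 3)
    {P : Sylow 3 (centralizer ({z, s} : Set G))}
    (hP : ⟨b, hb⟩ ∈ (center (P : Subgroup (centralizer ({z, s} : Set G)))).map (Subgroup.subtype _)) :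
    ∃ π' r', MonData z Q π' r' ∧ π' ⟨b, (mem_cent_pair.mp hb).1⟩ = pCo (permHom s3A) := by
  obtain ⟨σ, h1, h2⟩ := h.exists_twist_perm hr hb Nat.prime_three (by decide) ho
  obtain ⟨k, hk, e | e⟩ := MP.M24_order_three σ.2 h1
  · obtain ⟨π', r', h', -, hπ⟩ := h2 k hk s3A e
    exact ⟨_, _, h', hπ⟩
  · obtain ⟨π', r', h', hr', hπ⟩ := h2 k hk ⟨_, MP.inSub_r3B.2⟩ e
    obtain ⟨θ, a1, a2, a3⟩ := h'.exists_theta hr'
    have := dvd_card_cent_of_central (y := ⟨b, hb⟩) a1 a2 (by decide) P hP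
    rw [a3 _ _ hπ, card_cent_M24, MP.card_M24] at this
    exact absurd (MP.card_cent_r3B ▸ this) (by decide +kernel)

variable {hb : b ∈ centralizer ({z} : Set G)}

theorem largeFischer (h : MonData z Q π r) (hp : LXPair Q R z s) (ho : orderOf b = 3)
    {B : Subgroup G} (hB : zpowers b = B) (hπ : π ⟨b, hb⟩ = pCo (permHom s3A))
    (hs : s ∈ centralizer (B : Set G)) {G' : Type*} [Group G'] {f : centralizer (B : Set G) →* G'}
    (hf : Function.Surjective f) (hk : f.ker = B.subgroupOf _) (hz : z ∈ centralizer (B : Set G)) :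
    PreLX (((Q ⊓ centralizer (B : Set G)).subgroupOf _).map f) (f ⟨z, hz⟩) ∧
    ∃ _ : ((((Q ⊓ centralizer (B : Set G)).subgroupOf _).map f).subgroupOf
      (centralizer {f ⟨z, hz⟩})).Normal, IsOfLargeFischerTypeAt (f ⟨z, hz⟩)
        ((((Q ⊓ centralizer (B : Set G)).subgroupOf _).map f).subgroupOf _) := by
  have := Finite.of_surjective f hf
  obtain ⟨D, ψ, b1, b2⟩ := cent3A
  obtain ⟨a1, ν, a2, a3⟩ := h.descent hp ho hB hπ D basis3A.fixCls (w := 6) (by simp [D3A]) hs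
    hf hk hz
  refine ⟨h.preLX_odd hp ho hB hπ D hs hf hk hz, ?_⟩
  rw [a3] at a1 ⊢
  have b3 : Function.Surjective (ψ.comp ν) := b1.comp a2
  set U := (PK.gen U4.psU).subgroupOf (PK.gen ps3A)
  have i := subgroupOfEquivOfLe U_le
  have c1 : (U.comap (ψ.comp ν)).index = 2 := by
    have := U.card_mul_index
    rw [Nat.card_congr i.toEquiv, U4.card_U, card_ps3A] at this
    rw [index_comap_of_surjective _ b3]
    omega
  obtain ⟨j⟩ := U4.nonempty_equiv_PSU Cfsg.Lib.Class.card_GF9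
  refine ⟨inferInstance, a1, (ψ.comp ν).ker, U.comap (ψ.comp ν), inferInstance,
    normal_of_index_eq_two c1, fun x hx => ?_, ker_le_comap _ _, ?_, ⟨_, _, _, Cfsg.Lib.Class.card_GF9,
      ⟨((QuotientGroup.liftEquiv _ ((ψ.comp ν).subgroupComap_surjective_of_surjective U b3)
        ?_).trans i).trans j⟩⟩, c1⟩
  · rw [MonoidHom.mem_ker, MonoidHom.comp_apply, MonoidHom.mem_ker.mp hx, map_one]
  · have d1 := (ψ.comp ν).ker.card_mul_index
    have d2 := ν.ker.card_mul_index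
    have d3 := ψ.ker.card_mul_index
    rw [index_ker, MonoidHom.range_eq_top.mpr b3, card_top, card_ps3A] at d1
    rw [index_ker, MonoidHom.range_eq_top.mpr b1, card_top, card_ps3A, b2] at d3
    rw [index_ker, MonoidHom.range_eq_top.mpr a2, card_top, ← d3] at d2
    omega
  · ext x
    exact ⟨fun h => Subtype.ext h, fun h => congrArg Subtype.val h⟩

theorem exists_comm_three (h : MonData z Q π r) (ho : orderOf b = 3)
    (hπ : π ⟨b, hb⟩ = pCo (permHom s3A)) : ∃ a c : centralizer ({z} : Set G),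
      (a : G) ∈ centralizer ({b} : Set G) ∧ (c : G) ∈ centralizer ({b} : Set G) ∧
      π a * π c * (π a)⁻¹ * (π c)⁻¹ = π ⟨b, hb⟩ := by
  obtain ⟨a, c, e⟩ := exists_comm3A
  obtain ⟨a', a1, a2⟩ := h.exists_cent_lift (ho ▸ by decide) hπ a
  obtain ⟨c', c1, c2⟩ := h.exists_cent_lift (ho ▸ by decide) hπ c
  exact ⟨a', c', a1, c1, by
    rw [hπ, a2, c2, ← map_inv, ← map_inv, ← map_mul, ← map_mul, ← map_mul, e]⟩

theorem le_commutator_three (h : MonData z Q π r) (ho : orderOf b = 3)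
    (hπ : π ⟨b, hb⟩ = pCo (permHom s3A)) :
    (zpowers b).subgroupOf _ ≤ commutator (centralizer (zpowers b : Set G)) := by
  have hC := centralizer_zpowers_eq_sing b
  obtain ⟨a, c, a1, c1, e⟩ := h.exists_comm_three ho hπ
  have h1 := (h.ker (a * c * a⁻¹ * c⁻¹ * ⟨b, hb⟩⁻¹)).1 (by
    simp only [map_mul, map_inv, e, mul_inv_cancel])
  have h2 := commutator_mem_commutator (mem_top (⟨a, hC.ge a1⟩ : centralizer (zpowers b : Set G)))
    (mem_top ⟨c, hC.ge c1⟩)
  have h3 : (a : G) * c * (a : G)⁻¹ * (c : G)⁻¹ ∈ centralizer ({b} : Set G) :=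
    mul_mem (mul_mem (mul_mem a1 c1) (inv_mem a1)) (inv_mem c1)
  have h4 : ((a : G) * c * (a : G)⁻¹ * (c : G)⁻¹) ^ 4 = b := by
    change (a : G) * c * (a : G)⁻¹ * (c : G)⁻¹ * b⁻¹ ∈ Q at h1
    generalize (a : G) * c * (a : G)⁻¹ * (c : G)⁻¹ = w at h1 h3
    have h5 : (w * b⁻¹) ^ 4 = 1 := by
      rw [show 4 = 2 * 2 from rfl, pow_mul, sq (w * b⁻¹)]
      rcases h.pre.mem_iff.1 (h.pre.sq_mem _ h1) with e | e <;> simp [e, sq, h.pre.mul_self]
    rw [(Commute.inv_right (mem_centralizer_singleton_iff.1 h3)).mul_pow, inv_pow,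
      mul_inv_eq_one] at h5
    rw [h5, pow_succ, ← ho, pow_orderOf_eq_one, one_mul]
  rintro ⟨_, hx⟩ ⟨k, rfl⟩
  have h5 := zpow_mem (pow_mem h2 4) k
  rwa [show (_ ^ 4) ^ k = (⟨_, hx⟩ : centralizer (zpowers b : Set G)) from
    Subtype.ext (congrArg (· ^ k) h4)] at h5

theorem mem_cent_of_comm_three (h : MonData z Q π r) (ho : orderOf b = 3)
    (hπ : π ⟨b, hb⟩ = pCo (permHom s3A)) {n : G} (hn : n ∈ normalizer (zpowers b : Set G))
    (hz : n ∈ centralizer ({z} : Set G)) (hc : ∀ c ∈ centralizer ({z} : Set G),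
      c ∈ centralizer ({b} : Set G) → ∃ q ∈ Q, q⁻¹ * (n * c * n⁻¹ * c⁻¹) ∈ zpowers b) :
    n ∈ centralizer ({b} : Set G) := by
  obtain ⟨a, c, a1, c1, e⟩ := h.exists_comm_three ho hπ
  have k : ∀ a : centralizer ({z} : Set G), (a : G) ∈ centralizer ({b} : Set G) →
      π a * π ⟨b, hb⟩ = π ⟨b, hb⟩ * π a ∧
      π ⟨n, hz⟩ * π a * (π ⟨n, hz⟩)⁻¹ * (π a)⁻¹ ∈ zpowers (π ⟨b, hb⟩) := fun a a1 => by
    obtain ⟨q, q1, j, q2⟩ := hc a a.2 a1
    refine ⟨by rw [← map_mul, ← map_mul]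
               exact congrArg π (Subtype.ext (mem_centralizer_singleton_iff.1 a1)), j, ?_⟩
    have := congrArg π (Subtype.ext q2 : ⟨b, hb⟩ ^ j =
      ⟨q, h.pre.le_cent q1⟩⁻¹ * (⟨n, hz⟩ * a * ⟨n, hz⟩⁻¹ * a⁻¹))
    simpa only [map_mul, map_inv, map_zpow, (h.ker ⟨q, h.pre.le_cent q1⟩).2 q1, inv_one,
      one_mul] using this
  have h1 := conj_eq_of_comm_mem (k a a1).1 (k c c1).1 e (k a a1).2 (k c c1).2
  refine mem_cent_iff_conj.2 (mul_inv_eq_one.1 ((inf_eq_bot_of_coprime_card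
    (coprime_card_of_isPGroup h.pre.isPGroup (n := Nat.card (zpowers b)) (by
      rw [Nat.card_zpowers, ho]; decide))).le (mem_inf.2 ⟨(h.ker (⟨n, hz⟩ * ⟨b, hb⟩ * ⟨n, hz⟩⁻¹ *
        ⟨b, hb⟩⁻¹)).1 (by simp only [map_mul, map_inv, h1, mul_inv_cancel]), mul_mem
        (MP.mem_normalizer_zpowers_iff.1 hn) (inv_mem (mem_zpowers b))⟩)))

end MonData

end Cfsg.Lib.SporChar
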