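import Cfsg.Agent.LyT.McL
import Cfsg.Agent.Spor.MGBig
import Cfsg.Agent.SporChar.WFormKer

/-! The centraliser of an involution of the McLaughlin group. -/

set_option autoImplicit false
set_option maxRecDepth 100000

namespace Cfsg.Lib.LyT

open Subgroup Equiv Cfsg.Lib.Spor Cfsg.Lib.Spor.Bulk Cfsg.Lib.Spor.PK Cfsg.Lib.Spor.WF Cfsg.Lib.DC
  Cfsg.Lib.Known Cfsg.Lib.Spor.MG

theorem P7_cent : Nat.card ↥(sub P7.m L7 ⊓ centralizer {wv P7.m wz}) = 40320 :=
  (PM.cent P7_ok (cert := [⟨95,  [5056, 2753, 4738, 6468, 11590, 2241, 2370, 4611, 8390, 1348, 6150, 2113, 10310, 3264, 2882,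
    12230, 13505, 6530, 16707, 6212, 10373, 1536, 1156, 5126, 1217, 5382, 2052, 10246, 10689, 14531,
    5188, 3717, 896, 834, 2822, 7553, 2946, 11652, 11717, 1410, 1092, 4806, 16131, 4868, 1666, 7494,
    16963, 6724, 6597, 7616, 17219, 3648, 12291, 3012, 17280, 17476, 12357, 17350, 11779, 10117, 5440,
    16195, 4998, 3334, 706, 771, 2310, 5313, 2434, 6339, 10757, 11011, 2500, 4678, 16069, 11907, 14144,
    12801, 8322, 11844, 10629, 3392, 8707, 8837, 6979, 1732, 1926, 514, 579, 1606, 453, 1478, 6275,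
    6405, 3520, 13445, 3137, 6661, 16771, 16834, 645, 2182, 10437, 17412, 10499, 9733, 961, 16576,
    17540, 11203, 12485, 13571, 1796, 15552, 17028, 6787, 6853, 16323, 16387, 8064, 16645, 7878, 11394,
    16003, 4486, 2630, 8517, 7685, 387, 325, 1286, 5251, 4293, 10949, 5509, 12037, 14466, 10564, 5571,
    5637, 7939, 7173, 14338, 16262, 16513, 12549, 11264, 13956, 9280, 6916, 14721, 12997, 13702, 4932,
    7747, 7813, 3842, 13829, 3905, 9474, 13763, 5958, 3076, 3781, 1028, 4165, 259, 197, 3459, 3589,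
    3205, 11973, 4225, 9666, 12099, 12164, 8133, 16450, 7109, 12418, 9414, 16897, 13062, 10880, 12677,
    10822, 7362, 12611, 5760, 5702, 13122, 9606, 4096, 3974, 14213, 11328, 14402, 13893, 7233, 5894,
    17154, 4545, 10051, 1988, 9797, 5829, 11074, 13634, 133, 2563, 2693, 8197, 7426, 8003, 8452, 14594,
    8258, 11137, 12869, 8901, 8771, 6018, 13253, 8641, 12741, 15493, 9922, 14019, 7044, 17093, 7301,
    15682, 4358, 15746, 11526, 11459, 1857, 8582, 69, 14082, 9538, 14274, 15621, 9344, 13314, 15170,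
    9029, 8965, 14850, 14978, 15938, 12931, 9859, 10179, 15872, 4419, 4035, 13378, 14789, 14914, 14656,
    15046, 9154, 9218, 15298, 13188, 15426, 15810, 9091, 15360, 15110, 4, 9986, 15234],  [[6, 5, 6, 5,
    2, 6, 5, 2, 6, 1, 0], [1, 6, 2, 1, 3, 4, 5, 6, 0]]⟩,
     ⟨26,  [12032, 6849, 2368, 4609, 7232, 2561, 13440, 3905, 2624, 16961, 15489, 14912, 8257, 5888,
    4417, 2240, 1601, 17024, 14209, 13824, 9537, 13696, 8705, 2112, 4225, 14017, 9024, 5249, 1920, 7297,
    832, 12929, 17408, 4481, 15296, 9793, 9728, 11137, 11520, 14977, 12545, 8448, 192, 11777, 8768,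
    3009, 3969, 15168, 15808, 11457, 2304, 12801, 14721, 16704, 6401, 5952, 10049, 7040, 9473, 896,
    8961, 4352, 8897, 13312, 961, 1793, 16256, 1345, 3200, 1, 11200, 7105, 1857, 4864, 5377, 9920, 8513,
    8640, 4033, 11328, 705, 9216, 13185, 1024, 7745, 10561, 6913, 5697, 14081, 5632, 13888, 3456, 65,
    14528, 640, 257, 14465, 3520, 2496, 10305, 3648, 5312, 14848, 9153, 13760, 17089, 13633, 7169, 1281,
    768, 6528],  [[1, 1, 0, 0, 0, 1, 0, 1, 1, 1, 1, 1, 1, 0], [0, 1, 1, 1, 0, 0, 1, 0, 1, 0, 1, 0, 0]]⟩,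
     ⟨2,  [7680, 5825, 9408, 10881, 3584, 10944, 6593, 14592, 12160, 4289, 7617, 8320, 12417, 11840,
    4097, 16192, 17152, 3265, 17344, 10369, 7808, 13504, 16129, 13952, 3329, 5056, 14337, 7425, 11648,
    513, 14784, 4800, 14273, 6976, 1408, 16513, 5504, 4160, 5121, 10625, 12992, 6145, 16385, 9089, 1536,
    8833, 11392, 10240, 8129, 1728, 3712, 9281, 16833, 3072, 3777, 12352, 9857, 2880, 2945, 2433, 8576,
    15553, 6784, 16320, 14656, 10752, 13248, 13121, 17537, 14401, 17472, 2049, 11009, 10496, 4736, 4929,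
    12288, 5441, 10689, 4544],  [[1, 0, 1, 0, 1, 1, 1, 0, 0, 0, 1, 0, 0], [1, 0, 1, 0, 0, 1, 0, 0, 1, 0,
    0]]⟩,
     ⟨51,  [12160, 12993, 3712, 9281, 9089, 3585, 2945, 13504, 11392, 16385, 5440, 3328, 10625,
    4800, 11649, 3072, 10880, 12417, 4288, 6977, 5120, 4161, 5824, 4929, 9856, 13121, 13248, 4097,
    5056],  [[0, 1, 0], [0, 0, 1, 0, 0, 0, 1, 0, 0, 0]]⟩,
     ⟨211, [9856,9089,3712,5441,5120,3329,11649,4800,2945,13248,12993], []⟩]) (es := [1]) (ncs := []) P7_card (by decide +kernel)).1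

theorem Pc_card : Nat.card (gL Pc.m (Lc 6)) = 40320 := le_antisymm (upC6 Pc_sat).2
  ((P8_words ▸ P8_low :).trans (card_le_of_le (sub_W8_le _)))

theorem Pc_eqs : ∀ e ∈ ([1], W8.getD 1 [] ++ W8.getD 3 [] ++ W8.getD 1 [] ++ W8.getD 3 []) ::
    ([2, 4, 2, 4], [1]) :: (Lc 6).map fun l => ([1, l], [l, 1]), wv Pc.m e.1 = wv Pc.m e.2 :=
  eqs_of_emb Pc_ok (by decide +kernel) ⟨⊤, fun _ => trivial, Subgroup.subtype _, subtype_injective _,
    fun _ => rfl⟩ (by decide +kernel)

theorem Pc_ord : orderOf (Pc.m 1) = 2 := orderOf_eq_prime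
  ((pow_two _).trans (mul_eq_one_iff_eq_inv.2 (Pc_sat.inv 1 (by norm_num)))) (by
    simpa [Fm.sem] using (PM.dec_iff Pc_ok (by decide +kernel) (.not (.eq [1] []))).1 (by decide +kernel))

theorem cext_Pc : CExt (gL Pc.m (Lc 6)) (Pc.m 1) (alternatingGroup (Fin 8)) := by
  have hs : Sat (sC 6) 14 iC (Rc 6) := ⟨rfl, by decide +kernel, by decide +kernel⟩
  obtain ⟨φ, h1, h2⟩ := exists_hom_gL (upC6 (Pc_sat.prod hs)) Pc_card.ge
  have hr : φ.range = alternatingGroup (Fin 8) := h1.trans (le_antisymm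
    (gL_le (by simp only [Perm.mem_alternatingGroup]; decide +kernel))
    (altOn_univ.ge.trans (altOn_le_of_c3 (α := 0) (β := 1) (by decide) fun i _ a b =>
      (by decide +kernel +revert : sC 6 (2 * (i - 1)) = c3 i 0 1) ▸ mem_gL (by decide +kernel +revert))))
  have hz : Pc.m 1 ∈ gL Pc.m (Lc 6) := mem_gL (by decide)
  have h3 : zpowers ⟨_, hz⟩ = φ.ker := by
    refine eq_of_le_of_card_ge (zpowers_le.2 (by simpa [sC, cl_one] using h2 [1] (by decide))) ?_
    have a := φ.ker.card_mul_index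
    rw [index_ker, hr, Pc_card, nat_card_alternatingGroup, Nat.card_fin] at a
    rw [Nat.card_zpowers, ← orderOf_coe, Pc_ord]
    change _ * 20160 = _ at a
    omega
  refine ⟨hz, fun x hx => mem_centralizer_singleton_iff.1 (gL_le (fun l hl => ?_) hx),
    φ.codRestrict _ fun x => hr.le ⟨x, rfl⟩, fun a => ?_, fun x => ?_⟩
  · simpa [mem_centralizer_singleton_iff] using Pc_eqs _
      (.tail _ (.tail _ (List.mem_map_of_mem hl)))
  · obtain ⟨x, hx⟩ := hr.ge a.2
    exact ⟨x, Subtype.ext hx⟩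
  · rw [← mem_zpowers_coe (z := ⟨_, hz⟩), h3, Subtype.ext_iff]
    rfl

theorem exists_nonsplit_McL : ∃ t : Spor.McL, orderOf t = 2 ∧
    IsNonsplitDoubleCover (centralizer ({t} : Set Spor.McL)) (alternatingGroup (Fin 8)) := by
  obtain ⟨e⟩ := P7_equiv
  let φ := (sub P7.m L7).subtype.comp (CK.sMcLEquiv.symm.trans e).toMonoidHom
  have hi : Function.Injective φ := (subtype_injective _).comp (MulEquiv.injective _)
  have hr : φ.range = sub P7.m L7 := by
    rw [MonoidHom.range_comp, MonoidHom.range_eq_top.2 (MulEquiv.surjective _),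
      ← MonoidHom.range_eq_map, range_subtype]
  have h8 : P8.m = fun l => wv P7.m ([[],[1],[2],[3],[4],[5],[6]].getD l []) :=
    eq_words (M := P7) P7_ok P8_ok (by decide +kernel)
  have hle : gL Pc.m (Lc 6) ≤ φ.range := by
    rw [← eq_of_le_of_card_ge (sub_W8_le Pc.m) (Pc_card.le.trans (P8_words ▸ P8_low :)), ← P8_words,
      h8, hr]
    exact sub_le fun W hW => wv_mem _ fun l hl => wv_mem_sub P7.m (by revert W l; decide)
  have hz : Pc.m 1 = wv P7.m wz := by
    have a := Pc_eqs _ (.head _)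
    have b := congrFun (P8_words.symm.trans h8)
    simp only [wv_append, b] at a
    simpa [wz, mul_assoc] using a
  obtain ⟨t, ht⟩ := hle cext_Pc.mem
  have h := (ht ▸ cext_Pc :).comap hi hle
  have o : orderOf t = 2 := by rw [← orderOf_injective φ hi, ht, Pc_ord]
  have := Finite.of_injective φ hi
  refine ⟨t, o, ?_⟩
  obtain ⟨w, hw⟩ := hle (mul_mem (mem_gL (l := 4) (by decide)) (mem_gL (l := 2) (by decide)))
  rw [h.eq_cent]
  · refine h.nonsplit (center_alt (by norm_num)) o (w := w) (by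
      rw [mem_comap, hw]; exact mul_mem (mem_gL (by decide)) (mem_gL (by decide))) (hi ?_)
    rw [map_mul, hw, ht]
    simpa [mul_assoc] using Pc_eqs _ (.tail _ (.head _))
  · rw [← card_map_of_injective hi, h.card, o, nat_card_alternatingGroup, Nat.card_fin]
    refine (card_le_of_le (K := sub P7.m L7 ⊓ centralizer {wv P7.m wz}) ?_).trans_lt
      (by rw [P7_cent]; decide)
    rintro _ ⟨x, hx, rfl⟩
    refine ⟨hr.le ⟨x, rfl⟩, mem_centralizer_singleton_iff.2 ?_⟩
    rw [← hz, ← ht, ← map_mul, ← map_mul, mem_centralizer_singleton_iff.1 hx]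

end Cfsg.Lib.LyT
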