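import Cfsg.Agent.SporChar.CoBar
import Cfsg.Agent.Spor.SuzOrder
import Cfsg.Agent.Spor.FisOrth
import Cfsg.Agent.S0288
import Cfsg.Agent.Trans.Quasisimple

/-!
The centraliser `6.Suz` of a fixed point free element of order 3 in `Co0`.
-/

set_option autoImplicit false
set_option maxRecDepth 100000

namespace Cfsg.Lib.SporChar.CL

open Cfsg Cfsg.Lib.Local Cfsg.Lib.Spor Cfsg.Lib.Spor.CK Cfsg.Lib.SporChar.Co Subgroup MulAction Matrix
open Bulk (wv Sat idI gL)

attribute [local irreducible] mmul app tr cId cNeg cZero isSh isCo0 cm pk ip gFL mW mZ mN gM gWw gZz gS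

theorem reps_all : Reps ⊤ (mW :: mZ :: mN :: (gM ++ gWw ++ gZz ++ gS)) := reps_top co_all

/-- An element of order 3 without fixed vectors. -/
noncomputable def omg : Co0 := el mW

/-- An element moving `z0` into the framed group. -/
noncomputable def nwE : Co0 := el mN

/-- Generators of the centraliser of `omg`. -/
noncomputable def gm (l : ℕ) : Co0 := el (nth cId gM l)

theorem cm_omg : cm omg = mW := (reps_all _ (by simp)).cm_el

theorem cm_nwE : cm nwE = mN := (reps_all _ (by simp)).cm_el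

theorem cm_gm (l : ℕ) : cm (gm l) = nth cId gM l :=
  (Reps.nth (fun A h => reps_all A (by simp [h])) l).cm_el

theorem omg_pow : omg ^ 3 = 1 := cm_inj (by
  rw [pow_succ', pow_succ', pow_one, ← mmul_cm, ← mmul_cm, cm_omg, cm_one, chkW.1])

theorem orderOf_omg : orderOf omg = 3 :=
  orderOf_eq_prime omg_pow fun h => chkW.2.1 (by rw [← cm_omg, h, cm_one])

theorem acts_omg : F0.Acts omg kW := acts0 cm_omg chkW.2.2.2.1

theorem comm_omg {g : Co0} (h : cm g ∈ mN :: (gM ++ gWw)) : g ∈ Cx omg :=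
  mem_cent_zpowers.2 (comm_of_comB cm_omg rfl (allL_iff.1 chkW.2.2.2.2.2.1 _ h))

theorem gm_mem (l : ℕ) : gm l ∈ Cx omg := by
  by_cases h : l < gM.length
  · exact comm_omg (by rw [cm_gm, nth_eq, List.getD_eq_getElem _ _ h]; simp)
  · rw [show gm l = 1 from cm_inj (by rw [cm_gm, nth_eq, List.getD_eq_default _ _ (by omega), cm_one])]
    exact one_mem _

theorem gm_zero : gm 0 = 1 := cm_inj (by rw [cm_gm, cm_one, chkW.2.2.2.2.2.2.1])

theorem gm_one : gm 1 = F0.z := cm_inj (by rw [cm_gm, chkW.2.2.2.2.2.2.2.1]; exact (cm_gF 8).symm)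

theorem nwE_z : nwE * F0.z * nwE⁻¹ = co0Neg * F0.fr 435 := cm_inj (by
  rw [← mmul_cm, ← mmul_cm, ← mmul_cm, ← tr_cm, cm_nwE, show cm F0.z = _ from cm_gF 8, cm_neg, cm_fr,
    chkW.2.2.2.2.2.2.2.2.1])

theorem invL_240 {H : Subgroup Co0} (hH : H ≤ C0) : InvL H v240 := invL_of_240 chk240.1 chk240.2 hH

theorem invL_CS {Ms AL V : List ℕ} {m : ℕ} {H : Subgroup Co0} (hV : VS V = CS Ms AL) (hH : H ≤ fixM m)
    (hm : ∀ p, AL.getD (tyOf Ms p) 0 = 131071 ∨ p ∈ maskSet m) : InvL H V := by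
  intro g hg x hx
  rw [hV] at hx ⊢
  have hn := (nm_smul g x).trans hx.1
  refine ⟨hn, fun p => (hm p).elim (fun e => ?_) fun e => ?_⟩
  · have := abs_le.1 ((Sh.of_eq hn).small p)
    rw [e, show 131071 = 2 ^ 17 - 1 from rfl, Nat.testBit_two_pow_sub_one, decide_eq_true_eq]
    omega
  · rw [coord_smul_of_fix (hH hg p e)]; exact hx.2 p

theorem cnt_891 : (C2 uu 0 xx 16).ncard ≤ 891 := by
  have h : TypesOk [8388608, 1, 2, 8388604] ∧ ctr [8388608, 1, 2, 8388604] [] = 0 ∧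
      ctr [8388608, 1, 2, 8388604] [4, 0, 4] = xx ∧
      ctr [8388608, 1, 2, 8388604] [0, -4, 4] = (xx - uu : leechLattice) := by decide +kernel
  refine (ncard_le_ctr h.1 [(1, []), (1, [4, 0, 4]), (1, [0, -4, 4])] 96 ?_).trans (by decide +kernel)
  rintro x ⟨h1, h2, h3⟩
  simp only [List.map, List.sum_cons, List.sum_nil, h.2.1, h.2.2.1, h.2.2.2, sub_zero, nm_sub',
    h1, h2, h3, nm_sub, nm_uu, nm_xx, dt_sub_left, dt_comm xx uu, dt_uu_xx]
  norm_num

theorem card_Cx_omg : Nat.card (Cx omg) ≤ 448345497600 * 6 := by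
  have hu : omg • uu = -xx := smul_eq_of_app sh_uu sh_xx.neg (by
    have := pk_add_pk_neg sh_xx
    rw [cm_omg, pk_uu, chkW.2.2.2.2.1, ← this, pk_xx, Nat.add_sub_cancel_left])
  have fx : ∀ g ∈ Cx omg, ∀ v : leechLattice, g • v = v → g • omg • v = omg • v := fun g hg v h => by
    rw [← mul_smul, mem_cent_zpowers.1 hg, mul_smul, h]
  have fxx : ∀ g ∈ Cx omg ⊓ stabilizer Co0 uu, g • xx = xx := fun g hg => by
    have := fx g hg.1 uu hg.2
    rwa [hu, co0_smul_neg, neg_inj] at this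
  have h1 := ncard_orbit_mul_card (Cx omg) uu
  have h2 := ncard_orbit_mul_card (Cx omg ⊓ stabilizer Co0 uu) u2
  have a1 : (orbit (Cx omg) uu).ncard ≤ 196560 := ncard_Min ▸ Set.ncard_le_ncard
    (by rintro _ ⟨g, rfl⟩; exact smul_mem_Min g nm_uu) finite_Min
  have a2 : (orbit ↥(Cx omg ⊓ stabilizer Co0 uu) u2).ncard ≤ 891 := (Set.ncard_le_ncard
    (by rintro _ ⟨g, rfl⟩
        exact smul_mem_C2_of_fix g.2.2 (fxx _ g.2) ⟨nm_u2, dt_uu_u2, (dt_comm _ _).trans dt_u2_xx⟩)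
    (finite_C2 _ _ _ _)).trans cnt_891
  have hB : FixL (Cx omg ⊓ stabilizer Co0 uu ⊓ stabilizer Co0 u2) [pU, pX, pU2, app mW pU2] :=
    .cons sh_uu pk_uu (fun g hg => hg.1.2) (.cons sh_xx pk_xx (fun g hg => fxx g hg.1)
      (.cons sh_u2 pk_u2 (fun g hg => hg.2) (.cons (sh_u2.smul omg)
        (by rw [← app_cm _ sh_u2, cm_omg, pk_u2]) (fun g hg => fx g hg.1.1 _ hg.2) (fixL_nil _))))
  have a3 := card_le_of_chain' (invL_CS (VS_eq_CS chk512.1 chk512.2.1 chk512.2.2.1 chk512.2.2.2)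
    (hB.le_fixM chkFix) (by decide +kernel))
    (.cons cm_omg (fun g hg => mem_cent_zpowers.1 hg.1.1) (comL_nil _)) hB chkCw
  rw [← h1, ← h2]
  exact (Nat.mul_le_mul a1 (Nat.mul_le_mul a2 a3)).trans (by norm_num)

theorem mem_Zx_omg {g : Co0} (h : memL (cm g) [cId, cNeg, mW] = true) : g ∈ Zx omg := by
  simp only [memL_iff, List.mem_cons, List.not_mem_nil, or_false, ← cm_one, ← cm_neg, ← cm_omg] at h
  rcases h with h | h | h <;> rw [cm_inj h]
  exacts [one_mem _, neg_mem_Zx _, mem_sup_left (mem_zpowers _)]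

theorem gm_sq {l : ℕ} (hl : l < 8) : gm l * gm l = 1 ∨ gm l * gm l = co0Neg := by
  have := memL_iff.1 ((frc_eq _ _).symm.trans (allLT_iff.1 chkR.2.1 l hl))
  rw [← cm_gm, mmul_cm, List.mem_pair] at this
  exact this.imp (fun h => cm_inj (h.trans cm_one.symm)) fun h => cm_inj (h.trans cm_neg.symm)

theorem coe_wv {G : Type*} [Group G] {H : Subgroup G} (g : ℕ → H) (w : List ℕ) :
    ((wv g w : H) : G) = wv (fun l => (g l : G)) w := Bulk.map_wv g H.subtype w

theorem wv_sq {G : Type*} [CommGroup G] {g : ℕ → G} {w : List ℕ} (h : ∀ l ∈ w, g l ^ 2 = 1) :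
    wv g w ^ 2 = 1 := by
  induction w with
  | nil => exact one_pow 2
  | cons l w ih =>
    rw [Bulk.wv_cons, mul_pow, ih fun a ha => h a (List.mem_cons_of_mem _ ha), h l List.mem_cons_self,
      one_mul]

/-- The generators in the section. -/
noncomputable def gS' (l : ℕ) : Sx omg := px omg ⟨gm l, gm_mem l⟩

theorem sat_gS' : Sat gS' 8 idI SuzP.R where
  zero := (px_eq_one _).2 (show gm 0 ∈ _ from gm_zero ▸ one_mem _)
  inv l hl := eq_inv_of_mul_eq_one_left ((map_mul _ _ _).symm.trans ((px_eq_one _).2 (by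
    change gm l * gm l ∈ _
    rcases gm_sq hl with h | h <;> rw [h]
    exacts [one_mem _, neg_mem_Zx _])))
  rel r hr := by
    have := allL_iff.1 chkR.1 r hr
    rw [frc_eq, ← cm_wv cm_gm] at this
    unfold gS'
    rw [← Bulk.map_wv (fun l => (⟨gm l, gm_mem l⟩ : Cx omg)), px_eq_one]
    rw [coe_wv]
    exact mem_Zx_omg this

theorem z0_notMem_Zx {x : Co0} (hx : Odd (orderOf x)) : F0.z ∉ Zx x := fun h =>
  F0.ne (disjoint_def.1 (disjoint_F0_Zx hx) F0.sympPair.mem h)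

theorem odd_omg : Odd (orderOf omg) := by rw [orderOf_omg]; decide

theorem bijective_suz : Function.Bijective (SuzP.hom sat_gS') := by
  have := SuzP.simple
  refine Function.Injective.bijective_of_nat_card_le ((MonoidHom.ker_eq_bot_iff _).1
    ((MonoidHom.normal_ker _).eq_bot_or_eq_top.resolve_right fun h => ?_)) ?_
  · have h1 : SuzP.hom sat_gS' (SuzP.g0 1) = 1 := h.ge (mem_top _)
    rw [SuzP.hom_g0 _ 1 (by norm_num), gS', px_eq_one] at h1
    exact z0_notMem_Zx odd_omg (gm_one ▸ h1)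
  · have h1 := card_Sx omg
    have h2 := le_card_Zx odd_omg
    rw [orderOf_omg] at h2
    rw [SuzP.card]
    exact Nat.le_of_mul_le_mul_right ((Nat.mul_le_mul_left _ h2).trans (h1.trans_le card_Cx_omg))
      (by norm_num)

/-- The section is the Suzuki group. -/
noncomputable def suzE : Spor.Suz ≃* Sx omg := MulEquiv.ofBijective _ bijective_suz

theorem suzE_g0 {l : ℕ} (hl : l < 8) : suzE (SuzP.g0 l) = gS' l := SuzP.hom_g0 sat_gS' l hl

theorem not_comm_Suz : ¬ IsMulCommutative Spor.Suz := fun h => by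
  have := SuzP.simple
  let _ : CommGroup Spor.Suz := { mul_comm := h.is_comm.comm }
  have h1 := IsSimpleGroup.prime_card (α := Spor.Suz)
  rw [SuzP.card] at h1
  exact absurd (h1.eq_one_or_self_of_dvd 2 (by norm_num)) (by norm_num)

theorem omega6 : (Omega (ZMod 2) (quadFormMinus 2 (ZMod 2) 1 1)).index = 2 ∧
    pCore 2 (Omega (ZMod 2) (quadFormMinus 2 (ZMod 2) 1 1)) = ⊥ ∧
    Nat.card (Omega (ZMod 2) (quadFormMinus 2 (ZMod 2) 1 1)) = 25920 := by
  have h := Fis.omega_two (Class.quadMinus_nondegenerate (F := ZMod 2) 2 (a := 1) (b := 1)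
    (by decide)) (by simp)
  rw [Class.coe_quadMinus] at h
  have := h.2.2.1
  refine ⟨h.1, pCore_eq_bot_of_simple h.2.1, ?_⟩
  have h1 := (Omega (ZMod 2) (quadFormMinus 2 (ZMod 2) 1 1)).card_mul_index
  have h2 := Cfsg.Agent.S0288.result (ZMod.card 2) 3 (by norm_num) 1 1 (by decide)
  rw [h.1, show Nat.card (isometryGroup (ZMod 2) (quadFormMinus 2 (ZMod 2) 1 1)) = 51840 from h2] at h1
  omega

/-- A basis of the fixed space of `omg`. -/
def cW : (Fin 2 ⊕ Fin 2) ⊕ Fin 2 → ℕ := Sum.elim (Sum.elim ![7, 12] ![16, 80]) ![50, 218]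

/-- The projection onto the fixed space of `omg`. -/
def pW : Matrix ((Fin 2 ⊕ Fin 2) ⊕ Fin 2) (Fin 4 ⊕ Fin 4) (ZMod 2) := Matrix.of fun j s =>
  ((nth 0 [51, 32, 18, 16, 4, 52, 12, 24] (pos8 s) /
    2 ^ Sum.elim (Sum.elim ![0, 1] ![2, 3]) ![4, 5] j : ℕ) : ZMod 2)

theorem psiW : PsiData kW 3 (quadFormMinus 2 (ZMod 2) 1 1) cW pW ∧
    ∀ v ∈ vWw, (Em cW * pW) *ᵥ vec v = vec v :=
  ⟨⟨by decide +kernel, by decide +kernel, by decide +kernel, by decide +kernel, by decide +kernel⟩,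
    by decide +kernel⟩

theorem acts_pair {T K : List ℕ} (hT : ∀ A ∈ T, A ∈ gM ++ gWw ++ gZz ++ gS) (hK : K.length = 2)
    (h : ∀ i < 2, actsB (nth cId T i) (nth 0 K i) = true) (hl : T.length = 2) :
    ∀ μ ∈ K, ∃ g, cm g ∈ T ∧ F0.Acts g μ := fun μ hμ => by
  obtain ⟨i, hi, rfl⟩ := List.getElem_of_mem hμ
  have e := (Reps.nth (L := T) (fun A h => reps_all A (by simp only [List.mem_cons, hT A h, or_true])) i).cm_el
  have := acts0 e (h i (hK ▸ hi))
  rw [nth_eq 0, List.getD_eq_getElem _ _ hi] at this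
  exact ⟨_, by rw [e, nth_eq, List.getD_eq_getElem _ _ (by omega)]; simp, this⟩

theorem lx_omg : LX (px omg ⟨F0.z, mem_cent_zpowers.2 acts_omg.comm_z.symm⟩) 7
    (Omega (ZMod 2) (quadFormMinus 2 (ZMod 2) 1 1)) := by
  obtain ⟨ψ, h1, h2, h3⟩ := exists_omega psiW.1 acts_omg (C := Cx omg) (fun _ => mem_cent_zpowers)
    orderOf_omg (by decide) omega6.1 (fun μ hμ => by
      obtain ⟨g, a, b⟩ := acts_pair (T := gWw) (fun A h => by simp [h]) rfl (fun i hi => (chkA.1 i hi).1)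
        (by decide +kernel) μ hμ
      exact ⟨g, comm_omg (by simp [a]), b⟩) psiW.2 chkWw.1 chkWw.2.1 chkWw.2.2.1
    (omega6.2.2.trans chkWw.2.2.2.symm) (by
      rw [chkWw.2.2.2]
      exact card_le_of_chain (invL_240 inf_le_left)
        (.cons cm_omg (fun g hg => mem_cent_zpowers.1 hg.2) (comL_nil _)) (fixL_nil _) chkDw)
  exact lx_sec odd_omg acts_omg (fun _ => mem_cent_zpowers) (QuotientGroup.mk'_surjective _) px_eq_one
    (by norm_num) chkW.2.2.2.2.2.2.2.2.2.2 omega6.2.1 ψ h1 h2 h3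
    (mem_cent_zpowers.1 (comm_omg (by simp [cm_nwE]))) (by norm_num) (by norm_num)
    chkW.2.2.2.2.2.2.2.2.2.1 nwE_z

/-- The centraliser in `Co1` is a perfect central extension of the Suzuki group. -/
theorem exists_suz : ∃ π : centralizer (zpowers (toCo1 omg) : Set Spor.Co1) →* Spor.Suz,
    Function.Surjective π ∧ (∀ y, π y = 1 ↔ (y : Spor.Co1) ∈ zpowers (toCo1 omg)) ∧
    (∀ l < 8, π ⟨_, toCo1_mem_Cb (gm_mem l)⟩ = SuzP.g0 l) ∧
    IsQuasisimple (centralizer (zpowers (toCo1 omg) : Set Spor.Co1)) := by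
  obtain ⟨π, h1, h2, h3, -⟩ := exists_bar (x := omg) (cm_omg ▸ chkW.2.2.1)
  have := SuzP.simple
  have hq := Trans.isQuasisimple_of_isSimpleGroup not_comm_Suz
  have hs : Function.Surjective (suzE.symm.toMonoidHom.comp π) := suzE.symm.surjective.comp h1
  have hk : ∀ y, (suzE.symm.toMonoidHom.comp π) y = 1 ↔ (y : Spor.Co1) ∈ zpowers (toCo1 omg) :=
    fun y => (map_eq_one_iff _ suzE.symm.injective).trans (h2 y)
  refine ⟨_, hs, hk, fun l hl => suzE.symm_apply_eq.2 ((h3 ⟨_, gm_mem l⟩).trans (suzE_g0 hl).symm),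
    Trans.isQuasisimple_of_ker_le_center ?_ _ hs (fun y hy => mem_center_iff.2 fun g =>
      Subtype.ext (g.2 _ ((hk y).1 hy)).symm) hq⟩
  let g : ℕ → centralizer (zpowers (toCo1 omg) : Set Spor.Co1) := fun l => ⟨_, toCo1_mem_Cb (gm_mem l)⟩
  let w : centralizer (zpowers (toCo1 omg) : Set Spor.Co1) := ⟨toCo1 omg, mem_cent_zpowers.2 rfl⟩
  have hg : ∀ l < 8, Abelianization.of (g l) ^ 2 = 1 := fun l hl => by
    rw [← map_pow, show g l ^ 2 = 1 from Subtype.ext (by
      change toCo1 (gm l) ^ 2 = 1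
      rw [sq, ← map_mul]
      rcases gm_sq hl with h | h <;> rw [h]
      exacts [map_one _, toCo1_neg]), map_one]
  have hw : wv g [7, 6, 2, 7, 6, 2, 7, 6, 2, 7, 6, 2, 7, 6, 2] = w := Subtype.ext
    ((coe_wv g _).trans ((Bulk.map_wv gm toCo1 _).symm.trans
      (congrArg toCo1 (cm_inj ((cm_wv cm_gm _).trans (chkR.2.2.trans cm_omg.symm))))))
  have h2 : Abelianization.of w ^ 2 = 1 := by
    rw [← hw, Bulk.map_wv]
    exact wv_sq fun l hl => hg l (by revert l; decide)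
  have h3 : Abelianization.of w ^ 3 = 1 := by
    rw [← map_pow, show w ^ 3 = 1 from Subtype.ext ((map_pow toCo1 _ _).symm.trans
      (by rw [omg_pow]; rfl)), map_one]
  rw [pow_succ, h2, one_mul] at h3
  have h4 : (suzE.symm.toMonoidHom.comp π).ker ≤ commutator _ := fun y hy => by
    obtain ⟨k, hk⟩ := (hk y).1 hy
    rw [show y = w ^ k from Subtype.ext hk.symm]
    exact zpow_mem ((Abelianization.ker_of _).le h3) k
  have h5 := congrArg (comap (suzE.symm.toMonoidHom.comp π)) (_root_.map_commutator_eq _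
    (suzE.symm.toMonoidHom.comp π))
  rw [comap_map_eq, sup_eq_left.2 h4, MonoidHom.range_eq_top.2 hs, ← _root_.commutator_def,
    Trans.IsQuasisimple.commutator_eq_top hq, comap_top] at h5
  exact h5

theorem acts_gS {i : ℕ} (hi : i < 3) : comp (kS.getD i (0, 0)).1 (kS.getD i (0, 0)).2 = idK ∧
    ∃ g, F0.Acts g (kS.getD i (0, 0)).1 :=
  ⟨(chkA.2 i hi).2, _, acts0 (Reps.nth (L := gS) (fun A h => reps_all A (by simp [h])) i).cm_el
    (chkA.2 i hi).1⟩

theorem acts_mu3 : ∀ m ∈ [(idK, idK), kS.getD 0 (0, 0), (kS.getD 0 (0, 0)).swap, kS.getD 1 (0, 0)],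
    comp m.1 m.2 = idK ∧ ∃ g, F0.Acts g m.1 := by
  obtain ⟨h, g, hg⟩ := acts_gS (i := 0) (by norm_num)
  simp only [List.forall_mem_cons, List.not_mem_nil, false_imp_iff, implies_true, and_true]
  exact ⟨⟨by decide +kernel, 1, F0.acts_one⟩, ⟨h, g, hg⟩, ⟨by decide +kernel, _, hg.inv h⟩,
    acts_gS (by norm_num)⟩

theorem sylow3 : ∀ x ∈ C0, x ^ 3 = 1 → ∃ c ∈ C0, ∃ κ ∈ s243, F0.Acts (c * x * c⁻¹) κ := fun x hx h =>
  haveI : Fact (Nat.Prime 3) := Nat.fact_prime_three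
  exists_conj_acts (fun μ hμ => by
    simp only [k243, List.mem_cons, List.not_mem_nil, or_false] at hμ
    rcases hμ with rfl | rfl | rfl
    · exact ⟨_, acts_omg⟩
    · exact (acts_gS (i := 0) (by norm_num)).2
    · obtain ⟨g, j, -, -, k⟩ := exists_of_cjL acts_omg acts_mu3 (ν := 4120666644592553130047)
        (by rw [chkS3.2.2.2.2.2.1]; decide)
      exact ⟨_, k⟩) chkS3.1 chkS3.2.1 chkS3.2.2.1 chkS3.2.2.2.1 chkS3.2.2.2.2.1 (by norm_num) hx h

theorem reduce_three {G : Type*} [Group G] [Finite G] {z : G}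
    {Q : Subgroup (centralizer ({z} : Set G))} [Q.Normal] (hG : Nonempty (G ≃* Spor.Co1))
    (hz : orderOf z = 2) (hcard : Nat.card Q = 2 ^ 9) (e : centralizer ({z} : Set G) ⧸ Q ≃* Om8)
    {X : Subgroup (centralizer ({z} : Set G))} (hX : Nat.card X = 3) (hQX : Nat.card ↥⁅Q, X⁆ = 8) :
    ∃ f : G ≃* Spor.Co1,
      (X.map (Subgroup.subtype _)).map (f : G →* Spor.Co1) = zpowers (toCo1 omg) := by
  have : Fact (Nat.Prime 3) := Nat.fact_prime_three
  obtain ⟨f, hf, y, rfl, x, hy, h3, h1, κ, hκ, hx⟩ := reduce_p hG hz hcard e (by decide) sylow3 hX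
  have h := allL_iff.1 chkS3.2.2.2.2.2.2 κ hκ
  rw [Bool.or_eq_true, memL_iff, List.mem_cons, frc_eq, Nat.blt_eq] at h
  rcases h with (rfl | h) | h
  · exact absurd (eq_of_acts hx F0.acts_one (by decide) h3 (one_pow _)) h1
  · exact exists_equiv_of_cjL acts_omg acts_mu3 (chkS3.2.2.2.2.2.1 ▸ h) Nat.prime_three (by decide)
      orderOf_omg hx h3 f hy
  · refine absurd (countLT_comL_le hx (K := (⁅Q, zpowers y⁆.map (Subgroup.subtype _)).map
      (f : G →* Spor.Co1)) fun q hq => ?_) ?_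
    · obtain ⟨q, rfl⟩ := f.surjective q
      have hq' := (mem_C1 hf).1 (F1.sub_le_cent hq)
      refine ⟨_, ⟨_, commutator_mem_commutator ((reduce_Q hcard hf ⟨q, hq'⟩).1 hq) (mem_zpowers y),
        rfl⟩, ?_⟩
      simp [commutatorElement_def, ← hy, mul_assoc]
    · rw [card_map_of_injective f.injective, card_map_of_injective (subtype_injective _), hQX]
      exact not_le.2 h

theorem cent_three {G : Type*} [Group G] {X : Subgroup G} (f : G ≃* Spor.Co1)
    (hf : X.map (f : G →* Spor.Co1) = zpowers (toCo1 omg))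
    [(X.subgroupOf (centralizer (X : Set G))).Normal] : IsQuasisimple (centralizer (X : Set G)) ∧
    Spor.IsoSuz (centralizer (X : Set G) ⧸ X.subgroupOf (centralizer (X : Set G))) := by
  obtain ⟨π, h1, h2, -, h4⟩ := exists_suz
  let e := (f.subgroupMap (centralizer (X : Set G))).trans
    (MulEquiv.subgroupCongr ((map_cent f X).trans (by rw [hf])))
  refine ⟨Trans.IsQuasisimple.of_mulEquiv h4 e.symm, ⟨(QuotientGroup.quotientMulEquivOfEq ?_).trans
    (QuotientGroup.quotientKerEquivOfSurjective (π.comp e.toMonoidHom) (h1.comp e.surjective))⟩⟩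
  ext g
  rw [MonoidHom.mem_ker, MonoidHom.comp_apply, h2, mem_subgroupOf]
  exact (mem_map_iff_mem (f := (f : G →* Spor.Co1)) f.injective).symm.trans (by rw [hf]; rfl)

end Cfsg.Lib.SporChar.CL
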