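import Cfsg.Agent.SporChar.C2Fr
import Cfsg.Agent.SporChar.CoM24
import Cfsg.Agent.S0051

/-!
`Co2` embeds in a group of type `Co2`: extension to the monomial subgroup.
-/

set_option autoImplicit false
set_option maxRecDepth 100000

namespace Cfsg.Lib.SporChar.Co

open Cfsg Cfsg.Lib.Local Cfsg.Lib.Solv Cfsg.Lib.LX Cfsg.Lib.Spor Cfsg.Lib.Spor.CK Subgroup MulAction
open Cfsg.Lib.Spor.Bulk hiding allL enc allL_iff

attribute [local irreducible] mmul app tr cId cNeg cZero isSh isCo0 cm pk gFL T7 sgM enc V48 NL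

/-- An extension with elementary abelian kernel that splits over a subgroup of odd index splits. -/
theorem exists_good_of_odd' {A G : Type*} [Group A] [Group G] [Finite A] [Finite G]
    {S T : Subgroup (A × G)} (hT : T ≤ S) (gT : Good T)
    (hc : ∀ γ ∈ S, ∀ δ ∈ S, γ.1 = 1 → δ.1 = 1 → γ * δ = δ * γ)
    (h2 : ∀ γ ∈ S, γ.1 = 1 → γ * γ = 1) (ho : Odd ((fstS T).relIndex (fstS S))) :
    ∃ H ≤ S, Good H ∧ fstS H = fstS S := by
  let f : S →* A := (MonoidHom.fst A G).comp S.subtype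
  have hr : f.range = fstS S := by
    rw [MonoidHom.range_comp, range_subtype]
  have : IsMulCommutative f.ker := ⟨⟨fun x y => Subtype.ext (Subtype.ext
    (hc _ x.1.2 _ y.1.2 x.2 y.2))⟩⟩
  have : Fact (Nat.Prime 2) := ⟨Nat.prime_two⟩
  obtain ⟨n, hn⟩ := IsPGroup.iff_card.1 (show IsPGroup 2 f.ker from fun x =>
    ⟨1, Subtype.ext (Subtype.ext ((sq _).trans (h2 _ x.1.2 x.2)))⟩)
  have hm : (T.subgroupOf S).map f = fstS T := by
    rw [← map_map, subgroupOf_map_subtype, inf_eq_left.2 hT]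
  obtain ⟨H, hH⟩ := Cfsg.Agent.S0051.result f.ker ((fstS T).comap f) (ker_le_comap f _) (by
      rw [index_comap, hr, hn]
      exact (Nat.coprime_two_left.2 ho).pow_left n)
    (T.subgroupOf S) (hm ▸ le_comap_map _ _)
    (eq_bot_iff.2 fun x hx => Subtype.ext (gT _ hx.1 hx.2)) (by rw [← hm, comap_map_eq, sup_comm])
  refine ⟨H.map S.subtype, map_subtype_le _, ?_, ?_⟩
  · rintro _ ⟨x, hx, rfl⟩ e
    exact congrArg Subtype.val (disjoint_def.1 hH.disjoint (show x ∈ f.ker from e) hx)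
  · rw [fstS, map_map, ← hr, MonoidHom.range_eq_map, ← hH.sup_eq_top, Subgroup.map_sup,
      (Subgroup.map_eq_bot_iff _).2 le_rfl, bot_sup_eq]

theorem HomOn.wv {A G : Type*} [Group A] [Group G] {L : A → G} {K : Subgroup A} (h : HomOn L K)
    {g : ℕ → A} {w : List ℕ} (hw : ∀ l ∈ w, g l ∈ K) : L (wv g w) = wv (fun l => L (g l)) w := by
  induction w with
  | nil => exact h.one
  | cons l w ih =>
    have a : ∀ l ∈ w, g l ∈ K := fun a b => hw a (List.mem_cons_of_mem _ b)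
    rw [wv_cons, wv_cons, h _ (wv_mem _ a) _ (hw l List.mem_cons_self), ih a]

open Classical in
/-- The choice of the sign. -/
noncomputable def nsg (g : Co0) : Co0 := if g ∈ sCo2 then g else co0Neg * g

theorem uu_ne_neg : uu ≠ -uu := by decide +kernel

theorem nsg_pos {g : Co0} (h : g • uu = uu) : nsg g = g := if_pos h

theorem nsg_neg {g : Co0} (h : g • uu = -uu) : nsg g = co0Neg * g :=
  if_neg fun e => uu_ne_neg (e.symm.trans h)

theorem nsg_mul {g k : Co0} (hg : g • uu = uu ∨ g • uu = -uu) (hk : k • uu = uu ∨ k • uu = -uu) :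
    nsg (g * k) = nsg g * nsg k := by
  rcases hg with a | a <;> rcases hk with b | b
  · rw [nsg_pos a, nsg_pos b, nsg_pos (by rw [mul_smul, b, a])]
  · rw [nsg_pos a, nsg_neg b, nsg_neg (by rw [mul_smul, b, co0_smul_neg, a]), ← mul_assoc,
      ← mul_assoc, co0Neg_comm g]
  · rw [nsg_neg a, nsg_pos b, nsg_neg (by rw [mul_smul, b, a]), mul_assoc]
  · rw [nsg_neg a, nsg_neg b, nsg_pos (by rw [mul_smul, b, co0_smul_neg, a, neg_neg]), mul_assoc,
      ← mul_assoc g, co0Neg_comm g, mul_assoc, neg_mul_neg_mul]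

theorem pm_conj {s n : Co0} (hs : s ∈ A0) (hn : n ∈ N2) :
    (s * n * s⁻¹) • uu = uu ∨ (s * n * s⁻¹) • uu = -uu := by
  have k : (s * n * s⁻¹) • (e8 none + e8 (some 0)) = e8 none + e8 (some 0) ∨
      (s * n * s⁻¹) • (e8 none + e8 (some 0)) = -(e8 none + e8 (some 0)) := by
    obtain ⟨c, rfl⟩ := hs
    rw [sg_inv, mul_smul, mul_smul, co0_smul_add, sg_e8, sg_e8]
    rcases N2_cases hn with ⟨a, b⟩ | ⟨a, b⟩ <;> split_ifs with p q q <;>
      simp [co0_smul_add, co0_smul_neg, a, b, sg_e8, p, q, add_comm]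
  rw [← two_uu, co0_smul_zsmul, ← smul_neg] at k
  exact k.imp (leech_zsmul_inj (by norm_num)) (leech_zsmul_inj (by norm_num))

theorem nsg_conj_mem {s n : Co0} (hs : s ∈ A0) (hn : n ∈ N2) : nsg (s * n * s⁻¹) ∈ N2 := by
  have m := mul_mem (mul_mem (A0_le hs) hn.1) (inv_mem (A0_le hs))
  rcases pm_conj hs hn with a | a
  · rw [nsg_pos a]; exact ⟨m, a⟩
  · rw [nsg_neg a]
    exact ⟨mul_mem (A0_le neg_mem_A0) m,
      mem_stabilizer_iff.2 (by rw [mul_smul, a, co0Neg_smul, neg_neg])⟩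

/-- The choice of the sign on masks. -/
def nrM (m : ℕ) : ℕ := if isA2 m then m else 16777215 ^^^ m

theorem nsg_pl {s l : ℕ} (hl : l < 7) (hs : isGolay s = true) :
    nsg (sg (gw s) * pl l * (sg (gw s))⁻¹) = sg (gw (nrM (s ^^^ MP.apM (tP l) s))) * pl l := by
  have a := pl_conj hl hs
  have g := isGolay_xor hs a.1
  have e : sg (gw s) * pl l * (sg (gw s))⁻¹ = sg (gw (s ^^^ MP.apM (tP l) s)) * pl l := by
    rw [sg_xor hs a.1, ← a.2, sg_inv]; group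
  rw [e, nsg, nrM]
  by_cases c : isA2 (s ^^^ MP.apM (tP l) s) = true
  · rw [if_pos c, if_pos (sCo2.mul_mem (sg_A2 c).2 (pl_N2 hl).2)]
  · rw [if_neg c, if_neg fun r => c ((sg_mem_A2 g).1 ⟨sg_mem _,
      (sCo2.mul_mem_cancel_right (pl_N2 hl).2).1 r⟩), ← neg_mul_sg g, mul_assoc]

/-- The sign part of a word. -/
def mW (c : ℕ → ℕ) (r : List ℕ) : ℕ → ℕ :=
  List.rec (fun m => m) (fun l _ ih m => forceNat (c l ^^^ MP.apM (tP l) m) ih) r

theorem wv_mW {c : ℕ → ℕ} {r : List ℕ} (h : ∀ l ∈ r, l < 7 ∧ isA2 (c l) = true) {m : ℕ}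
    (hm : isA2 m = true) : isA2 (mW c r m) = true ∧
      wv (fun l => sg (gw (c l)) * pl l) r * sg (gw m) = sg (gw (mW c r m)) * wv pl r := by
  induction r generalizing m with
  | nil => exact ⟨hm, by simp [mW]⟩
  | cons l r ih =>
    obtain ⟨a, b⟩ := h l List.mem_cons_self
    have t := pl_conj a (isA2_golay hm)
    have x := sg_xor (isA2_golay b) t.1
    have := ih (fun a b => h a (List.mem_cons_of_mem _ b)) ((sg_mem_A2 (isGolay_xor (isA2_golay b)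
      t.1)).1 (x ▸ mul_mem (sg_A2 b) (t.2 ▸ conj_mem_A2 (pl_N2 a) (sg_A2 hm))))
    rw [show mW c (l :: r) m = mW c r (c l ^^^ MP.apM (tP l) m) from forceNat_eq _ _]
    refine ⟨this.1, ?_⟩
    rw [wv_cons, wv_cons, ← mul_assoc (sg _) (wv pl r) (pl l), ← this.2, x, ← t.2]
    group

/-- The product of a word of matrices. -/
def wMP (w : List ℕ) : ℕ :=
  List.rec cId (fun l _ ih => forceNat ih fun a => mmul a (nth cId NL l)) w

theorem cm_wv_pl (w : List ℕ) : cm (wv pl w) = wMP w := by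
  induction w with
  | nil => exact cm_one
  | cons l w ih =>
    rw [wv_cons, ← mmul_cm, ih, cm_pl]; exact (forceNat_eq _ fun a => mmul a (nth cId NL l)).symm

/-- Relators. -/
def relB : List (List ℕ) := [[0,1,1,0,1,1,0,1,1],[0,0,0,1,1,0,0,0,1,1],[0,0,1,0,1,0,0,1,0,1,0,0,1,0,1,0,0,1,0,1],[0,0,0,1,0,1,0,0,0,1,0,1,0,0,0,1,0,1,0,0,0,1,0,1,0,0,0,1,0,1]]

/-- The cocycles. -/
def cocB : List (ℕ × ℕ × ℕ) := [(0,0,0),(1909678,15864000,0),(2130606,7578561,0),(4038912,8499969,0),(4202192,8499969,1),(6110590,7578561,1),(6331518,15864000,1),(8241104,0,1)]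

/-- The rank is at most two and the element is conjugate to its product with `z`. -/
def badB (κ u w x : ℕ) : Bool := Nat.beq (ev κ x) (x ^^^ 256) && Nat.blt x 512 &&
  allLT 256 fun i => [0, u, w, u ^^^ w].contains ((ev κ i ^^^ i) % 256)

set_option synthInstance.maxSize 4096 in
theorem chkCoc : (∀ r ∈ [0, 0, 0, 0, 0] :: relB, wMP r = cId ∧ ∀ l ∈ r, l < 2) ∧
    allLT 4096 (fun k => frc (enc k) fun m => !isA2 m ||
      !Nat.beq (mW (fun _ => m) [0, 0, 0, 0, 0] 0) 0 || frc (MP.apM (tP 0) m) fun m' =>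
        frc (m' ^^^ MP.apM (tP 0) (MP.apM (tP 0) m')) fun w =>
          isGolay w && Nat.beq (nrM (w ^^^ MP.apM (tP 0) w)) m) = true ∧
    allLT 4096 (fun k => frc (enc k) fun m => !isA2 m ||
      !allL (fun r => Nat.beq (mW (two 0 m) r 0) 0) relB || (cocB.map Prod.fst).contains m) = true ∧
    (∀ p ∈ cocB, isGolay p.2.1 = true ∧ nrM (p.2.1 ^^^ MP.apM (tP 0) p.2.1) = 0 ∧
      (nrM (p.2.1 ^^^ MP.apM (tP 1) p.2.1) = p.1 ∨
        nrM (p.2.1 ^^^ MP.apM (tP 1) p.2.1) = 8241104 ^^^ p.1)) ∧ isA2 0 = true ∧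
    (∀ m ∈ [4526126, 8088382], isA2 m = true ∧
      (isGolay m && isCo0 (sgM m) && isMonoMat MP.pid m (sgM m)) = true) ∧
    mmul (wM7 [5, 4, 3, 2, 0, 6, 5, 4, 3, 2]) (mmul (nth cId gFL 8) (mmul (sgM 4526126) (wMP [1, 1, 1])))
      = mmul (sgM 8088382) (wM7 [5, 4, 3, 2, 0, 6, 5, 4, 3, 2]) ∧
    mW (fun _ => 0) [2, 0, 1, 0, 2, 0, 1] 8241104 = 8088382 ∧
    actsB (mmul (mmul (wMP [0, 2, 1, 2, 0, 2]) (mmul (sgM 4526126) (wMP [1, 1, 1])))
      (tr (wMP [0, 2, 1, 2, 0, 2]))) 3545820250206079290881 = true ∧ badB 3545820250206079290881 5 160 32 = true := by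
  decide +kernel

variable {G : Type*} [Group G] {F : Frame G} {L LN : Co0 → G}

theorem Frame.not_conj_of_bad [Finite G] (h : F.sub = qOf F.z) (wc : LX.WC F.z) {g : G}
    {κ u w x : ℕ} (k : F.Acts g κ) (b : badB κ u w x = true) : ¬ IsConj F.z g := fun c => by
  rw [badB, Bool.and_eq_true, Bool.and_eq_true, Nat.beq_eq, Nat.blt_eq, allLT_iff] at b
  obtain ⟨⟨b1, b2⟩, b3⟩ := b
  have e := k.conj x
  rw [b1, F.fr_xor_256] at e
  have p : Pr F.z g := ⟨wc, c, fun r => F.ne (by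
    rwa [r, ← F.z_comm, mul_inv_cancel_right, left_eq_mul] at e), k.comm_z⟩
  refine (p.isU_of_rank (F.sh h rfl wc.pre) ?_).not_sw ⟨(F.fr x)⁻¹, inv_mem (h ▸ F.fr_mem b2), ?_⟩
  · refine (Submodule.finrank_mono (t := Submodule.span (ZMod 2) {vec u, vec w}) ?_).trans
      ((finrank_span_le_card _).trans ?_)
    · rintro _ ⟨v, rfl⟩
      obtain ⟨i, hi, rfl⟩ := vec_surj v
      have a : vec u ∈ Submodule.span (ZMod 2) {vec u, vec w} := Submodule.subset_span (by simp)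
      have b : vec w ∈ Submodule.span (ZMod 2) {vec u, vec w} := Submodule.subset_span (by simp)
      have := b3 i hi
      rw [Frame.sh_N k, ← vec_mod (ev κ i ^^^ i)]
      simp only [List.contains_iff_mem, List.mem_cons, List.not_mem_nil, or_false] at this
      rcases this with r | r | r | r <;> rw [r]
      exacts [vec_256.1 ▸ zero_mem _, a, b, vec_xor u w ▸ add_mem a b]
    · simpa using Finset.card_le_two
  · rw [inv_inv, mul_assoc, mul_inv_eq_iff_eq_mul.1 e]; group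

/-- The pairs that act compatibly on the sign changes. -/
def NA2 (L : Co0 → G) : Subgroup (Co0 × G) where
  carrier := {γ | γ.1 ∈ N2 ∧ ∀ a ∈ A2, γ.2 * L a * γ.2⁻¹ = L (γ.1 * a * γ.1⁻¹)}
  one_mem' := ⟨one_mem _, fun a _ => by simp⟩
  mul_mem' {γ δ} a b := ⟨mul_mem a.1 b.1, fun x hx => by
    calc _ = γ.2 * (δ.2 * L x * δ.2⁻¹) * γ.2⁻¹ := by rw [Prod.snd_mul]; group
      _ = _ := by
        rw [b.2 x hx, a.2 _ (conj_mem_A2 b.1 hx), Prod.fst_mul, mul_inv_rev]; simp only [mul_assoc]⟩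
  inv_mem' {γ} a := ⟨inv_mem a.1, fun x hx => by
    have := a.2 _ (conj_mem_A2 (inv_mem a.1) hx)
    rw [show γ.1 * (γ.1⁻¹ * x * γ.1⁻¹⁻¹) * γ.1⁻¹ = x by group] at this
    rw [← this, Prod.snd_inv, Prod.fst_inv]; group⟩

theorem Spl.mem_NA2 (h : Spl F L) {k : Co0} (a : k ∈ C2) (b : k ∈ N2) : (k, L k) ∈ NA2 L :=
  ⟨b, fun _ c => (h.hom.conj a (A2_le_C2 c)).symm⟩

theorem Spl.ker_NA2 (h : Spl F L) {γ : Co0 × G} (a : γ ∈ NA2 L) (e : γ.1 = 1) :
    ∃ w ∈ A2, γ = (1, L w) := by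
  have k : ∀ x ∈ A2, γ.2 * L x * γ.2⁻¹ = L x := fun x b => by rw [a.2 x b, e]; simp
  obtain ⟨c, b, f⟩ := h.onto (mem_C.2 (mul_inv_eq_iff_eq_mul.1 (h.z ▸ k _ z0_mem_A2)))
  refine ⟨c, mem_A2_of_comm b.2 fun x hx => mul_inv_eq_iff_eq_mul.1 ?_, Prod.ext e f.symm⟩
  exact h.inj (mul_mem (mul_mem b (A2_le_C2 hx)) (inv_mem b)) (A2_le_C2 hx)
    (by rw [h.hom.conj b (A2_le_C2 hx), f, k x hx])

/-- An extension to the monomial subgroup of the restriction to the sign changes. -/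
structure Ext (L LN : Co0 → G) : Prop where
  hom : HomOn LN N2
  onA : ∀ s ∈ A2, LN s = L s

theorem cP01_le : cP [0, 1] ≤ N2 ⊓ C2 := specB.2 ▸ le_sup_right

theorem Spl.exists_ext [Finite G] (h : Spl F L) {x : G}
    (hx : ∀ t ∈ A2, x * L t * x⁻¹ = L (pl 2 * t * (pl 2)⁻¹)) : ∃ LN, Ext L LN := by
  have hB := h.hom.mono (cP01_le.trans inf_le_right)
  have hA := h.hom.mono A2_le_C2
  have l : cP [0, 1] ≤ cP [0, 1, 2] := cP_le fun l a => pl_mem (by revert l; decide)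
  have f : fstS (NA2 L ⊓ (cP [0, 1, 2]).comap (MonoidHom.fst _ _)) = cP [0, 1, 2] :=
    le_antisymm (map_le_iff_le_comap.2 inf_le_right) (cP_le fun l a => by
      by_cases c : l = 2
      · exact ⟨(pl 2, x), ⟨⟨pl_N2 (by norm_num), hx⟩, pl_mem (by simp)⟩, c ▸ rfl⟩
      · have : l < 7 ∧ l ≠ 3 := by revert l; decide
        exact ⟨_, ⟨h.mem_NA2 (pl_C2 this.1 c this.2) (pl_N2 this.1), pl_mem a⟩, rfl⟩)
  obtain ⟨H, h1, h2, h3⟩ := exists_good_of_odd'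
    (S := NA2 L ⊓ (cP [0, 1, 2]).comap (MonoidHom.fst _ _)) (T := hB.gr)
    (fun γ a => (Prod.ext rfl a.2 : γ = (γ.1, L γ.1)) ▸
      ⟨h.mem_NA2 (cP01_le a.1).2 (cP01_le a.1).1, l a.1⟩) hB.good
    (fun γ a δ b c d => by
      obtain ⟨v, v1, rfl⟩ := h.ker_NA2 a.1 c
      obtain ⟨w, w1, rfl⟩ := h.ker_NA2 b.1 d
      exact Prod.ext rfl (hA.comm v1 w1 (A0_comm v1.1 w1.1)))
    (fun γ a c => by
      obtain ⟨v, v1, rfl⟩ := h.ker_NA2 a.1 c
      exact Prod.ext (mul_one 1) ((hA _ v1 _ v1).symm.trans (A0_sq v1.1 ▸ hA.one)))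
    (by
      have := ((cP [0, 1]).subgroupOf (cP [0, 1, 2])).card_mul_index
      rw [Nat.card_congr (subgroupOfEquivOfLe l).toEquiv, specB.1, specM.1] at this
      rw [hB.fst_gr, f, show relIndex _ _ = 77 by rw [relIndex]; omega]
      decide)
  have n1 : ∀ γ ∈ NA2 L, ∀ δ ∈ hA.gr, γ * δ * γ⁻¹ ∈ hA.gr := fun γ a δ b =>
    ⟨conj_mem_A2 a.1 b.1, by rw [Prod.snd_mul, Prod.snd_mul, b.2]; exact a.2 _ b.1⟩
  have g : Good (H ⊔ hA.gr) := fun γ a e => by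
    obtain ⟨α, a1, β, b1, rfl⟩ := exists_mul_of_mem_sup ((h1.trans inf_le_left).trans fun γ a =>
      mem_normalizer_iff.2 fun δ =>
        ⟨n1 γ a δ, fun b => by simpa [mul_assoc] using n1 _ (inv_mem a) _ b⟩) a
    obtain ⟨σ, s⟩ := cP_le (fun l c => pl_perm (by revert l; decide)) (h1 a1).2
    have m : α.1 ∈ A0 := (eq_inv_of_mul_eq_one_left e : α.1 = β.1⁻¹) ▸ inv_mem b1.1.1
    obtain rfl := h2 α a1 (by
      rw [← show permCo0 σ = α.1 from s] at m ⊢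
      rw [perm_eq_one_of_mem_A0 m, map_one])
    rw [one_mul] at e ⊢
    exact hA.good β b1 e
  have fS : fstS (H ⊔ hA.gr) = N2 := by
    rw [fstS, Subgroup.map_sup, ← specM.2, sup_comm]
    exact congrArg₂ _ hA.fst_gr (h3.trans f)
  obtain ⟨LN, n2, n3⟩ := g.exists_homOn
  exact ⟨LN, fS ▸ n2, fun s a => n3 _ (mem_sup_right (hA.mem_gr a))⟩

namespace Ext

theorem exists_c (h : Ext L LN) (s : Spl F L) {b : Co0} (hb : b ∈ N2 ⊓ C2) :
    ∃ k < 4096, isA2 (enc k) = true ∧ LN (sg (gw (enc k)) * b) = L b := by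
  have m : (b, LN b) ∈ NA2 L := ⟨hb.1, fun a c => by
    rw [← h.onA a c, ← h.onA _ (conj_mem_A2 hb.1 c), h.hom.conj hb.1 (A2_le_N2 c)]⟩
  obtain ⟨w, w1, w2⟩ := s.ker_NA2 (mul_mem (s.mem_NA2 hb.2 hb.1) (inv_mem m)) (mul_inv_cancel b)
  obtain ⟨k, k1, k2, rfl⟩ := exists_A2 w1
  exact ⟨k, k1, k2, by
    rw [h.hom _ (A2_le_N2 w1) _ hb.1, h.onA _ w1]
    exact (mul_inv_eq_iff_eq_mul.1 (congrArg Prod.snd w2)).symm⟩

theorem twist (h : Ext L LN) {s : Co0} (hs : s ∈ A0) : Ext L fun n => LN (nsg (s * n * s⁻¹)) :=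
  ⟨fun x a y b => by
    rw [← h.hom _ (nsg_conj_mem hs a) _ (nsg_conj_mem hs b), ← nsg_mul (pm_conj hs a) (pm_conj hs b),
      conj_mul],
    fun t a => by rw [A0_comm hs a.1, mul_inv_cancel_right, nsg_pos a.2, h.onA t a]⟩

theorem rel (h : Ext L LN) (s : Spl F L) {c : ℕ → ℕ} {r : List ℕ} (hr : r ∈ [0, 0, 0, 0, 0] :: relB)
    (hc : ∀ l ∈ r, isA2 (c l) = true ∧ LN (sg (gw (c l)) * pl l) = L (pl l)) : mW c r 0 = 0 := by
  obtain ⟨a, b⟩ := chkCoc.1 r hr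
  have e : wv pl r = 1 := cm_inj ((cm_wv_pl r).trans (a.trans cm_one.symm))
  obtain ⟨c1, c2⟩ := wv_mW (c := c) (r := r) (fun l k => ⟨by have := b l k; omega, (hc l k).1⟩)
    chkCoc.2.2.2.2.1
  rw [e, sg_gw_zero, mul_one, mul_one] at c2
  refine sg_gw_inj (isA2_golay c1) (by decide +kernel) ((s.ker (A2_le_C2 (sg_A2 c1)) ?_).trans
    sg_gw_zero.symm)
  rw [← h.onA _ (sg_A2 c1), ← c2, h.hom.wv fun l k => mul_mem (A2_le_N2 (sg_A2 (hc l k).1))
    (pl_N2 (by have := b l k; omega)), wv_congr fun l k => (hc l k).2, ← s.hom.wv fun l k => by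
      have := b l k
      exact pl_C2 (by omega) (by omega) (by omega), e, s.hom.one]

theorem step1 (h : Ext L LN) (s : Spl F L) : ∃ LN, Ext L LN ∧ LN (pl 0) = L (pl 0) := by
  obtain ⟨k, k1, k2, k3⟩ := h.exists_c s (cP01_le (pl_mem (l := 0) (by simp)))
  have := allLT_iff.1 chkCoc.2.1 k k1
  rw [frc_eq, frc_eq, frc_eq, k2, h.rel s (c := fun _ => enc k) List.mem_cons_self
    (by simp [k2, k3])] at this
  simp only [Bool.not_true, Bool.false_or, Nat.beq_refl, Bool.and_eq_true, Nat.beq_eq] at this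
  exact ⟨_, h.twist (sg_mem _), by rw [nsg_pl (by norm_num) this.1, this.2, k3]⟩

theorem step2 (h : Ext L LN) (s : Spl F L) (e : LN (pl 0) = L (pl 0)) : ∃ LN, Ext L LN ∧
    LN (pl 0) = L (pl 0) ∧ (LN (pl 1) = L (pl 1) ∨ LN (pl 1) = L (pl 1) * F.z) := by
  obtain ⟨k, k1, k2, k3⟩ := h.exists_c s (cP01_le (pl_mem (l := 1) (by simp)))
  have := allLT_iff.1 chkCoc.2.2.1 k k1
  rw [frc_eq, k2, allL_iff.2 fun r a => Nat.beq_eq.mpr (h.rel s (List.mem_cons_of_mem _ a)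
    fun l b => by
      obtain rfl | rfl : l = 0 ∨ l = 1 := by
        have := (chkCoc.1 r (List.mem_cons_of_mem _ a)).2 l b; omega
      · exact ⟨chkCoc.2.2.2.2.1, by rw [show two 0 (enc k) 0 = 0 from rfl, sg_gw_zero, one_mul, e]⟩
      · exact ⟨k2, k3⟩), Bool.not_true, Bool.false_or, Bool.false_or,
    List.contains_iff_mem] at this
  obtain ⟨p, p1, p2⟩ := List.mem_map.1 this
  obtain ⟨q1, q2, q3⟩ := chkCoc.2.2.2.1 p p1
  refine ⟨_, h.twist (sg_mem (gw p.2.1)), ?_, q3.imp (fun r => ?_) fun r => ?_⟩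
  · rw [nsg_pl (by norm_num) q1, q2, sg_gw_zero, one_mul, e]
  · rw [nsg_pl (by norm_num) q1, r, p2, k3]
  · rw [nsg_pl (by norm_num) q1, r, p2, sg_xor golay_z (isA2_golay k2), ← z0_eq, mul_assoc,
      h.hom _ (A2_le_N2 z0_mem_A2) _ (mul_mem (A2_le_N2 (sg_A2 k2)) (pl_N2 (by norm_num))), k3,
      h.onA _ z0_mem_A2, s.z, mem_C.1 (s.mem_cent (pl_C2 (by norm_num) (by norm_num) (by norm_num)))]

theorem mem_of (h : Ext L LN) {K : Subgroup (Co0 × G)} (hA : ∀ t ∈ A2, (t, L t) ∈ K)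
    (h0 : (pl 0, LN (pl 0)) ∈ K) (h1 : (pl 1, LN (pl 1)) ∈ K) {b : Co0} (hb : b ∈ N2 ⊓ C2) :
    (b, LN b) ∈ K := by
  obtain ⟨γ, a, rfl⟩ := (specB.2.ge.trans (sup_le (c := fstS (h.hom.gr ⊓ K))
    (fun t a => ⟨_, ⟨h.hom.mem_gr (A2_le_N2 a), h.onA t a ▸ hA t a⟩, rfl⟩) (cP_le (by
      simp only [List.forall_mem_cons]
      exact ⟨⟨_, ⟨h.hom.mem_gr (pl_N2 (by norm_num)), h0⟩, rfl⟩,
        ⟨_, ⟨h.hom.mem_gr (pl_N2 (by norm_num)), h1⟩, rfl⟩, by simp⟩)))) hb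
  exact (Prod.ext rfl a.1.2 : γ = (γ.1, LN γ.1)) ▸ a.2

theorem isConj_mask (h : Ext L LN) {w : List ℕ} (hw : ∀ l ∈ w, l < 7) {m : ℕ} (hm : isA2 m = true) :
    IsConj (L (sg (gw m))) (L (sg (gw (mW (fun _ => 0) w m)))) := by
  obtain ⟨a, b⟩ := wv_mW (c := fun _ => 0) (fun l k => ⟨hw l k, chkCoc.2.2.2.2.1⟩) hm
  simp only [sg_gw_zero, one_mul] at b
  have m : wv pl w ∈ N2 := wv_mem _ fun l k => pl_N2 (hw l k)
  exact isConj_iff.2 ⟨LN (wv pl w), by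
    rw [← h.onA _ (sg_A2 hm), ← h.onA _ (sg_A2 a), ← h.hom.conj m (A2_le_N2 (sg_A2 hm)),
      mul_inv_eq_iff_eq_mul.2 b]⟩

theorem step3 [Finite G] (h : Ext L LN) (s : Spl F L) (wc : LX.WC F.z) (e : LN (pl 0) = L (pl 0)) :
    LN (pl 1) ≠ L (pl 1) * F.z := fun e' => by
  obtain ⟨-, -, -, -, -, c1, c2, c3, c4, c5⟩ := chkCoc
  simp only [List.forall_mem_cons] at c1
  have g : ∀ {c : Co0} {x : G}, c ∈ C2 → x = L c ∨ x = L c * F.z →
      (c, x) ∈ normalizer ((F0.prod F).sub : Set (Co0 × G)) := fun {c x} a b => by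
    obtain ⟨κ, k⟩ := exists_acts0 a.1
    rcases b with rfl | rfl
    exacts [(Frame.acts_prod.2 ⟨k, s.acts c a κ k⟩).mem_normalizer,
      (Frame.acts_prod.2 ⟨k, (s.acts c a κ k).mul_z⟩).mem_normalizer]
  have p1 : pl 1 ∈ C2 := pl_C2 (by norm_num) (by norm_num) (by norm_num)
  have a1 := sg_A2 c1.1.1
  have o1 : ∀ {P : ℕ → Prop}, P 1 → ∀ l ∈ [1, 1, 1], P l := fun a => by simpa using a
  have w1 : wv pl [1, 1, 1] ∈ N2 ⊓ C2 := wv_mem _ (o1 ⟨pl_N2 (by norm_num), p1⟩)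
  have w2 : wv pl [0, 2, 1, 2, 0, 2] ∈ N2 := wv_mem _ fun l k => pl_N2 (by revert l; decide)
  have w3 : wv tt [5, 4, 3, 2, 0, 6, 5, 4, 3, 2] ∈ C2 :=
    wv_mem _ fun l k => tt_mem (by revert l; decide)
  have b1 := mul_mem (A2_le_N2 a1) w1.1
  have b2 := mul_mem Spl.z_mem (mul_mem (A2_le_C2 a1) w1.2)
  have k := acts0 (g := wv pl [0, 2, 1, 2, 0, 2] * (sg (gw 4526126) * wv pl [1, 1, 1]) *
    (wv pl [0, 2, 1, 2, 0, 2])⁻¹) (by
      rw [← mmul_cm, ← mmul_cm, ← mmul_cm, ← tr_cm, cm_wv_pl, cm_wv_pl, cm_sg c1.1.2]) c4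
  have b3 := mul_mem (mul_mem w2 b1) (inv_mem w2)
  refine Frame.not_conj_of_bad s.typ.sub wc (Frame.Acts.snd (h.mem_of (fun t a => g (A2_le_C2 a) (.inl rfl))
    (g (pl_C2 (by norm_num) (by norm_num) (by norm_num)) (.inl e)) (g p1 (.inr e'))
    ⟨b3, k.mem_cent, b3.2⟩) k) c5 ?_
  have i1 := h.isConj_mask (w := [2, 0, 1, 0, 2, 0, 1]) (by decide) chkLam.2.2.2.2.2.1
  rw [c3, ← z0_eq, s.z] at i1
  have e1 : wv tt [5, 4, 3, 2, 0, 6, 5, 4, 3, 2] * (F0.z * (sg (gw 4526126) * wv pl [1, 1, 1])) *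
      (wv tt [5, 4, 3, 2, 0, 6, 5, 4, 3, 2])⁻¹ = sg (gw 8088382) :=
    mul_inv_eq_iff_eq_mul.2 (cm_inj (by
      rw [← mmul_cm, ← mmul_cm, ← mmul_cm, ← mmul_cm, cm_wv_pl, cm_wv_tt, cm_gF, cm_sg c1.1.2,
        cm_sg c1.2.1.2, c2]))
  have e2 : LN (sg (gw 4526126) * wv pl [1, 1, 1]) =
      L (F0.z * (sg (gw 4526126) * wv pl [1, 1, 1])) := by
    rw [h.hom _ (A2_le_N2 a1) _ w1.1, h.onA _ a1, h.hom.wv (o1 (pl_N2 (by norm_num))),
      wv_congr (g' := fun l => L (pl l) * F.z) (by simp [e']),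
      wv_mul_central (by simp [mem_C.1 (s.mem_cent p1)]), ← s.hom.wv (o1 p1), ← mul_assoc,
      ← s.hom _ (A2_le_C2 a1) _ w1.2, s.hom _ Spl.z_mem _ (mul_mem (A2_le_C2 a1) w1.2), s.z,
      ← mem_C.1 (s.mem_cent (mul_mem (A2_le_C2 a1) w1.2)), show [1, 1, 1].length = 2 + 1 from rfl,
      pow_succ, sq, F.zz, one_mul]
  rw [← e1, s.hom.conj w3 b2, ← e2] at i1
  exact (i1.trans (isConj_conj _ _).symm).trans (h.hom.conj w2 b1 ▸ isConj_conj _ _)

end Ext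

/-- The embedding of `Co2`. -/
theorem StU.exists_hom2 [Finite G] {a : G} (h : StU F a) : ∃ (ψ : sCo2 →* G) (L : Co0 → G),
    Function.Injective ψ ∧ Spl F L ∧ ψ ⟨F0.z, z0_uu⟩ = F.z ∧ centralizer {F.z} ≤ ψ.range := by
  classical
  obtain ⟨L, s⟩ := h.exists_spl
  obtain ⟨x, hx⟩ := h.exists_x s
  obtain ⟨L1, e1⟩ := s.exists_ext hx
  obtain ⟨L2, e2, a2⟩ := e1.step1 s
  obtain ⟨LN, e3, a3, b3⟩ := e2.step2 s a2
  have b4 := b3.resolve_right (e3.step3 s h.isU.pr.wz a3)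
  have e : ∀ x ∈ C2, (if x ∈ monoSub then LN x else L x) = L x := fun x a => by
    split_ifs with b
    · exact (e3.mem_of (K := s.hom.gr) (fun t a => s.hom.mem_gr (A2_le_C2 a))
        (a3 ▸ s.hom.mem_gr (pl_C2 (by norm_num) (by norm_num) (by norm_num)))
        (b4 ▸ s.hom.mem_gr (pl_C2 (by norm_num) (by norm_num) (by norm_num))) ⟨⟨b, a.2⟩, a⟩).2
    · rfl
  have ez := (e _ Spl.z_mem).trans s.z
  have m : Amal sCo2 fun x => if x ∈ monoSub then LN x else L x :=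
    ⟨le_rfl, fun x a y b => (e _ (mul_mem a b)).trans ((s.hom x a y b).trans
        (congrArg₂ _ (e x a).symm (e y b).symm)),
      fun x a y b => (if_pos (monoSub.mul_mem a.1 b.1)).trans ((e3.hom x a y b).trans
        (congrArg₂ _ (if_pos a.1).symm (if_pos b.1).symm)),
      fun x a b => .inl (s.ker a ((e x a).symm.trans b)), fun g a => by
        simp only [ez] at a
        obtain ⟨x, b, c⟩ := s.onto (mem_C.2 a)
        exact ⟨x, b, (e x b).trans c⟩⟩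
  obtain ⟨ψ, a, b, c⟩ := m.exists_hom2 (by simp only [ez]; exact F.ne)
  simp only [ez] at b c
  exact ⟨ψ, L, a, s, b, c⟩

end Cfsg.Lib.SporChar.Co
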