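import Cfsg.Agent.SporChar.C2Amal
import Cfsg.Agent.SporChar.Co1Inv
import Cfsg.Agent.KInv.CoOrb

/-!
The three classes of involutions of `Co2`.
-/

set_option autoImplicit false
set_option maxRecDepth 100000

namespace Cfsg.Lib.SporChar.Co

open Cfsg Cfsg.Lib.Local Cfsg.Lib.Solv Cfsg.Lib.LX Cfsg.Lib.Spor Cfsg.Lib.Spor.CK Subgroup MulAction
open Cfsg.Lib.Spor.Bulk hiding allL enc allL_iff
open scoped Pointwise

attribute [local irreducible] mmul app tr cId cNeg cZero isSh isCo0 cm pk gFL T7 sgM enc V48 NL

/-- Distances to the representatives. -/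
def rkT : ℕ := 0x70400000502000000000607000006070000070700000700050700000506000000000405000003060503000006070000060400000707000000000707000008040606000008070000000005050000030600000507000006070206000006060000000006050000050605050000040400000507000007070000000006050000040004070000060800000000070700000407000004080000080406070000040600000000070300000505050600000707000005070000060700000000060600000707050500000606000000000506000005070000060500000507030400000706000000000204000006060405000006070000050800000707000000000706000004040505000006050000000007070000060800000606000007070607000005070000000003050000060706050000050500000606000006070000000006070000060406050000040600000000070700000607000004070000070207070000050600000000070800000605040800000606000006070000050600000000060700000506060500000506000000000507000003060000070700000506060500000205000000000507000004060607000006060000080700000605000000000207000006030606000006080000000006040000060600000605000007040306000004080000000005070000060805070000070600000707000006070000000003050000050700000707000006050605000005030000050500000607000000000708000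00706060500000505000000000507000007080000040600000704060600000608000000000605000008060506000006020000050400000506000000000507000005040507000006060000000005060000060500000707000006070503000007070000000005070000060705060000050600000603000006060000000003060000050807040000070500000000050500000605000007070000050306070000070600000000040700000405060300000608000005040000030500000000070700000605060400000606000000000606000005060000050700000705070500000608000000000501000007050506000007060000060400000606000000000602000007030304000002050000000007060000070700000705000006070504000006050000000007060000050606070000050700000607000005040000000005060000080605030000050400000000050400000406000004050000070101070000050400000000070600000606050700000506000006070000040700000000050600000602050600000606000000000605000003040000060500000805070800000706000000000703000007050606000007070000040600000707000000000605000007040607000006050000000003060000050600000705000007040306000006070000000006070000070606060000040600000704000005070000000007070000050406060000040500000000060600000306000007070000070707050000050700000000060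60000060606070000070700000405000005070000000006070000060804060000040500000000080600000604000006070000070205070000060600000000030400000506060600000605000004060000020400000000070500000603030100000605000000000507000006070000060800000507070800000506000000000706000005070504000004060000070600000505000000000606000006050207000007050000000006040000070600000606000005030606000005040000000006070000050704050000040500000605000007060000000006070000070606050000050500000000060400000407000007060000070305070000010800000000060700000807030800000605000006070000060500000000060600000501050600000604000000000707000006060000050600000607040500000505000000000608000007070707000004070000060500000603000000000608000006050607000007080000000007060000040400000707000007040706000002070000000007060000050606040000050400000706000007050000000007080000050304080000060500000000060500000605000008060000060405050000060700000607000007050000000006050000060600000808000006070706000008060000000006050000050405040000060700000607000006070000000003060000060507030000070500000000040700000706000004070000050405060000060600000000060700000307070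600000506000005060000060500000000070500000606050500000704000000000405000007070000070600000706070600000607000000000506000008050706000007020000080600000705000000000305000004030504000004050000000006060000070600000705000007020407000005060000000006070000050606060000080300000507000006060000000006050000040505060000060700000000040700000605000007060000070506080000080600000000060500000603070500000507000005040000070600000000060400000703060600000507000000000705000006050000060300000706040700000707000000000706000006070307000005070000060400000507000000000405000006030606000005060000000008010000070600000504000007020607000006030000000006060000060404050000060800000506000004060000000005060000040607060000060400000000030500000607000007070000060800040000060600000000060400000604040500000505000006060000050600000000040400000500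

/-- The distance of a mask to its representative. -/
def rkM (m : ℕ) : ℕ := Nat.land (Nat.shiftRight rkT (4 * Nat.land m 4095)) 15

theorem chkRk : allLT 4096 (fun k => frc (enc k) fun m => !isA2 m ||
    [0, 8241104, 1351424, 2076750].contains m ||
    [0, 1, 2].any fun l => frc (MP.apM (tP l) m) fun m' => Nat.blt (rkM m') (rkM m)) = true := by
  decide +kernel

theorem mask_conj (m : ℕ) (hm : isA2 m = true) : ∃ k ∈ sCo2, ∃ r ∈ [0, 8241104, 1351424, 2076750],
    k * sg (gw m) * k⁻¹ = sg (gw r) := by
  induction h : rkM m using Nat.strong_induction_on generalizing m with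
  | _ n ih =>
    obtain ⟨j, hj, rfl⟩ := isGolay_iff.1 (isA2_golay hm)
    have := allLT_iff.1 chkRk j hj
    simp only [frc_eq, hm, Bool.not_true, Bool.false_or, Bool.or_eq_true, List.contains_iff_mem,
      List.any_eq_true, Nat.blt_eq] at this
    rcases this with c | ⟨l, a, b⟩
    · exact ⟨1, one_mem _, _, c, by simp⟩
    · have l7 : l < 7 := by clear b; revert l; decide
      have t := pl_conj l7 (isA2_golay hm)
      obtain ⟨k, k1, r, r1, e⟩ := ih _ (h ▸ b) _ ((sg_mem_A2 t.1).1
        (t.2 ▸ conj_mem_A2 (pl_N2 l7) (sg_A2 hm))) rfl
      exact ⟨k * pl l, sCo2.mul_mem k1 (pl_N2 l7).2, r, r1, by rw [← e, ← t.2]; group⟩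

/-- The vectors of shape `(± 4, ± 4, 0²²)`. -/
theorem exists_mono_uu {v : leechLattice} (hv : nm v = 32) (h : ∀ i, (4 : ℤ) ∣ (v : GolayPt → ℤ) i) :
    ∃ m ∈ monoSub, m • v = uu := by
  have s : ∀ T : Finset GolayPt, ∑ i ∈ T, v.1 i ^ 2 ≤ 32 := fun T => hv ▸
    Finset.sum_le_sum_of_subset_of_nonneg (Finset.subset_univ _) fun _ _ _ => sq_nonneg _
  have b : ∀ i, v.1 i ≠ 0 → 16 ≤ v.1 i ^ 2 := fun i a => by
    have := h i
    rcases show v.1 i ≤ -4 ∨ 4 ≤ v.1 i by omega with e | e <;> nlinarith
  have c : ∀ i, v.1 i ≠ 0 → v.1 i = 4 ∨ v.1 i = -4 := fun i a => by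
    have := h i
    have e := s {i}
    rw [Finset.sum_singleton] at e
    have : v.1 i ≤ 5 := by nlinarith
    have : -5 ≤ v.1 i := by nlinarith
    omega
  have d : ∀ T : Finset GolayPt, (∀ i ∉ T, v.1 i = 0) → ∑ i ∈ T, v.1 i ^ 2 = 32 := fun T a =>
    (Finset.sum_subset (Finset.subset_univ T) fun i _ e => by rw [a i e]; rfl).trans hv
  obtain ⟨i, hi⟩ : ∃ i, v.1 i ≠ 0 := by
    by_contra! e
    simpa using d ∅ fun i _ => e i
  obtain ⟨j, ne, hj⟩ : ∃ j, i ≠ j ∧ v.1 j ≠ 0 := by
    by_contra! e
    have := d {i} fun j a => e j fun r => a (Finset.mem_singleton.2 r.symm)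
    rw [Finset.sum_singleton] at this
    rcases c i hi with r | r <;> rw [r] at this <;> norm_num at this
  have z : ∀ k, k ≠ i → k ≠ j → v.1 k = 0 := fun k p q => by_contra fun e => by
    have := s {k, i, j}
    rw [Finset.sum_insert (by simp [p, q]), Finset.sum_pair ne] at this
    have := b _ hi
    have := b _ hj
    have := b _ e
    omega
  obtain ⟨σ, hσ, s1, s2⟩ := MP.M24_trans_two ne (show (none : GolayPt) ≠ some 0 by decide)
  obtain ⟨m, m1, m2, m3⟩ : ∃ m, isGolay m = true ∧ (none ∈ maskSet m ↔ v.1 i = -4) ∧
      (some 0 ∈ maskSet m ↔ v.1 j = -4) := by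
    rcases c i hi with p | p <;> rcases c j hj with q | q <;> rw [p, q]
    exacts [⟨0, by decide +kernel⟩, ⟨2838523, by decide +kernel⟩, ⟨13938692, by decide +kernel⟩,
      ⟨16777215, by decide +kernel⟩]
  have u : (uu : GolayPt → ℤ) none = 4 ∧ (uu : GolayPt → ℤ) (some 0) = 4 := by decide +kernel
  refine ⟨monoCo0 ⟨σ, hσ⟩ (gw m), monoCo0_mem _ _, monoCo0_smul_eq_iff.2 fun k => ?_⟩
  simp only [gw_coe m1]
  by_cases p : k = i
  · rw [p, s1, u.1]
    simp only [m2]
    rcases c i hi with r | r <;> rw [r] <;> rfl
  by_cases q : k = j
  · rw [q, s2, u.2]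
    simp only [m3]
    rcases c j hj with r | r <;> rw [r] <;> rfl
  rw [z k p q, neg_zero, ite_self]
  exact (uu_eq_zero _).2 ⟨fun e => p (σ.injective (e.trans s1.symm)),
    fun e => q (σ.injective (e.trans s2.symm))⟩

theorem conj_of_orbit {s : Co0} {p : leechLattice} (hs : ∀ g ∈ C0, g * s = s * g)
    (T : orbit C0 p = {x | nm x = 32 ∧ s • x = x}) {a b : Co0} (ha : a ∈ sCo2) (hb : b ∈ sCo2)
    (h1 : IsConj s a) (h2 : IsConj s b) : ∃ k ∈ sCo2, k * a * k⁻¹ = b := by
  obtain ⟨g, rfl⟩ := isConj_iff.1 h1
  obtain ⟨h, rfl⟩ := isConj_iff.1 h2
  have f : ∀ {g : Co0}, g * s * g⁻¹ ∈ sCo2 → g⁻¹ • uu ∈ orbit C0 p := fun {g} a =>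
    T.ge ⟨(nm_smul _ _).trans nm_uu, by
      rw [eq_inv_smul_iff, ← mul_smul, ← mul_smul]; exact a⟩
  obtain ⟨c, c1, c2⟩ := exists_smul_of_orbit (f ha) (f hb)
  refine ⟨h * c * g⁻¹, mem_stabilizer_iff.2 (by rw [mul_smul, mul_smul, c2, smul_inv_smul]), ?_⟩
  calc _ = h * (c * s) * c⁻¹ * h⁻¹ := by group
    _ = _ := by rw [hs c c1]; group

theorem orbit_240 : orbit C0 uu = {x | nm x = 32 ∧ F0.z • x = x} :=
  (orbit_sub_eq_of_le (A := {x | nm x = 32 ∧ F0.z • x = x}) (finite_Min.subset fun _ h => h.1)
    (fun g hg => ⟨(nm_smul g uu).trans nm_uu, smul_fix hg z0_uu⟩) cnt_240 (by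
      have := ncard_orbit_mul_card C0 uu
      rw [card_C0, show Nat.card ↥(C0 ⊓ stabilizer Co0 uu) = _ from card_C2] at this
      omega)).1

theorem orbit_4320 : orbit C0 (lv KInv.Co.pY) = {x | nm x = 32 ∧ KInv.Co.zo • x = x} :=
  (orbit_sub_eq_of_le (A := {x | nm x = 32 ∧ KInv.Co.zo • x = x}) (finite_Min.subset fun _ h => h.1)
    (fun g hg => ⟨(nm_smul g _).trans KInv.Co.pY_spec.2.2, KInv.Co.zo_fix hg (KInv.Co.zo_smul.2
      fun i hi => KInv.Co.coe_lv KInv.Co.pY_spec.1 KInv.Co.pY_spec.2.1 ▸
        (KInv.Co.ty3_spec.2.2.2.2.1 i hi).1)⟩) KInv.Co.cnt_4320 KInv.Co.orb_4320).1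

theorem isConj_zo {c : golaySets} (h : c.1.card = 8) : IsConj KInv.Co.zo (sg c) :=
  isConj_sg (MP.M24_trans_octads (by
    show (gw 8536111).1 ∈ octads
    rw [KInv.Co.gw_O]; exact MP.stdOctad_mem) ⟨c.2, h⟩)

theorem isConj_z0 {c : golaySets} (h : c.1.card = 16) : IsConj F0.z (sg c) := by
  obtain ⟨k, e⟩ := isConj_iff.1 (isConj_zo (c := ⟨c.1ᶜ, compl_mem_golaySets c.2⟩)
    (by rw [Finset.card_compl, h]; rfl))
  rw [sg_compl, KInv.Co.zo_eq, ← mul_assoc, co0Neg_comm k, mul_assoc, mul_assoc, mul_right_inj,
    ← mul_assoc] at e
  exact isConj_iff.2 ⟨k, e⟩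

/-- The involutions of `Co2`. -/
theorem invol_Co2 {g : Co0} (hg : g ∈ sCo2) (h : g * g = 1) :
    ∃ k ∈ sCo2, ∃ r ∈ [0, 8241104, 1351424, 2076750], k * g * k⁻¹ = sg (gw r) := by
  rcases sq_cases (g := g) (by rw [h, map_one]) with ⟨_, ⟨c, rfl⟩, e⟩ | e
  swap
  · obtain ⟨k, rfl⟩ := isConj_iff.1 e
    rw [conj_mul, conj_eq_one_iff, v0_sq] at h
    exact absurd h co0Neg_ne_one
  rcases card_of_mem_golaySets c.2 with d | d | d | d | d
  · rw [show c = golayEmpty from Subtype.ext (Finset.card_eq_zero.1 d), sg_empty,
      isConj_one_right] at e
    exact ⟨1, one_mem _, 0, by simp, by rw [e, sg_gw_zero]; simp⟩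
  · obtain ⟨k, a, b⟩ := conj_of_orbit (fun g a => (KInv.Co.mem_C0_iff.1 a).symm) orbit_4320 hg
      (b := sg (gw 1351424)) (sg_A2 (by decide +kernel)).2 ((isConj_zo d).trans e) (isConj_zo (by
        rw [gw_coe (by decide +kernel), card_maskSet]; decide +kernel))
    exact ⟨k, a, _, by simp, b⟩
  · obtain ⟨k, rfl⟩ := isConj_iff.1 e
    obtain ⟨m, a, b⟩ := exists_mono_uu (v := k⁻¹ • uu) ((nm_smul _ _).trans nm_uu)
      (four_dvd_of_dod d ((nm_smul _ _).trans nm_uu) (by
        rw [eq_inv_smul_iff, ← mul_smul, ← mul_smul]; exact hg))
    have m2 : m * k⁻¹ ∈ sCo2 := mem_stabilizer_iff.2 (by rw [mul_smul, b])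
    have e : m * k⁻¹ * (k * sg c * k⁻¹) * (m * k⁻¹)⁻¹ = m * sg c * m⁻¹ := by group
    obtain ⟨j, -, j1, j2⟩ := exists_A2 (s := m * sg c * m⁻¹) ⟨conj_mem_A0 a (sg_mem c),
      show _ ∈ sCo2 from e ▸ sCo2.mul_mem (sCo2.mul_mem m2 hg) (sCo2.inv_mem m2)⟩
    obtain ⟨l, l1, r, r1, f⟩ := mask_conj _ j1
    exact ⟨l * (m * k⁻¹), sCo2.mul_mem l1 m2, r, r1, by rw [← f, ← j2]; group⟩
  · obtain ⟨k, a, b⟩ := conj_of_orbit (fun g a => mem_C0.1 a) orbit_240 hg z0_uu
      ((isConj_z0 d).trans e) (IsConj.refl _)
    exact ⟨k, a, _, by simp, b.trans z0_eq⟩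
  · rw [show c = guniv from Subtype.ext (Finset.eq_univ_of_card _ d), sg_univ] at e
    obtain ⟨k, rfl⟩ := isConj_iff.1 e
    rw [co0Neg_comm, mul_inv_cancel_right] at hg
    exact absurd hg neg_notMem_Co2

end Cfsg.Lib.SporChar.Co
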