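import Cfsg.Agent.SporChar.Co1TabR
import Cfsg.Agent.SporChar.Co1TabD

/-!
Coset enumeration of `Co1` over `Co2`.
-/

set_option autoImplicit false
set_option maxRecDepth 100000
set_option Elab.async false

namespace Cfsg.Lib.SporChar.Co

open Cfsg.Lib.Spor.Bulk

noncomputable def c1b_C : BulkCert := ⟨98280, 17, 11, c1b_T, getN [] [[], c1b_t1, c1b_t2, c1b_t3, c1b_t4, c1b_t5, c1b_t6, c1b_t7, c1b_t8, c1b_t9], getN 0 [0, c1b_e1, c1b_e2, c1b_e3, c1b_e4, c1b_e5, c1b_e6, c1b_e7, c1b_e8, c1b_e9]⟩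
noncomputable def c1b_U : List (List ℕ) := [[1],[2],[3],[4],[5],[6],[7],[8]]
theorem c1b_head : c1b_C.head 10 c1b_R c1b_U [1,2,3,4,5,6,7,8,9] = true := by decide +kernel
theorem c1b_tr0 : allL c1b_C.treeOK [1,2,3,4,5,6,7,8,9] = true := by decide +kernel
theorem c1b_j0 : (band (c1b_C.just 10 c1b_i c1b_R c1b_U [1,2,3,4,5,6,7,8,9] 1 (dif (dif (dif (ones 98280) c1b_a1_0) c1b_a1_1) c1b_a1_2) true [⟨0,0,[4],[4,1],1,0,0⟩, ⟨0,0,[5],[5,1],2,0,0⟩, ⟨0,0,[6],[7,1],3,0,2⟩, ⟨0,0,[8],[8,1],5,0,0⟩, ⟨0,0,[9],[9,1],6,0,0⟩]) <|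
  band (c1b_C.just 10 c1b_i c1b_R c1b_U [1,2,3,4,5,6,7,8,9] 2 (dif (dif (dif (ones 98280) c1b_a2_0) c1b_a2_1) c1b_a2_2) true [⟨0,0,[5],[5,2],7,0,0⟩, ⟨0,0,[9],[9,2],8,0,0⟩]) <|
  band (c1b_C.just 10 c1b_i c1b_R c1b_U [1,2,3,4,5,6,7,8,9] 3 (dif (dif (dif (ones 98280) c1b_a3_0) c1b_a3_1) c1b_a3_2) true [⟨0,0,[5,3],[5,3,5],9,0,0⟩, ⟨0,0,[8],[8,3],10,0,0⟩, ⟨0,0,[9],[9,3],11,0,0⟩]) <|
  band (c1b_C.just 10 c1b_i c1b_R c1b_U [1,2,3,4,5,6,7,8,9] 4 (dif (dif (dif (ones 98280) c1b_a4_0) c1b_a4_1) c1b_a4_2) true [⟨0,0,[1],[1,4],1,0,1⟩]) <|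
  band (c1b_C.just 10 c1b_i c1b_R c1b_U [1,2,3,4,5,6,7,8,9] 5 (dif (dif (ones 98280) c1b_a5_0) c1b_a5_1) true [⟨0,0,[1],[1,5],2,0,1⟩, ⟨0,0,[2],[2,5],7,0,1⟩, ⟨0,0,[3,5],[3,5,3],9,0,1⟩]) <|
  band (c1b_C.just 10 c1b_i c1b_R c1b_U [1,2,3,4,5,6,7,8,9] 6 (dif (dif (dif (ones 98280) c1b_a6_0) c1b_a6_1) c1b_a6_2) true [⟨0,0,[6],[7],0,0,1⟩, ⟨0,0,[1,6],[1],3,0,1⟩]) <|
  band (c1b_C.just 10 c1b_i c1b_R c1b_U [1,2,3,4,5,6,7,8,9] 8 (dif (dif (dif (ones 98280) c1b_a8_0) c1b_a8_1) c1b_a8_2) true [⟨0,0,[1],[1,8],5,0,1⟩, ⟨0,0,[3],[3,8],10,0,1⟩]) <|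
  band (c1b_C.just 10 c1b_i c1b_R c1b_U [1,2,3,4,5,6,7,8,9] 9 (dif (dif (ones 98280) c1b_a9_0) c1b_a9_1) true [⟨0,0,[1],[1,9],6,0,1⟩, ⟨0,0,[2],[2,9],8,0,1⟩, ⟨0,0,[3],[3,9],11,0,1⟩]) <|
  true) = true := by decide +kernel
theorem c1b_j1 : (band (c1b_C.just 10 c1b_i c1b_R c1b_U [1,2,3,4,5,6,7,8,9] 4 (Nat.land (dif (dif (ones 98280) c1b_a4_0) c1b_a4_1) c1b_a4_2) false [⟨0,0,[5,4],[5,4,5],12,0,0⟩, ⟨0,0,[8],[8,4],13,0,0⟩]) <|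
  band (c1b_C.just 10 c1b_i c1b_R c1b_U [1,2,3,4,5,6,7,8,9] 5 (dif (Nat.land (dif (ones 98280) c1b_a5_0) c1b_a5_1) c1b_a5_2) false [⟨0,0,[4,5],[4,5,4],12,0,1⟩, ⟨0,0,[6,5,7],[],14,0,0⟩, ⟨0,0,[7],[7,5],14,0,2⟩, ⟨0,0,[8],[8,5],15,0,0⟩, ⟨0,0,[9],[9,5],16,0,0⟩]) <|
  band (c1b_C.just 10 c1b_i c1b_R c1b_U [1,2,3,4,5,6,7,8,9] 6 (Nat.land (dif (dif (ones 98280) c1b_a6_0) c1b_a6_1) c1b_a6_2) false [⟨0,0,[5,7],[5],14,0,1⟩, ⟨0,0,[9,7,9],[],17,0,0⟩]) <|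
  band (c1b_C.just 10 c1b_i c1b_R c1b_U [1,2,3,4,5,6,7,8,9] 7 (dif (dif (dif (ones 98280) c1b_a7_0) c1b_a7_1) c1b_a7_2) true [⟨0,0,[],[5,7,5],14,0,3⟩, ⟨0,0,[9],[9,7],17,0,2⟩]) <|
  band (c1b_C.just 10 c1b_i c1b_R c1b_U [1,2,3,4,5,6,7,8,9] 8 (Nat.land (dif (dif (ones 98280) c1b_a8_0) c1b_a8_1) c1b_a8_2) false [⟨0,0,[4],[4,8],13,0,1⟩, ⟨0,0,[5],[5,8],15,0,1⟩, ⟨0,0,[9,8],[9,8,9],18,0,0⟩]) <|
  band (c1b_C.just 10 c1b_i c1b_R c1b_U [1,2,3,4,5,6,7,8,9] 9 (dif (Nat.land (dif (ones 98280) c1b_a9_0) c1b_a9_1) c1b_a9_2) false [⟨0,0,[5],[5,9],16,0,1⟩, ⟨0,0,[],[6,9,7],17,0,3⟩, ⟨0,0,[7,9],[7],17,0,1⟩, ⟨0,0,[8,9],[8,9,8],18,0,1⟩]) <|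
  true) = true := by decide +kernel
theorem c1b_j2 : (band (c1b_C.just 10 c1b_i c1b_R c1b_U [1,2,3,4,5,6,7,8,9] 2 (Nat.land (dif (dif (ones 98280) c1b_a2_0) c1b_a2_1) c1b_a2_2) false [⟨0,0,[8],[8,9,8,2,8,9,2],19,0,7⟩, ⟨0,0,[9,8,2,8,9,8,2,8],[],19,0,0⟩, ⟨0,0,[8,9,8,2,8],[8,9,2],19,0,3⟩]) <|
  band (c1b_C.just 10 c1b_i c1b_R c1b_U [1,2,3,4,5,6,7,8,9] 4 (dif (Nat.land (dif (ones 98280) c1b_a4_0) c1b_a4_1) c1b_a4_2) false [⟨0,0,[],[7,4,9,4,6,4,9],20,0,7⟩, ⟨0,0,[7,4,9,4,6,4],[9],20,0,1⟩]) <|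
  band (c1b_C.just 10 c1b_i c1b_R c1b_U [1,2,3,4,5,6,7,8,9] 6 (dif (Nat.land (dif (ones 98280) c1b_a6_0) c1b_a6_1) c1b_a6_2) false [⟨0,0,[4],[4,9,4,6,4,9],20,0,6⟩]) <|
  band (c1b_C.just 10 c1b_i c1b_R c1b_U [1,2,3,4,5,6,7,8,9] 8 (dif (Nat.land (dif (ones 98280) c1b_a8_0) c1b_a8_1) c1b_a8_2) false [⟨0,0,[],[2,8,9,8,2,8,9,2],19,0,8⟩, ⟨0,0,[2,8],[9,8,2,8,9,2],19,0,6⟩, ⟨0,0,[9,8,2,8],[2,8,9,2],19,0,4⟩, ⟨0,0,[2,8,9,8,2,8],[9,2],19,0,2⟩]) <|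
  band (c1b_C.just 10 c1b_i c1b_R c1b_U [1,2,3,4,5,6,7,8,9] 9 (Nat.land (Nat.land (dif (ones 98280) c1b_a9_0) c1b_a9_1) c1b_a9_2) false [⟨0,0,[8,2,8],[8,2,8,9,2],19,0,5⟩, ⟨0,0,[8,2,8,9,8,2,8],[2],19,0,1⟩]) <|
  true) = true := by decide +kernel
theorem c1b_j3 : (band (c1b_C.just 10 c1b_i c1b_R c1b_U [1,2,3,4,5,6,7,8,9] 4 (dif (Nat.land (Nat.land (dif (ones 98280) c1b_a4_0) c1b_a4_1) c1b_a4_2) c1b_a4_3) false [⟨0,0,[6,4],[9,4,6,4,9],20,0,5⟩, ⟨0,0,[9,4,6,4],[6,4,9],20,0,3⟩, ⟨0,0,[],[1,6,4,3,4,7,1,4,3],21,0,9⟩, ⟨0,0,[1,6,4,3,4,7,1,4],[3],21,0,1⟩]) <|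
  band (c1b_C.just 10 c1b_i c1b_R c1b_U [1,2,3,4,5,6,7,8,9] 7 (Nat.land (dif (dif (ones 98280) c1b_a7_0) c1b_a7_1) c1b_a7_2) false [⟨0,0,[4,9,4,6,4],[4,9],20,0,2⟩]) <|
  band (c1b_C.just 10 c1b_i c1b_R c1b_U [1,2,3,4,5,6,7,8,9] 9 (dif (dif (Nat.land (ones 98280) c1b_a9_0) c1b_a9_1) c1b_a9_2) false [⟨0,0,[4,7,4,9,4,6,4],[],20,0,0⟩, ⟨0,0,[4,6,4],[4,6,4,9],20,0,4⟩]) <|
  true) = true := by decide +kernel
theorem c1b_j4 : (band (c1b_C.just 10 c1b_i c1b_R c1b_U [1,2,3,4,5,6,7,8,9] 1 (Nat.land (dif (dif (ones 98280) c1b_a1_0) c1b_a1_1) c1b_a1_2) false [⟨0,0,[6,4,3,4,7,1,4],[4,3],21,0,2⟩, ⟨0,0,[4],[6,4,3,4,7,1,4,3],21,0,8⟩]) <|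
  band (c1b_C.just 10 c1b_i c1b_R c1b_U [1,2,3,4,5,6,7,8,9] 3 (Nat.land (dif (dif (ones 98280) c1b_a3_0) c1b_a3_1) c1b_a3_2) false [⟨0,0,[4,1,6,4,3,4,7,1,4],[],21,0,0⟩, ⟨0,0,[4,7,1,4],[4,7,1,4,3],21,0,5⟩]) <|
  band (c1b_C.just 10 c1b_i c1b_R c1b_U [1,2,3,4,5,6,7,8,9] 4 (Nat.land (Nat.land (Nat.land (dif (ones 98280) c1b_a4_0) c1b_a4_1) c1b_a4_2) c1b_a4_3) false [⟨0,0,[3,4,7,1,4],[7,1,4,3],21,0,4⟩, ⟨0,0,[7,1,4],[3,4,7,1,4,3],21,0,6⟩, ⟨0,0,[6],[7,4,6,4,6,4],22,0,6⟩, ⟨0,0,[6,4,6],[6,4,6,4],22,0,4⟩, ⟨0,0,[7,4,6,4,6],[6,4],22,0,2⟩]) <|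
  band (c1b_C.just 10 c1b_i c1b_R c1b_U [1,2,3,4,5,6,7,8,9] 6 (dif (Nat.land (Nat.land (dif (ones 98280) c1b_a6_0) c1b_a6_1) c1b_a6_2) c1b_a6_3) false [⟨0,0,[4,3,4,7,1,4],[1,4,3],21,0,3⟩, ⟨0,0,[],[4,7,4,6,4,6,4],22,0,7⟩, ⟨0,0,[4,6],[4,6,4,6,4],22,0,5⟩]) <|
  band (c1b_C.just 10 c1b_i c1b_R c1b_U [1,2,3,4,5,6,7,8,9] 7 (dif (Nat.land (dif (ones 98280) c1b_a7_0) c1b_a7_1) c1b_a7_2) false [⟨0,0,[1,4],[4,3,4,7,1,4,3],21,0,7⟩, ⟨0,0,[4,6,4,6],[4,6,4],22,0,3⟩]) <|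
  true) = true := by decide +kernel
theorem c1b_j5 : (band (c1b_C.just 10 c1b_i c1b_R c1b_U [1,2,3,4,5,6,7,8,9] 4 (dif (dif (Nat.land (ones 98280) c1b_a4_0) c1b_a4_1) c1b_a4_2) false [⟨0,0,[7,4,7,4,6,4,6],[],22,0,0⟩, ⟨0,0,[7,8,6,4,7],[7,8,6,4,7,8],23,0,6⟩]) <|
  band (c1b_C.just 10 c1b_i c1b_R c1b_U [1,2,3,4,5,6,7,8,9] 6 (Nat.land (Nat.land (Nat.land (dif (ones 98280) c1b_a6_0) c1b_a6_1) c1b_a6_2) c1b_a6_3) false [⟨0,0,[4,7,8,6,4,7],[8,6,4,7,8],23,0,5⟩]) <|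
  band (c1b_C.just 10 c1b_i c1b_R c1b_U [1,2,3,4,5,6,7,8,9] 7 (dif (Nat.land (Nat.land (dif (ones 98280) c1b_a7_0) c1b_a7_1) c1b_a7_2) c1b_a7_3) false [⟨0,0,[4,7,4,6,4,6],[4],22,0,1⟩, ⟨0,0,[8,6,4,7],[4,7,8,6,4,7,8],23,0,7⟩]) <|
  band (c1b_C.just 10 c1b_i c1b_R c1b_U [1,2,3,4,5,6,7,8,9] 8 (Nat.land (Nat.land (dif (ones 98280) c1b_a8_0) c1b_a8_1) c1b_a8_2) false [⟨0,0,[6,4,7,8,6,4,7],[6,4,7,8],23,0,4⟩]) <|
  true) = true := by decide +kernel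
theorem c1b_j6 : (band (c1b_C.just 10 c1b_i c1b_R c1b_U [1,2,3,4,5,6,7,8,9] 1 (dif (Nat.land (dif (ones 98280) c1b_a1_0) c1b_a1_1) c1b_a1_2) false [⟨0,0,[2,7,1],[6,2],28,0,2⟩]) <|
  band (c1b_C.just 10 c1b_i c1b_R c1b_U [1,2,3,4,5,6,7,8,9] 2 (dif (Nat.land (dif (ones 98280) c1b_a2_0) c1b_a2_1) c1b_a2_2) false [⟨0,0,[7,1],[1,6,2],28,0,3⟩]) <|
  band (c1b_C.just 10 c1b_i c1b_R c1b_U [1,2,3,4,5,6,7,8,9] 4 (dif (Nat.land (dif (Nat.land (ones 98280) c1b_a4_0) c1b_a4_1) c1b_a4_2) c1b_a4_3) false [⟨0,0,[],[5,9,4,9,4,9,5,4,9],25,0,9⟩, ⟨0,0,[9,5,4],[9,4,9,5,4,9],25,0,6⟩, ⟨0,0,[9,4,9,5,4],[9,5,4,9],25,0,4⟩, ⟨0,0,[5,9,4,9,4,9,5,4],[9],25,0,1⟩]) <|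
  band (c1b_C.just 10 c1b_i c1b_R c1b_U [1,2,3,4,5,6,7,8,9] 5 (Nat.land (Nat.land (dif (ones 98280) c1b_a5_0) c1b_a5_1) c1b_a5_2) false [⟨0,0,[4],[9,4,9,4,9,5,4,9],25,0,8⟩, ⟨0,0,[9,4,9,4,9,5,4],[4,9],25,0,2⟩]) <|
  band (c1b_C.just 10 c1b_i c1b_R c1b_U [1,2,3,4,5,6,7,8,9] 7 (Nat.land (Nat.land (Nat.land (dif (ones 98280) c1b_a7_0) c1b_a7_1) c1b_a7_2) c1b_a7_3) false [⟨0,0,[1,2,7,1],[2],28,0,1⟩]) <|
  band (c1b_C.just 10 c1b_i c1b_R c1b_U [1,2,3,4,5,6,7,8,9] 9 (Nat.land (dif (Nat.land (ones 98280) c1b_a9_0) c1b_a9_1) c1b_a9_2) false [⟨0,0,[4,9,5,4],[4,9,5,4,9],25,0,5⟩, ⟨0,0,[5,4],[4,9,4,9,5,4,9],25,0,7⟩, ⟨0,0,[4,9,4,9,5,4],[5,4,9],25,0,3⟩, ⟨0,0,[4,5,9,4,9,4,9,5,4],[],25,0,0⟩]) <|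
  true) = true := by decide +kernel
theorem c1b_j7 : (band (c1b_C.just 10 c1b_i c1b_R c1b_U [1,2,3,4,5,6,7,8,9] 1 (Nat.land (Nat.land (dif (ones 98280) c1b_a1_0) c1b_a1_1) c1b_a1_2) false [⟨0,0,[3,6,5],[7,3,1,5,3,2,3],30,0,7⟩]) <|
  band (c1b_C.just 10 c1b_i c1b_R c1b_U [1,2,3,4,5,6,7,8,9] 2 (Nat.land (Nat.land (dif (ones 98280) c1b_a2_0) c1b_a2_1) c1b_a2_2) false [⟨0,0,[8,7,8],[7,8,6,8,2,7],29,0,6⟩]) <|
  band (c1b_C.just 10 c1b_i c1b_R c1b_U [1,2,3,4,5,6,7,8,9] 3 (dif (Nat.land (dif (ones 98280) c1b_a3_0) c1b_a3_1) c1b_a3_2) false [⟨0,0,[6,5],[1,7,3,1,5,3,2,3],30,0,8⟩]) <|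
  band (c1b_C.just 10 c1b_i c1b_R c1b_U [1,2,3,4,5,6,7,8,9] 5 (dif (dif (Nat.land (ones 98280) c1b_a5_0) c1b_a5_1) c1b_a5_2) false [⟨0,0,[],[7,3,1,7,3,1,5,3,2,3],30,0,10⟩]) <|
  band (c1b_C.just 10 c1b_i c1b_R c1b_U [1,2,3,4,5,6,7,8,9] 6 (dif (dif (Nat.land (ones 98280) c1b_a6_0) c1b_a6_1) c1b_a6_2) false [⟨0,0,[2,8,7,8],[8,6,8,2,7],29,0,5⟩, ⟨0,0,[5],[3,1,7,3,1,5,3,2,3],30,0,9⟩]) <|
  band (c1b_C.just 10 c1b_i c1b_R c1b_U [1,2,3,4,5,6,7,8,9] 7 (dif (dif (Nat.land (ones 98280) c1b_a7_0) c1b_a7_1) c1b_a7_2) false [⟨0,0,[8,6,2,8,7,8],[8,2,7],29,0,3⟩]) <|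
  band (c1b_C.just 10 c1b_i c1b_R c1b_U [1,2,3,4,5,6,7,8,9] 8 (dif (dif (Nat.land (ones 98280) c1b_a8_0) c1b_a8_1) c1b_a8_2) false [⟨0,0,[6,2,8,7,8],[6,8,2,7],29,0,4⟩, ⟨0,0,[7,8,6,2,8,7,8],[2,7],29,0,2⟩]) <|
  true) = true := by decide +kernel
theorem c1b_j8 : (band (c1b_C.just 10 c1b_i c1b_R c1b_U [1,2,3,4,5,6,7,8,9] 1 (dif (dif (Nat.land (ones 98280) c1b_a1_0) c1b_a1_1) c1b_a1_2) false [⟨0,0,[3,6,1,3,6,5],[5,3,2,3],30,0,4⟩, ⟨0,0,[8,3,1,8,6,2,3],[6,2],31,0,2⟩, ⟨0,0,[8,6,2,3],[3,8,1,6,2],31,0,5⟩]) <|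
  band (c1b_C.just 10 c1b_i c1b_R c1b_U [1,2,3,4,5,6,7,8,9] 2 (dif (dif (Nat.land (ones 98280) c1b_a2_0) c1b_a2_1) c1b_a2_2) false [⟨0,0,[3,5,1,3,6,1,3,6,5],[3],30,0,1⟩, ⟨0,0,[7,1,8,3,1,8,6,2,3],[],31,0,0⟩]) <|
  band (c1b_C.just 10 c1b_i c1b_R c1b_U [1,2,3,4,5,6,7,8,9] 3 (Nat.land (Nat.land (dif (ones 98280) c1b_a3_0) c1b_a3_1) c1b_a3_2) false [⟨0,0,[6,1,3,6,5],[1,5,3,2,3],30,0,5⟩, ⟨0,0,[5,1,3,6,1,3,6,5],[2,3],30,0,2⟩, ⟨0,0,[2,3,5,1,3,6,1,3,6,5],[],30,0,0⟩, ⟨0,0,[1,8,6,2,3],[8,1,6,2],31,0,4⟩]) <|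
  band (c1b_C.just 10 c1b_i c1b_R c1b_U [1,2,3,4,5,6,7,8,9] 5 (Nat.land (dif (Nat.land (ones 98280) c1b_a5_0) c1b_a5_1) c1b_a5_2) false [⟨0,0,[1,3,6,1,3,6,5],[3,2,3],30,0,3⟩]) <|
  band (c1b_C.just 10 c1b_i c1b_R c1b_U [1,2,3,4,5,6,7,8,9] 6 (Nat.land (dif (Nat.land (ones 98280) c1b_a6_0) c1b_a6_1) c1b_a6_2) false [⟨0,0,[1,3,6,5],[3,1,5,3,2,3],30,0,6⟩]) <|
  band (c1b_C.just 10 c1b_i c1b_R c1b_U [1,2,3,4,5,6,7,8,9] 7 (Nat.land (dif (Nat.land (ones 98280) c1b_a7_0) c1b_a7_1) c1b_a7_2) false [⟨0,0,[1,8,3,1,8,6,2,3],[2],31,0,1⟩]) <|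
  band (c1b_C.just 10 c1b_i c1b_R c1b_U [1,2,3,4,5,6,7,8,9] 8 (Nat.land (dif (Nat.land (ones 98280) c1b_a8_0) c1b_a8_1) c1b_a8_2) false [⟨0,0,[3,1,8,6,2,3],[1,6,2],31,0,3⟩]) <|
  true) = true := by decide +kernel
theorem c1b_j9 : (band (c1b_C.just 10 c1b_i c1b_R c1b_U [1,2,3,4,5,6,7,8,9] 1 (Nat.land (dif (Nat.land (ones 98280) c1b_a1_0) c1b_a1_1) c1b_a1_2) false [⟨0,0,[1],[],0,2,0⟩, ⟨1,31,[2,4,2,4,7,3,2,7,3,7,4,2,4,2],[],24,0,0⟩]) <|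
  band (c1b_C.just 10 c1b_i c1b_R c1b_U [1,2,3,4,5,6,7,8,9] 2 (Nat.land (dif (Nat.land (ones 98280) c1b_a2_0) c1b_a2_1) c1b_a2_2) false [⟨0,0,[3],[7,8,1,3,8,1,6,2],31,0,8⟩, ⟨0,0,[2],[],0,2,0⟩]) <|
  band (c1b_C.just 10 c1b_i c1b_R c1b_U [1,2,3,4,5,6,7,8,9] 3 (dif (dif (Nat.land (ones 98280) c1b_a3_0) c1b_a3_1) c1b_a3_2) false [⟨0,0,[],[2,7,8,1,3,8,1,6,2],31,0,9⟩, ⟨0,0,[3],[],0,2,0⟩]) <|
  band (c1b_C.just 10 c1b_i c1b_R c1b_U [1,2,3,4,5,6,7,8,9] 4 (Nat.land (Nat.land (dif (Nat.land (ones 98280) c1b_a4_0) c1b_a4_1) c1b_a4_2) c1b_a4_3) false [⟨0,0,[4],[],0,2,0⟩, ⟨1,34,[9,3,4,2,8,4,2,4,3,8,2,4,3,9],[],26,0,8⟩, ⟨1,54,[2,4,3,8,2,4,3,9,4,9,3,4,2,8],[],26,0,14⟩, ⟨1,82,[9,3,4,2,8,4,2,4,3,8,2,4,3,9],[],26,0,8⟩]) <|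
  band (c1b_C.just 10 c1b_i c1b_R c1b_U [1,2,3,4,5,6,7,8,9] 5 (dif (Nat.land (Nat.land (ones 98280) c1b_a5_0) c1b_a5_1) c1b_a5_2) false [⟨0,0,[5],[],0,2,0⟩]) <|
  band (c1b_C.just 10 c1b_i c1b_R c1b_U [1,2,3,4,5,6,7,8,9] 6 (dif (Nat.land (Nat.land (ones 98280) c1b_a6_0) c1b_a6_1) c1b_a6_2) false [⟨0,0,[2,3],[8,1,3,8,1,6,2],31,0,7⟩, ⟨0,0,[7],[],0,2,0⟩]) <|
  band (c1b_C.just 10 c1b_i c1b_R c1b_U [1,2,3,4,5,6,7,8,9] 7 (dif (Nat.land (Nat.land (ones 98280) c1b_a7_0) c1b_a7_1) c1b_a7_2) false [⟨0,0,[6],[],0,2,0⟩]) <|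
  band (c1b_C.just 10 c1b_i c1b_R c1b_U [1,2,3,4,5,6,7,8,9] 8 (dif (Nat.land (Nat.land (ones 98280) c1b_a8_0) c1b_a8_1) c1b_a8_2) false [⟨0,0,[6,2,3],[1,3,8,1,6,2],31,0,6⟩, ⟨0,0,[8],[],0,2,0⟩]) <|
  band (c1b_C.just 10 c1b_i c1b_R c1b_U [1,2,3,4,5,6,7,8,9] 9 (dif (Nat.land (Nat.land (ones 98280) c1b_a9_0) c1b_a9_1) c1b_a9_2) false [⟨0,0,[9],[],0,2,0⟩]) <|
  true) = true := by decide +kernel
theorem c1b_j10 : (band (c1b_C.just 10 c1b_i c1b_R c1b_U [1,2,3,4,5,6,7,8,9] 1 (dif (Nat.land (Nat.land (ones 98280) c1b_a1_0) c1b_a1_1) c1b_a1_2) false [⟨1,118,[2,4,2,4,7,3,2,7,3,7,4,2,4,2],[],24,0,0⟩, ⟨1,269,[2,4,2,4,7,3,2,7,3,7,4,2,4,2],[],24,0,0⟩]) <|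
  band (c1b_C.just 10 c1b_i c1b_R c1b_U [1,2,3,4,5,6,7,8,9] 2 (dif (Nat.land (Nat.land (ones 98280) c1b_a2_0) c1b_a2_1) c1b_a2_2) false [⟨1,95,[7,3,7,4,2,4,2,1,2,4,2,4,7,3],[],24,0,7⟩, ⟨1,150,[4,2,4,7,3,2,7,3,7,4,2,4,2,1],[],24,0,1⟩, ⟨1,156,[4,2,4,7,3,2,7,3,7,4,2,4,2,1],[],24,0,1⟩, ⟨1,220,[7,2,8,7,8,2,7,8,9,8,1,6,8,9,6,8,7,9,8,7,1,8,9],[],27,0,18⟩, ⟨1,292,[4,3,8,2,4,3,9,4,9,3,4,2,8,4],[],26,0,0⟩]) <|
  band (c1b_C.just 10 c1b_i c1b_R c1b_U [1,2,3,4,5,6,7,8,9] 3 (Nat.land (dif (Nat.land (ones 98280) c1b_a3_0) c1b_a3_1) c1b_a3_2) false [⟨1,147,[7,4,2,4,2,1,2,4,2,4,7,3,2,7],[],24,0,9⟩, ⟨1,161,[7,4,2,4,2,1,2,4,2,4,7,3,2,7],[],24,0,9⟩, ⟨1,171,[7,4,2,4,2,1,2,4,2,4,7,3,2,7],[],24,0,9⟩, ⟨1,236,[2,7,3,7,4,2,4,2,1,2,4,2,4,7],[],24,0,6⟩]) <|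
  band (c1b_C.just 10 c1b_i c1b_R c1b_U [1,2,3,4,5,6,7,8,9] 4 (dif (Nat.land (Nat.land (ones 98280) c1b_a4_0) c1b_a4_1) c1b_a4_2) false [⟨1,106,[9,3,4,2,8,4,2,4,3,8,2,4,3,9],[],26,0,8⟩, ⟨1,135,[3,8,2,4,3,9,4,9,3,4,2,8,4,2],[],26,0,1⟩, ⟨1,173,[3,8,2,4,3,9,4,9,3,4,2,8,4,2],[],26,0,1⟩, ⟨1,223,[9,3,4,2,8,4,2,4,3,8,2,4,3,9],[],26,0,8⟩, ⟨1,280,[2,4,7,3,2,7,3,7,4,2,4,2,1,2],[],24,0,2⟩]) <|
  band (c1b_C.just 10 c1b_i c1b_R c1b_U [1,2,3,4,5,6,7,8,9] 6 (dif (Nat.land (Nat.land (Nat.land (ones 98280) c1b_a6_0) c1b_a6_1) c1b_a6_2) c1b_a6_3) false [⟨1,201,[8,9,6,8,7,9,8,7,1,8,9,2,7,2,8,7,8,2,7,8,9,8,1],[],27,0,6⟩]) <|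
  band (c1b_C.just 10 c1b_i c1b_R c1b_U [1,2,3,4,5,6,7,8,9] 7 (dif (Nat.land (Nat.land (Nat.land (ones 98280) c1b_a7_0) c1b_a7_1) c1b_a7_2) c1b_a7_3) false [⟨1,158,[3,2,7,3,7,4,2,4,2,1,2,4,2,4],[],24,0,5⟩]) <|
  true) = true := by decide +kernel
theorem c1b_j11 : (band (c1b_C.just 10 c1b_i c1b_R c1b_U [1,2,3,4,5,6,7,8,9] 1 (dif (Nat.land (Nat.land (Nat.land (ones 98280) c1b_a1_0) c1b_a1_1) c1b_a1_2) c1b_a1_3) false [⟨1,408,[2,4,2,4,7,3,2,7,3,7,4,2,4,2],[],24,0,0⟩, ⟨1,564,[2,4,2,4,7,3,2,7,3,7,4,2,4,2],[],24,0,0⟩]) <|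
  band (c1b_C.just 10 c1b_i c1b_R c1b_U [1,2,3,4,5,6,7,8,9] 2 (dif (Nat.land (Nat.land (Nat.land (ones 98280) c1b_a2_0) c1b_a2_1) c1b_a2_2) c1b_a2_3) false [⟨1,299,[7,3,7,4,2,4,2,1,2,4,2,4,7,3],[],24,0,7⟩, ⟨1,357,[4,3,9,4,9,3,4,2,8,4,2,4,3,8],[],26,0,4⟩, ⟨1,412,[7,3,7,4,2,4,2,1,2,4,2,4,7,3],[],24,0,7⟩, ⟨1,509,[4,3,8,2,4,3,9,4,9,3,4,2,8,4],[],26,0,0⟩, ⟨1,559,[4,3,8,2,4,3,9,4,9,3,4,2,8,4],[],26,0,0⟩]) <|
  band (c1b_C.just 10 c1b_i c1b_R c1b_U [1,2,3,4,5,6,7,8,9] 3 (dif (Nat.land (Nat.land (ones 98280) c1b_a3_0) c1b_a3_1) c1b_a3_2) false [⟨1,306,[9,4,9,3,4,2,8,4,2,4,3,8,2,4],[],26,0,6⟩, ⟨1,323,[8,2,4,3,9,4,9,3,4,2,8,4,2,4],[],26,0,2⟩, ⟨1,352,[8,2,4,3,9,4,9,3,4,2,8,4,2,4],[],26,0,2⟩, ⟨1,383,[8,2,4,3,9,4,9,3,4,2,8,4,2,4],[],26,0,2⟩]) <|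
  band (c1b_C.just 10 c1b_i c1b_R c1b_U [1,2,3,4,5,6,7,8,9] 4 (dif (Nat.land (Nat.land (Nat.land (ones 98280) c1b_a4_0) c1b_a4_1) c1b_a4_2) c1b_a4_3) false [⟨1,329,[3,9,4,9,3,4,2,8,4,2,4,3,8,2],[],26,0,5⟩, ⟨1,373,[9,3,4,2,8,4,2,4,3,8,2,4,3,9],[],26,0,8⟩, ⟨1,402,[2,4,3,8,2,4,3,9,4,9,3,4,2,8],[],26,0,14⟩, ⟨1,413,[3,8,2,4,3,9,4,9,3,4,2,8,4,2],[],26,0,1⟩, ⟨1,542,[9,3,4,2,8,4,2,4,3,8,2,4,3,9],[],26,0,8⟩]) <|
  band (c1b_C.just 10 c1b_i c1b_R c1b_U [1,2,3,4,5,6,7,8,9] 8 (dif (Nat.land (Nat.land (Nat.land (ones 98280) c1b_a8_0) c1b_a8_1) c1b_a8_2) c1b_a8_3) false [⟨1,316,[4,2,4,3,8,2,4,3,9,4,9,3,4,2],[],26,0,13⟩, ⟨1,344,[4,2,4,3,8,2,4,3,9,4,9,3,4,2],[],26,0,13⟩, ⟨1,449,[4,2,4,3,8,2,4,3,9,4,9,3,4,2],[],26,0,13⟩]) <|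
  true) = true := by decide +kernel
theorem c1b_j12 : (band (c1b_C.just 10 c1b_i c1b_R c1b_U [1,2,3,4,5,6,7,8,9] 1 (Nat.land (Nat.land (Nat.land (Nat.land (ones 98280) c1b_a1_0) c1b_a1_1) c1b_a1_2) c1b_a1_3) false [⟨1,812,[2,4,2,4,7,3,2,7,3,7,4,2,4,2],[],24,0,0⟩, ⟨2,0,[],[],0,0,0⟩]) <|
  band (c1b_C.just 10 c1b_i c1b_R c1b_U [1,2,3,4,5,6,7,8,9] 2 (Nat.land (Nat.land (Nat.land (Nat.land (ones 98280) c1b_a2_0) c1b_a2_1) c1b_a2_2) c1b_a2_3) false [⟨1,581,[7,8,9,8,1,6,8,9,6,8,7,9,8,7,1,8,9,2,7,2,8,7,8],[],27,0,0⟩, ⟨1,778,[4,3,8,2,4,3,9,4,9,3,4,2,8,4],[],26,0,0⟩, ⟨1,1009,[4,3,8,2,4,3,9,4,9,3,4,2,8,4],[],26,0,0⟩, ⟨2,0,[],[],1,0,0⟩]) <|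
  band (c1b_C.just 10 c1b_i c1b_R c1b_U [1,2,3,4,5,6,7,8,9] 3 (Nat.land (Nat.land (Nat.land (ones 98280) c1b_a3_0) c1b_a3_1) c1b_a3_2) false [⟨1,586,[2,7,3,7,4,2,4,2,1,2,4,2,4,7],[],24,0,6⟩, ⟨1,644,[8,2,4,3,9,4,9,3,4,2,8,4,2,4],[],26,0,2⟩, ⟨1,803,[8,2,4,3,9,4,9,3,4,2,8,4,2,4],[],26,0,2⟩, ⟨2,0,[],[],2,0,0⟩]) <|
  band (c1b_C.just 10 c1b_i c1b_R c1b_U [1,2,3,4,5,6,7,8,9] 4 (Nat.land (Nat.land (Nat.land (Nat.land (ones 98280) c1b_a4_0) c1b_a4_1) c1b_a4_2) c1b_a4_3) false [⟨1,621,[2,4,3,8,2,4,3,9,4,9,3,4,2,8],[],26,0,14⟩, ⟨1,755,[9,3,4,2,8,4,2,4,3,8,2,4,3,9],[],26,0,8⟩, ⟨1,792,[2,4,3,8,2,4,3,9,4,9,3,4,2,8],[],26,0,14⟩, ⟨1,920,[2,4,3,8,2,4,3,9,4,9,3,4,2,8],[],26,0,14⟩, ⟨1,950,[2,1,2,4,2,4,7,3,2,7,3,7,4,2],[],24,0,13⟩, ⟨2,0,[],[],3,0,0⟩]) <|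
  band (c1b_C.just 10 c1b_i c1b_R c1b_U [1,2,3,4,5,6,7,8,9] 5 (Nat.land (Nat.land (Nat.land (ones 98280) c1b_a5_0) c1b_a5_1) c1b_a5_2) false [⟨2,0,[],[],4,0,0⟩]) <|
  band (c1b_C.just 10 c1b_i c1b_R c1b_U [1,2,3,4,5,6,7,8,9] 6 (Nat.land (Nat.land (Nat.land (Nat.land (ones 98280) c1b_a6_0) c1b_a6_1) c1b_a6_2) c1b_a6_3) false [⟨2,0,[],[],5,0,0⟩]) <|
  band (c1b_C.just 10 c1b_i c1b_R c1b_U [1,2,3,4,5,6,7,8,9] 7 (Nat.land (Nat.land (Nat.land (Nat.land (ones 98280) c1b_a7_0) c1b_a7_1) c1b_a7_2) c1b_a7_3) false [⟨1,1011,[3,7,4,2,4,2,1,2,4,2,4,7,3,2],[],24,0,8⟩]) <|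
  band (c1b_C.just 10 c1b_i c1b_R c1b_U [1,2,3,4,5,6,7,8,9] 8 (Nat.land (Nat.land (Nat.land (Nat.land (ones 98280) c1b_a8_0) c1b_a8_1) c1b_a8_2) c1b_a8_3) false [⟨2,0,[],[],7,0,0⟩]) <|
  band (c1b_C.just 10 c1b_i c1b_R c1b_U [1,2,3,4,5,6,7,8,9] 9 (Nat.land (Nat.land (Nat.land (ones 98280) c1b_a9_0) c1b_a9_1) c1b_a9_2) false [⟨1,867,[8,1,6,8,9,6,8,7,9,8,7,1,8,9,2,7,2,8,7,8,2,7,8],[],27,0,3⟩]) <|
  true) = true := by decide +kernel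
theorem c1b_tree : ∀ l ∈ ([1,2,3,4,5,6,7,8,9] : List ℕ), c1b_C.treeOK l = true := (allL_iff.1 c1b_tr0)
theorem c1b_just : ∀ l ∈ ([1,2,3,4,5,6,7,8,9] : List ℕ), c1b_C.Just 10 c1b_i c1b_R c1b_U [1,2,3,4,5,6,7,8,9] l (ones c1b_C.n) :=
  (forall_mem_cons' (BulkCert.Just.split c1b_a1_0 (BulkCert.Just.split c1b_a1_1 (BulkCert.Just.split c1b_a1_2 (BulkCert.Just.split c1b_a1_3 (BulkCert.Just.of_just (C := c1b_C) c1b_nets (band_left c1b_j12)) (BulkCert.Just.of_just (C := c1b_C) c1b_nets (band_left c1b_j11))) (BulkCert.Just.of_just (C := c1b_C) c1b_nets (band_left c1b_j10))) (BulkCert.Just.split c1b_a1_2 (BulkCert.Just.of_just (C := c1b_C) c1b_nets (band_left c1b_j9)) (BulkCert.Just.of_just (C := c1b_C) c1b_nets (band_left c1b_j8)))) (BulkCert.Just.split c1b_a1_1 (BulkCert.Just.split c1b_a1_2 (BulkCert.Just.of_just (C := c1b_C)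 c1b_nets (band_left c1b_j7)) (BulkCert.Just.of_just (C := c1b_C) c1b_nets (band_left c1b_j6))) (BulkCert.Just.split c1b_a1_2 (BulkCert.Just.of_just (C := c1b_C) c1b_nets (band_left c1b_j4)) (BulkCert.Just.of_just (C := c1b_C) c1b_nets (band_left c1b_j0)))))
  (forall_mem_cons' (BulkCert.Just.split c1b_a2_0 (BulkCert.Just.split c1b_a2_1 (BulkCert.Just.split c1b_a2_2 (BulkCert.Just.split c1b_a2_3 (BulkCert.Just.of_just (C := c1b_C) c1b_nets (band_left (band_right c1b_j12))) (BulkCert.Just.of_just (C := c1b_C) c1b_nets (band_left (band_right c1b_j11)))) (BulkCert.Just.of_just (C := c1b_C) c1b_nets (band_left (band_right c1b_j10)))) (BulkCert.Just.split c1b_a2_2 (BulkCert.Just.of_just (C := c1b_C) c1b_nets (band_left (band_right c1b_j9))) (BulkCert.Just.of_just (C := c1b_C) c1b_nets (band_left (band_right c1b_j8))))) (BulkCert.Just.split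 c1b_a2_1 (BulkCert.Just.split c1b_a2_2 (BulkCert.Just.of_just (C := c1b_C) c1b_nets (band_left (band_right c1b_j7))) (BulkCert.Just.of_just (C := c1b_C) c1b_nets (band_left (band_right c1b_j6)))) (BulkCert.Just.split c1b_a2_2 (BulkCert.Just.of_just (C := c1b_C) c1b_nets (band_left c1b_j2)) (BulkCert.Just.of_just (C := c1b_C) c1b_nets (band_left (band_right c1b_j0))))))
  (forall_mem_cons' (BulkCert.Just.split c1b_a3_0 (BulkCert.Just.split c1b_a3_1 (BulkCert.Just.split c1b_a3_2 (BulkCert.Just.of_just (C := c1b_C) c1b_nets (band_left (band_right (band_right c1b_j12)))) (BulkCert.Just.of_just (C := c1b_C) c1b_nets (band_left (band_right (band_right c1b_j11))))) (BulkCert.Just.split c1b_a3_2 (BulkCert.Just.of_just (C := c1b_C) c1b_nets (band_left (band_right (band_right c1b_j10)))) (BulkCert.Just.of_just (C := c1b_C) c1b_nets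 (band_left (band_right (band_right c1b_j9)))))) (BulkCert.Just.split c1b_a3_1 (BulkCert.Just.split c1b_a3_2 (BulkCert.Just.of_just (C := c1b_C) c1b_nets (band_left (band_right (band_right c1b_j8)))) (BulkCert.Just.of_just (C := c1b_C) c1b_nets (band_left (band_right (band_right c1b_j7))))) (BulkCert.Just.split c1b_a3_2 (BulkCert.Just.of_just (C := c1b_C) c1b_nets (band_left (band_right c1b_j4))) (BulkCert.Just.of_just (C := c1b_C) c1b_nets (band_left (band_right (band_right c1b_j0)))))))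
  (forall_mem_cons' (BulkCert.Just.split c1b_a4_0 (BulkCert.Just.split c1b_a4_1 (BulkCert.Just.split c1b_a4_2 (BulkCert.Just.split c1b_a4_3 (BulkCert.Just.of_just (C := c1b_C) c1b_nets (band_left (band_right (band_right (band_right c1b_j12))))) (BulkCert.Just.of_just (C := c1b_C) c1b_nets (band_left (band_right (band_right (band_right c1b_j11)))))) (BulkCert.Just.of_just (C := c1b_C) c1b_nets (band_left (band_right (band_right (band_right c1b_j10)))))) (BulkCert.Just.split c1b_a4_2 (BulkCert.Just.split c1b_a4_3 (BulkCert.Just.of_just (C := c1b_C) c1b_nets (band_left (band_right (band_right (band_right c1b_j9))))) (BulkCert.Just.of_just (C := c1b_C) c1b_nets (band_left (band_right (band_right c1b_j6))))) (BulkCert.Just.of_just (C := c1b_C) c1b_nets (band_left c1b_j5)))) (BulkCert.Just.split c1b_a4_1 (BulkCert.Just.split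 c1b_a4_2 (BulkCert.Just.split c1b_a4_3 (BulkCert.Just.of_just (C := c1b_C) c1b_nets (band_left (band_right (band_right c1b_j4)))) (BulkCert.Just.of_just (C := c1b_C) c1b_nets (band_left c1b_j3))) (BulkCert.Just.of_just (C := c1b_C) c1b_nets (band_left (band_right c1b_j2)))) (BulkCert.Just.split c1b_a4_2 (BulkCert.Just.of_just (C := c1b_C) c1b_nets (band_left c1b_j1)) (BulkCert.Just.of_just (C := c1b_C) c1b_nets (band_left (band_right (band_right (band_right c1b_j0))))))))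
  (forall_mem_cons' (BulkCert.Just.split c1b_a5_0 (BulkCert.Just.split c1b_a5_1 (BulkCert.Just.split c1b_a5_2 (BulkCert.Just.of_just (C := c1b_C) c1b_nets (band_left (band_right (band_right (band_right (band_right c1b_j12)))))) (BulkCert.Just.of_just (C := c1b_C) c1b_nets (band_left (band_right (band_right (band_right (band_right c1b_j9))))))) (BulkCert.Just.split c1b_a5_2 (BulkCert.Just.of_just (C := c1b_C) c1b_nets (band_left (band_right (band_right (band_right c1b_j8))))) (BulkCert.Just.of_just (C := c1b_C) c1b_nets (band_left (band_right (band_right (band_right c1b_j7))))))) (BulkCert.Just.split c1b_a5_1 (BulkCert.Just.split c1b_a5_2 (BulkCert.Just.of_just (C := c1b_C) c1b_nets (band_left (band_right (band_right (band_right c1b_j6))))) (BulkCert.Just.of_just (C := c1b_C) c1b_nets (band_left (band_right c1b_j1))))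 (BulkCert.Just.of_just (C := c1b_C) c1b_nets (band_left (band_right (band_right (band_right (band_right c1b_j0))))))))
  (forall_mem_cons' (BulkCert.Just.split c1b_a6_0 (BulkCert.Just.split c1b_a6_1 (BulkCert.Just.split c1b_a6_2 (BulkCert.Just.split c1b_a6_3 (BulkCert.Just.of_just (C := c1b_C) c1b_nets (band_left (band_right (band_right (band_right (band_right (band_right c1b_j12))))))) (BulkCert.Just.of_just (C := c1b_C) c1b_nets (band_left (band_right (band_right (band_right (band_right c1b_j10))))))) (BulkCert.Just.of_just (C := c1b_C) c1b_nets (band_left (band_right (band_right (band_right (band_right (band_right c1b_j9)))))))) (BulkCert.Just.split c1b_a6_2 (BulkCert.Just.of_just (C := c1b_C) c1b_nets (band_left (band_right (band_right (band_right (band_right c1b_j8)))))) (BulkCert.Just.of_just (C := c1b_C) c1b_nets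 (band_left (band_right (band_right (band_right (band_right c1b_j7)))))))) (BulkCert.Just.split c1b_a6_1 (BulkCert.Just.split c1b_a6_2 (BulkCert.Just.split c1b_a6_3 (BulkCert.Just.of_just (C := c1b_C) c1b_nets (band_left (band_right c1b_j5))) (BulkCert.Just.of_just (C := c1b_C) c1b_nets (band_left (band_right (band_right (band_right c1b_j4)))))) (BulkCert.Just.of_just (C := c1b_C) c1b_nets (band_left (band_right (band_right c1b_j2))))) (BulkCert.Just.split c1b_a6_2 (BulkCert.Just.of_just (C := c1b_C) c1b_nets (band_left (band_right (band_right c1b_j1)))) (BulkCert.Just.of_just (C := c1b_C) c1b_nets (band_left (band_right (band_right (band_right (band_right (band_right c1b_j0))))))))))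
  (forall_mem_cons' (BulkCert.Just.split c1b_a7_0 (BulkCert.Just.split c1b_a7_1 (BulkCert.Just.split c1b_a7_2 (BulkCert.Just.split c1b_a7_3 (BulkCert.Just.of_just (C := c1b_C) c1b_nets (band_left (band_right (band_right (band_right (band_right (band_right (band_right c1b_j12)))))))) (BulkCert.Just.of_just (C := c1b_C) c1b_nets (band_left (band_right (band_right (band_right (band_right (band_right c1b_j10)))))))) (BulkCert.Just.of_just (C := c1b_C) c1b_nets (band_left (band_right (band_right (band_right (band_right (band_right (band_right c1b_j9))))))))) (BulkCert.Just.split c1b_a7_2 (BulkCert.Just.of_just (C := c1b_C) c1b_nets (band_left (band_right (band_right (band_right (band_right (band_right c1b_j8))))))) (BulkCert.Just.of_just (C := c1b_C) c1b_nets (band_left (band_right (band_right (band_right (band_right (band_right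 c1b_j7))))))))) (BulkCert.Just.split c1b_a7_1 (BulkCert.Just.split c1b_a7_2 (BulkCert.Just.split c1b_a7_3 (BulkCert.Just.of_just (C := c1b_C) c1b_nets (band_left (band_right (band_right (band_right (band_right c1b_j6)))))) (BulkCert.Just.of_just (C := c1b_C) c1b_nets (band_left (band_right (band_right c1b_j5))))) (BulkCert.Just.of_just (C := c1b_C) c1b_nets (band_left (band_right (band_right (band_right (band_right c1b_j4))))))) (BulkCert.Just.split c1b_a7_2 (BulkCert.Just.of_just (C := c1b_C) c1b_nets (band_left (band_right c1b_j3))) (BulkCert.Just.of_just (C := c1b_C) c1b_nets (band_left (band_right (band_right (band_right c1b_j1))))))))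
  (forall_mem_cons' (BulkCert.Just.split c1b_a8_0 (BulkCert.Just.split c1b_a8_1 (BulkCert.Just.split c1b_a8_2 (BulkCert.Just.split c1b_a8_3 (BulkCert.Just.of_just (C := c1b_C) c1b_nets (band_left (band_right (band_right (band_right (band_right (band_right (band_right (band_right c1b_j12))))))))) (BulkCert.Just.of_just (C := c1b_C) c1b_nets (band_left (band_right (band_right (band_right (band_right c1b_j11))))))) (BulkCert.Just.of_just (C := c1b_C) c1b_nets (band_left (band_right (band_right (band_right (band_right (band_right (band_right (band_right c1b_j9)))))))))) (BulkCert.Just.split c1b_a8_2 (BulkCert.Just.of_just (C := c1b_C) c1b_nets (band_left (band_right (band_right (band_right (band_right (band_right (band_right c1b_j8)))))))) (BulkCert.Just.of_just (C := c1b_C) c1b_nets (band_left (band_right (band_right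 (band_right (band_right (band_right (band_right c1b_j7)))))))))) (BulkCert.Just.split c1b_a8_1 (BulkCert.Just.split c1b_a8_2 (BulkCert.Just.of_just (C := c1b_C) c1b_nets (band_left (band_right (band_right (band_right c1b_j5))))) (BulkCert.Just.of_just (C := c1b_C) c1b_nets (band_left (band_right (band_right (band_right c1b_j2)))))) (BulkCert.Just.split c1b_a8_2 (BulkCert.Just.of_just (C := c1b_C) c1b_nets (band_left (band_right (band_right (band_right (band_right c1b_j1)))))) (BulkCert.Just.of_just (C := c1b_C) c1b_nets (band_left (band_right (band_right (band_right (band_right (band_right (band_right c1b_j0)))))))))))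
  (forall_mem_cons' (BulkCert.Just.split c1b_a9_0 (BulkCert.Just.split c1b_a9_1 (BulkCert.Just.split c1b_a9_2 (BulkCert.Just.of_just (C := c1b_C) c1b_nets (band_left (band_right (band_right (band_right (band_right (band_right (band_right (band_right (band_right c1b_j12)))))))))) (BulkCert.Just.of_just (C := c1b_C) c1b_nets (band_left (band_right (band_right (band_right (band_right (band_right (band_right (band_right (band_right c1b_j9))))))))))) (BulkCert.Just.split c1b_a9_2 (BulkCert.Just.of_just (C := c1b_C) c1b_nets (band_left (band_right (band_right (band_right (band_right (band_right c1b_j6))))))) (BulkCert.Just.of_just (C := c1b_C) c1b_nets (band_left (band_right (band_right c1b_j3)))))) (BulkCert.Just.split c1b_a9_1 (BulkCert.Just.split c1b_a9_2 (BulkCert.Just.of_just (C := c1b_C) c1b_nets (band_left (band_right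 (band_right (band_right (band_right c1b_j2)))))) (BulkCert.Just.of_just (C := c1b_C) c1b_nets (band_left (band_right (band_right (band_right (band_right (band_right c1b_j1)))))))) (BulkCert.Just.of_just (C := c1b_C) c1b_nets (band_left (band_right (band_right (band_right (band_right (band_right (band_right (band_right c1b_j0)))))))))))
  forall_mem_nil')))))))))
theorem c1b_idx {G : Type*} [Group G] {g : ℕ → G} {H : Subgroup G} (hg : Sat g 10 c1b_i c1b_R)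
    (hH : ∀ u ∈ c1b_U, wv g u ∈ H) : IdxLe H (Subgroup.closure {x | ∃ l ∈ ([1,2,3,4,5,6,7,8,9] : List ℕ), g l = x}) 98280 :=
  BulkCert.idxLe (C := c1b_C) c1b_nets c1b_sat c1b_head c1b_tree c1b_just hg hH
theorem c1b_loops {G : Type*} [Group G] {g : ℕ → G} {H : Subgroup G} (hg : Sat g 10 c1b_i c1b_R)
    (hU : ∀ u ∈ ([] : List (List ℕ)), wv g u ∈ H) (hL : ∀ l ∈ ([1,2,3,4,5,6,7,8] : List ℕ), g l ∈ H) :
    ∀ u ∈ c1b_U, wv g u ∈ H :=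
  loops_mem hU hL (V := []) forall_mem_nil' (by decide +kernel)
theorem c1b {G : Type*} [Group G] {g : ℕ → G} {H : Subgroup G} (hg : Sat g 10 c1b_i c1b_R)
    (hU : ∀ u ∈ ([] : List (List ℕ)), wv g u ∈ H) (hL : ∀ l ∈ ([1,2,3,4,5,6,7,8] : List ℕ), g l ∈ H) :
    IdxLe H (Subgroup.closure {x | ∃ l ∈ ([1,2,3,4,5,6,7,8,9] : List ℕ), g l = x}) 98280 :=
  c1b_idx hg (c1b_loops hg hU hL)

end Cfsg.Lib.SporChar.Co
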