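import Cfsg.Agent.SporChar.Co1TabN0
import Cfsg.Agent.SporChar.Co1TabN1

/-!
Coset enumeration of `Co1` over `Co2`: the table satisfies the relators.
-/

set_option autoImplicit false
set_option maxRecDepth 100000
set_option Elab.async false

namespace Cfsg.Lib.SporChar.Co

open Cfsg.Lib.Spor.Bulk

/-- The inverse letters. -/
noncomputable def c1b_i : ℕ → ℕ := getN 0 [0,1,2,3,4,5,7,6,8,9]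
noncomputable def c1b_T : ℕ → Net := getN Net.nil [Net.nil, c1b_n1, c1b_n2, c1b_n3, c1b_n4, c1b_n5, c1b_n6, c1b_n6.rev, c1b_n8, c1b_n9]
theorem c1b_nets : NetsOK c1b_T 98280 := netsOK_getN (forall_mem_cons' (Net.OK_nil _) (forall_mem_cons' c1b_n1_ok (forall_mem_cons' c1b_n2_ok (forall_mem_cons' c1b_n3_ok (forall_mem_cons' c1b_n4_ok (forall_mem_cons' c1b_n5_ok (forall_mem_cons' c1b_n6_ok (forall_mem_cons' c1b_n6_ok.rev (forall_mem_cons' c1b_n8_ok (forall_mem_cons' c1b_n9_ok forall_mem_nil'))))))))))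
noncomputable def c1b_R : List (List ℕ) := [[6,6,6],[1,4,1,4],[1,5,1,5],[1,6,1,6],[1,7,1,7],[1,8,1,8],[1,9,1,9],[2,5,2,5],[2,9,2,9],[3,5,3,5,3,5],[3,8,3,8],[3,9,3,9],[4,5,4,5,4,5],[4,8,4,8],[5,6,5,7],[5,8,5,8],[5,9,5,9],[6,9,7,9],[8,9,8,9,8,9],[2,9,8,2,8,9,8,2,8],[9,4,7,4,9,4,6,4],[3,4,1,6,4,3,4,7,1,4],[4,7,4,7,4,6,4,6],[8,6,4,7,8,6,4,7,8,6,4,7],[1,2,4,2,4,7,3,2,7,3,7,4,2,4,2],[9,4,5,9,4,9,4,9,5,4],[2,4,3,8,2,4,3,9,4,9,3,4,2,8,4],[2,7,8,9,8,1,6,8,9,6,8,7,9,8,7,1,8,9,2,7,2,8,7,8],[2,7,1,2,7,1],[6,2,8,7,8,6,2,8,7,8],[3,2,3,5,1,3,6,1,3,6,5],[2,7,1,8,3,1,8,6,2,3]]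
theorem c1b_w : 98280 ≤ 2 ^ 17 := by norm_num
theorem c1b_inv_0 : eqsOn c1b_T 98280 17 (invPairs c1b_i 10) 0 17 = true := by decide +kernel
theorem c1b_r0_0 : eqsOn c1b_T 98280 17 (relPairs c1b_i [[6,6,6],[1,4,1,4],[1,5,1,5],[1,6,1,6],[1,7,1,7],[1,8,1,8],[1,9,1,9],[2,5,2,5],[2,9,2,9],[3,5,3,5,3,5],[3,8,3,8],[3,9,3,9],[4,5,4,5,4,5],[4,8,4,8],[5,6,5,7],[5,8,5,8],[5,9,5,9],[6,9,7,9],[8,9,8,9,8,9],[2,9,8,2,8,9,8,2,8],[9,4,7,4,9,4,6,4],[3,4,1,6,4,3,4,7,1,4],[4,7,4,7,4,6,4,6],[8,6,4,7,8,6,4,7,8,6,4,7],[1,2,4,2,4,7,3,2,7,3,7,4,2,4,2],[9,4,5,9,4,9,4,9,5,4],[2,4,3,8,2,4,3,9,4,9,3,4,2,8,4],[2,7,8,9,8,1,6,8,9,6,8,7,9,8,7,1,8,9,2,7,2,8,7,8],[2,7,1,2,7,1],[6,2,8,7,8,6,2,8,7,8],[3,2,3,5,1,3,6,1,3,6,5],[2,7,1,8,3,1,8,6,2,3]])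 0 1 = true := by decide +kernel
theorem c1b_r0_1 : eqsOn c1b_T 98280 17 (relPairs c1b_i [[6,6,6],[1,4,1,4],[1,5,1,5],[1,6,1,6],[1,7,1,7],[1,8,1,8],[1,9,1,9],[2,5,2,5],[2,9,2,9],[3,5,3,5,3,5],[3,8,3,8],[3,9,3,9],[4,5,4,5,4,5],[4,8,4,8],[5,6,5,7],[5,8,5,8],[5,9,5,9],[6,9,7,9],[8,9,8,9,8,9],[2,9,8,2,8,9,8,2,8],[9,4,7,4,9,4,6,4],[3,4,1,6,4,3,4,7,1,4],[4,7,4,7,4,6,4,6],[8,6,4,7,8,6,4,7,8,6,4,7],[1,2,4,2,4,7,3,2,7,3,7,4,2,4,2],[9,4,5,9,4,9,4,9,5,4],[2,4,3,8,2,4,3,9,4,9,3,4,2,8,4],[2,7,8,9,8,1,6,8,9,6,8,7,9,8,7,1,8,9,2,7,2,8,7,8],[2,7,1,2,7,1],[6,2,8,7,8,6,2,8,7,8],[3,2,3,5,1,3,6,1,3,6,5],[2,7,1,8,3,1,8,6,2,3]]) 1 1 = true := by decide +kernel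
theorem c1b_r0_2 : eqsOn c1b_T 98280 17 (relPairs c1b_i [[6,6,6],[1,4,1,4],[1,5,1,5],[1,6,1,6],[1,7,1,7],[1,8,1,8],[1,9,1,9],[2,5,2,5],[2,9,2,9],[3,5,3,5,3,5],[3,8,3,8],[3,9,3,9],[4,5,4,5,4,5],[4,8,4,8],[5,6,5,7],[5,8,5,8],[5,9,5,9],[6,9,7,9],[8,9,8,9,8,9],[2,9,8,2,8,9,8,2,8],[9,4,7,4,9,4,6,4],[3,4,1,6,4,3,4,7,1,4],[4,7,4,7,4,6,4,6],[8,6,4,7,8,6,4,7,8,6,4,7],[1,2,4,2,4,7,3,2,7,3,7,4,2,4,2],[9,4,5,9,4,9,4,9,5,4],[2,4,3,8,2,4,3,9,4,9,3,4,2,8,4],[2,7,8,9,8,1,6,8,9,6,8,7,9,8,7,1,8,9,2,7,2,8,7,8],[2,7,1,2,7,1],[6,2,8,7,8,6,2,8,7,8],[3,2,3,5,1,3,6,1,3,6,5],[2,7,1,8,3,1,8,6,2,3]]) 2 1 = true := by decide +kernel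
theorem c1b_r0_3 : eqsOn c1b_T 98280 17 (relPairs c1b_i [[6,6,6],[1,4,1,4],[1,5,1,5],[1,6,1,6],[1,7,1,7],[1,8,1,8],[1,9,1,9],[2,5,2,5],[2,9,2,9],[3,5,3,5,3,5],[3,8,3,8],[3,9,3,9],[4,5,4,5,4,5],[4,8,4,8],[5,6,5,7],[5,8,5,8],[5,9,5,9],[6,9,7,9],[8,9,8,9,8,9],[2,9,8,2,8,9,8,2,8],[9,4,7,4,9,4,6,4],[3,4,1,6,4,3,4,7,1,4],[4,7,4,7,4,6,4,6],[8,6,4,7,8,6,4,7,8,6,4,7],[1,2,4,2,4,7,3,2,7,3,7,4,2,4,2],[9,4,5,9,4,9,4,9,5,4],[2,4,3,8,2,4,3,9,4,9,3,4,2,8,4],[2,7,8,9,8,1,6,8,9,6,8,7,9,8,7,1,8,9,2,7,2,8,7,8],[2,7,1,2,7,1],[6,2,8,7,8,6,2,8,7,8],[3,2,3,5,1,3,6,1,3,6,5],[2,7,1,8,3,1,8,6,2,3]]) 3 1 = true := by decide +kernel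
theorem c1b_r0_4 : eqsOn c1b_T 98280 17 (relPairs c1b_i [[6,6,6],[1,4,1,4],[1,5,1,5],[1,6,1,6],[1,7,1,7],[1,8,1,8],[1,9,1,9],[2,5,2,5],[2,9,2,9],[3,5,3,5,3,5],[3,8,3,8],[3,9,3,9],[4,5,4,5,4,5],[4,8,4,8],[5,6,5,7],[5,8,5,8],[5,9,5,9],[6,9,7,9],[8,9,8,9,8,9],[2,9,8,2,8,9,8,2,8],[9,4,7,4,9,4,6,4],[3,4,1,6,4,3,4,7,1,4],[4,7,4,7,4,6,4,6],[8,6,4,7,8,6,4,7,8,6,4,7],[1,2,4,2,4,7,3,2,7,3,7,4,2,4,2],[9,4,5,9,4,9,4,9,5,4],[2,4,3,8,2,4,3,9,4,9,3,4,2,8,4],[2,7,8,9,8,1,6,8,9,6,8,7,9,8,7,1,8,9,2,7,2,8,7,8],[2,7,1,2,7,1],[6,2,8,7,8,6,2,8,7,8],[3,2,3,5,1,3,6,1,3,6,5],[2,7,1,8,3,1,8,6,2,3]]) 4 1 = true := by decide +kernel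
theorem c1b_r0_5 : eqsOn c1b_T 98280 17 (relPairs c1b_i [[6,6,6],[1,4,1,4],[1,5,1,5],[1,6,1,6],[1,7,1,7],[1,8,1,8],[1,9,1,9],[2,5,2,5],[2,9,2,9],[3,5,3,5,3,5],[3,8,3,8],[3,9,3,9],[4,5,4,5,4,5],[4,8,4,8],[5,6,5,7],[5,8,5,8],[5,9,5,9],[6,9,7,9],[8,9,8,9,8,9],[2,9,8,2,8,9,8,2,8],[9,4,7,4,9,4,6,4],[3,4,1,6,4,3,4,7,1,4],[4,7,4,7,4,6,4,6],[8,6,4,7,8,6,4,7,8,6,4,7],[1,2,4,2,4,7,3,2,7,3,7,4,2,4,2],[9,4,5,9,4,9,4,9,5,4],[2,4,3,8,2,4,3,9,4,9,3,4,2,8,4],[2,7,8,9,8,1,6,8,9,6,8,7,9,8,7,1,8,9,2,7,2,8,7,8],[2,7,1,2,7,1],[6,2,8,7,8,6,2,8,7,8],[3,2,3,5,1,3,6,1,3,6,5],[2,7,1,8,3,1,8,6,2,3]]) 5 1 = true := by decide +kernel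
theorem c1b_r0_6 : eqsOn c1b_T 98280 17 (relPairs c1b_i [[6,6,6],[1,4,1,4],[1,5,1,5],[1,6,1,6],[1,7,1,7],[1,8,1,8],[1,9,1,9],[2,5,2,5],[2,9,2,9],[3,5,3,5,3,5],[3,8,3,8],[3,9,3,9],[4,5,4,5,4,5],[4,8,4,8],[5,6,5,7],[5,8,5,8],[5,9,5,9],[6,9,7,9],[8,9,8,9,8,9],[2,9,8,2,8,9,8,2,8],[9,4,7,4,9,4,6,4],[3,4,1,6,4,3,4,7,1,4],[4,7,4,7,4,6,4,6],[8,6,4,7,8,6,4,7,8,6,4,7],[1,2,4,2,4,7,3,2,7,3,7,4,2,4,2],[9,4,5,9,4,9,4,9,5,4],[2,4,3,8,2,4,3,9,4,9,3,4,2,8,4],[2,7,8,9,8,1,6,8,9,6,8,7,9,8,7,1,8,9,2,7,2,8,7,8],[2,7,1,2,7,1],[6,2,8,7,8,6,2,8,7,8],[3,2,3,5,1,3,6,1,3,6,5],[2,7,1,8,3,1,8,6,2,3]]) 6 1 = true := by decide +kernel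
theorem c1b_r0_7 : eqsOn c1b_T 98280 17 (relPairs c1b_i [[6,6,6],[1,4,1,4],[1,5,1,5],[1,6,1,6],[1,7,1,7],[1,8,1,8],[1,9,1,9],[2,5,2,5],[2,9,2,9],[3,5,3,5,3,5],[3,8,3,8],[3,9,3,9],[4,5,4,5,4,5],[4,8,4,8],[5,6,5,7],[5,8,5,8],[5,9,5,9],[6,9,7,9],[8,9,8,9,8,9],[2,9,8,2,8,9,8,2,8],[9,4,7,4,9,4,6,4],[3,4,1,6,4,3,4,7,1,4],[4,7,4,7,4,6,4,6],[8,6,4,7,8,6,4,7,8,6,4,7],[1,2,4,2,4,7,3,2,7,3,7,4,2,4,2],[9,4,5,9,4,9,4,9,5,4],[2,4,3,8,2,4,3,9,4,9,3,4,2,8,4],[2,7,8,9,8,1,6,8,9,6,8,7,9,8,7,1,8,9,2,7,2,8,7,8],[2,7,1,2,7,1],[6,2,8,7,8,6,2,8,7,8],[3,2,3,5,1,3,6,1,3,6,5],[2,7,1,8,3,1,8,6,2,3]]) 7 1 = true := by decide +kernel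
theorem c1b_r0_8 : eqsOn c1b_T 98280 17 (relPairs c1b_i [[6,6,6],[1,4,1,4],[1,5,1,5],[1,6,1,6],[1,7,1,7],[1,8,1,8],[1,9,1,9],[2,5,2,5],[2,9,2,9],[3,5,3,5,3,5],[3,8,3,8],[3,9,3,9],[4,5,4,5,4,5],[4,8,4,8],[5,6,5,7],[5,8,5,8],[5,9,5,9],[6,9,7,9],[8,9,8,9,8,9],[2,9,8,2,8,9,8,2,8],[9,4,7,4,9,4,6,4],[3,4,1,6,4,3,4,7,1,4],[4,7,4,7,4,6,4,6],[8,6,4,7,8,6,4,7,8,6,4,7],[1,2,4,2,4,7,3,2,7,3,7,4,2,4,2],[9,4,5,9,4,9,4,9,5,4],[2,4,3,8,2,4,3,9,4,9,3,4,2,8,4],[2,7,8,9,8,1,6,8,9,6,8,7,9,8,7,1,8,9,2,7,2,8,7,8],[2,7,1,2,7,1],[6,2,8,7,8,6,2,8,7,8],[3,2,3,5,1,3,6,1,3,6,5],[2,7,1,8,3,1,8,6,2,3]]) 8 1 = true := by decide +kernel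
theorem c1b_r0_9 : eqsOn c1b_T 98280 17 (relPairs c1b_i [[6,6,6],[1,4,1,4],[1,5,1,5],[1,6,1,6],[1,7,1,7],[1,8,1,8],[1,9,1,9],[2,5,2,5],[2,9,2,9],[3,5,3,5,3,5],[3,8,3,8],[3,9,3,9],[4,5,4,5,4,5],[4,8,4,8],[5,6,5,7],[5,8,5,8],[5,9,5,9],[6,9,7,9],[8,9,8,9,8,9],[2,9,8,2,8,9,8,2,8],[9,4,7,4,9,4,6,4],[3,4,1,6,4,3,4,7,1,4],[4,7,4,7,4,6,4,6],[8,6,4,7,8,6,4,7,8,6,4,7],[1,2,4,2,4,7,3,2,7,3,7,4,2,4,2],[9,4,5,9,4,9,4,9,5,4],[2,4,3,8,2,4,3,9,4,9,3,4,2,8,4],[2,7,8,9,8,1,6,8,9,6,8,7,9,8,7,1,8,9,2,7,2,8,7,8],[2,7,1,2,7,1],[6,2,8,7,8,6,2,8,7,8],[3,2,3,5,1,3,6,1,3,6,5],[2,7,1,8,3,1,8,6,2,3]]) 9 1 = true := by decide +kernel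
theorem c1b_r0_10 : eqsOn c1b_T 98280 17 (relPairs c1b_i [[6,6,6],[1,4,1,4],[1,5,1,5],[1,6,1,6],[1,7,1,7],[1,8,1,8],[1,9,1,9],[2,5,2,5],[2,9,2,9],[3,5,3,5,3,5],[3,8,3,8],[3,9,3,9],[4,5,4,5,4,5],[4,8,4,8],[5,6,5,7],[5,8,5,8],[5,9,5,9],[6,9,7,9],[8,9,8,9,8,9],[2,9,8,2,8,9,8,2,8],[9,4,7,4,9,4,6,4],[3,4,1,6,4,3,4,7,1,4],[4,7,4,7,4,6,4,6],[8,6,4,7,8,6,4,7,8,6,4,7],[1,2,4,2,4,7,3,2,7,3,7,4,2,4,2],[9,4,5,9,4,9,4,9,5,4],[2,4,3,8,2,4,3,9,4,9,3,4,2,8,4],[2,7,8,9,8,1,6,8,9,6,8,7,9,8,7,1,8,9,2,7,2,8,7,8],[2,7,1,2,7,1],[6,2,8,7,8,6,2,8,7,8],[3,2,3,5,1,3,6,1,3,6,5],[2,7,1,8,3,1,8,6,2,3]]) 10 1 = true := by decide +kernel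
theorem c1b_r0_11 : eqsOn c1b_T 98280 17 (relPairs c1b_i [[6,6,6],[1,4,1,4],[1,5,1,5],[1,6,1,6],[1,7,1,7],[1,8,1,8],[1,9,1,9],[2,5,2,5],[2,9,2,9],[3,5,3,5,3,5],[3,8,3,8],[3,9,3,9],[4,5,4,5,4,5],[4,8,4,8],[5,6,5,7],[5,8,5,8],[5,9,5,9],[6,9,7,9],[8,9,8,9,8,9],[2,9,8,2,8,9,8,2,8],[9,4,7,4,9,4,6,4],[3,4,1,6,4,3,4,7,1,4],[4,7,4,7,4,6,4,6],[8,6,4,7,8,6,4,7,8,6,4,7],[1,2,4,2,4,7,3,2,7,3,7,4,2,4,2],[9,4,5,9,4,9,4,9,5,4],[2,4,3,8,2,4,3,9,4,9,3,4,2,8,4],[2,7,8,9,8,1,6,8,9,6,8,7,9,8,7,1,8,9,2,7,2,8,7,8],[2,7,1,2,7,1],[6,2,8,7,8,6,2,8,7,8],[3,2,3,5,1,3,6,1,3,6,5],[2,7,1,8,3,1,8,6,2,3]]) 11 1 = true := by decide +kernel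
theorem c1b_r0_12 : eqsOn c1b_T 98280 17 (relPairs c1b_i [[6,6,6],[1,4,1,4],[1,5,1,5],[1,6,1,6],[1,7,1,7],[1,8,1,8],[1,9,1,9],[2,5,2,5],[2,9,2,9],[3,5,3,5,3,5],[3,8,3,8],[3,9,3,9],[4,5,4,5,4,5],[4,8,4,8],[5,6,5,7],[5,8,5,8],[5,9,5,9],[6,9,7,9],[8,9,8,9,8,9],[2,9,8,2,8,9,8,2,8],[9,4,7,4,9,4,6,4],[3,4,1,6,4,3,4,7,1,4],[4,7,4,7,4,6,4,6],[8,6,4,7,8,6,4,7,8,6,4,7],[1,2,4,2,4,7,3,2,7,3,7,4,2,4,2],[9,4,5,9,4,9,4,9,5,4],[2,4,3,8,2,4,3,9,4,9,3,4,2,8,4],[2,7,8,9,8,1,6,8,9,6,8,7,9,8,7,1,8,9,2,7,2,8,7,8],[2,7,1,2,7,1],[6,2,8,7,8,6,2,8,7,8],[3,2,3,5,1,3,6,1,3,6,5],[2,7,1,8,3,1,8,6,2,3]]) 12 1 = true := by decide +kernel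
theorem c1b_r0_13 : eqsOn c1b_T 98280 17 (relPairs c1b_i [[6,6,6],[1,4,1,4],[1,5,1,5],[1,6,1,6],[1,7,1,7],[1,8,1,8],[1,9,1,9],[2,5,2,5],[2,9,2,9],[3,5,3,5,3,5],[3,8,3,8],[3,9,3,9],[4,5,4,5,4,5],[4,8,4,8],[5,6,5,7],[5,8,5,8],[5,9,5,9],[6,9,7,9],[8,9,8,9,8,9],[2,9,8,2,8,9,8,2,8],[9,4,7,4,9,4,6,4],[3,4,1,6,4,3,4,7,1,4],[4,7,4,7,4,6,4,6],[8,6,4,7,8,6,4,7,8,6,4,7],[1,2,4,2,4,7,3,2,7,3,7,4,2,4,2],[9,4,5,9,4,9,4,9,5,4],[2,4,3,8,2,4,3,9,4,9,3,4,2,8,4],[2,7,8,9,8,1,6,8,9,6,8,7,9,8,7,1,8,9,2,7,2,8,7,8],[2,7,1,2,7,1],[6,2,8,7,8,6,2,8,7,8],[3,2,3,5,1,3,6,1,3,6,5],[2,7,1,8,3,1,8,6,2,3]]) 13 1 = true := by decide +kernel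
theorem c1b_r0_14 : eqsOn c1b_T 98280 17 (relPairs c1b_i [[6,6,6],[1,4,1,4],[1,5,1,5],[1,6,1,6],[1,7,1,7],[1,8,1,8],[1,9,1,9],[2,5,2,5],[2,9,2,9],[3,5,3,5,3,5],[3,8,3,8],[3,9,3,9],[4,5,4,5,4,5],[4,8,4,8],[5,6,5,7],[5,8,5,8],[5,9,5,9],[6,9,7,9],[8,9,8,9,8,9],[2,9,8,2,8,9,8,2,8],[9,4,7,4,9,4,6,4],[3,4,1,6,4,3,4,7,1,4],[4,7,4,7,4,6,4,6],[8,6,4,7,8,6,4,7,8,6,4,7],[1,2,4,2,4,7,3,2,7,3,7,4,2,4,2],[9,4,5,9,4,9,4,9,5,4],[2,4,3,8,2,4,3,9,4,9,3,4,2,8,4],[2,7,8,9,8,1,6,8,9,6,8,7,9,8,7,1,8,9,2,7,2,8,7,8],[2,7,1,2,7,1],[6,2,8,7,8,6,2,8,7,8],[3,2,3,5,1,3,6,1,3,6,5],[2,7,1,8,3,1,8,6,2,3]]) 14 1 = true := by decide +kernel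
theorem c1b_r0_15 : eqsOn c1b_T 98280 17 (relPairs c1b_i [[6,6,6],[1,4,1,4],[1,5,1,5],[1,6,1,6],[1,7,1,7],[1,8,1,8],[1,9,1,9],[2,5,2,5],[2,9,2,9],[3,5,3,5,3,5],[3,8,3,8],[3,9,3,9],[4,5,4,5,4,5],[4,8,4,8],[5,6,5,7],[5,8,5,8],[5,9,5,9],[6,9,7,9],[8,9,8,9,8,9],[2,9,8,2,8,9,8,2,8],[9,4,7,4,9,4,6,4],[3,4,1,6,4,3,4,7,1,4],[4,7,4,7,4,6,4,6],[8,6,4,7,8,6,4,7,8,6,4,7],[1,2,4,2,4,7,3,2,7,3,7,4,2,4,2],[9,4,5,9,4,9,4,9,5,4],[2,4,3,8,2,4,3,9,4,9,3,4,2,8,4],[2,7,8,9,8,1,6,8,9,6,8,7,9,8,7,1,8,9,2,7,2,8,7,8],[2,7,1,2,7,1],[6,2,8,7,8,6,2,8,7,8],[3,2,3,5,1,3,6,1,3,6,5],[2,7,1,8,3,1,8,6,2,3]]) 15 1 = true := by decide +kernel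
theorem c1b_r0_16 : eqsOn c1b_T 98280 17 (relPairs c1b_i [[6,6,6],[1,4,1,4],[1,5,1,5],[1,6,1,6],[1,7,1,7],[1,8,1,8],[1,9,1,9],[2,5,2,5],[2,9,2,9],[3,5,3,5,3,5],[3,8,3,8],[3,9,3,9],[4,5,4,5,4,5],[4,8,4,8],[5,6,5,7],[5,8,5,8],[5,9,5,9],[6,9,7,9],[8,9,8,9,8,9],[2,9,8,2,8,9,8,2,8],[9,4,7,4,9,4,6,4],[3,4,1,6,4,3,4,7,1,4],[4,7,4,7,4,6,4,6],[8,6,4,7,8,6,4,7,8,6,4,7],[1,2,4,2,4,7,3,2,7,3,7,4,2,4,2],[9,4,5,9,4,9,4,9,5,4],[2,4,3,8,2,4,3,9,4,9,3,4,2,8,4],[2,7,8,9,8,1,6,8,9,6,8,7,9,8,7,1,8,9,2,7,2,8,7,8],[2,7,1,2,7,1],[6,2,8,7,8,6,2,8,7,8],[3,2,3,5,1,3,6,1,3,6,5],[2,7,1,8,3,1,8,6,2,3]]) 16 1 = true := by decide +kernel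
theorem c1b_inv : ∀ l < 10, prm c1b_T 98280 (c1b_i l) = (prm c1b_T 98280 l)⁻¹ := inv_of_eqs c1b_nets c1b_w ((EqsBelow.zero _ _ _ _).step c1b_inv_0)
theorem c1b_rel0 : ∀ r ∈ ([[6,6,6],[1,4,1,4],[1,5,1,5],[1,6,1,6],[1,7,1,7],[1,8,1,8],[1,9,1,9],[2,5,2,5],[2,9,2,9],[3,5,3,5,3,5],[3,8,3,8],[3,9,3,9],[4,5,4,5,4,5],[4,8,4,8],[5,6,5,7],[5,8,5,8],[5,9,5,9],[6,9,7,9],[8,9,8,9,8,9],[2,9,8,2,8,9,8,2,8],[9,4,7,4,9,4,6,4],[3,4,1,6,4,3,4,7,1,4],[4,7,4,7,4,6,4,6],[8,6,4,7,8,6,4,7,8,6,4,7],[1,2,4,2,4,7,3,2,7,3,7,4,2,4,2],[9,4,5,9,4,9,4,9,5,4],[2,4,3,8,2,4,3,9,4,9,3,4,2,8,4],[2,7,8,9,8,1,6,8,9,6,8,7,9,8,7,1,8,9,2,7,2,8,7,8],[2,7,1,2,7,1],[6,2,8,7,8,6,2,8,7,8],[3,2,3,5,1,3,6,1,3,6,5],[2,7,1,8,3,1,8,6,2,3]]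 : List (List ℕ)), wv (prm c1b_T 98280) r = 1 := rels_of_eqs c1b_nets c1b_w c1b_inv (by decide +kernel) ((((((((((((((((((EqsBelow.zero _ _ _ _).step c1b_r0_0).step c1b_r0_1).step c1b_r0_2).step c1b_r0_3).step c1b_r0_4).step c1b_r0_5).step c1b_r0_6).step c1b_r0_7).step c1b_r0_8).step c1b_r0_9).step c1b_r0_10).step c1b_r0_11).step c1b_r0_12).step c1b_r0_13).step c1b_r0_14).step c1b_r0_15).step c1b_r0_16)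
theorem c1b_sat : Sat (prm c1b_T 98280) 10 c1b_i c1b_R := sat_prm rfl c1b_inv fun r hr => c1b_rel0 r (mem_of_subL (by decide +kernel) r hr)

end Cfsg.Lib.SporChar.Co
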