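import Cfsg.Agent.SporChar.CoDat

/-!
The sections `C(x) / ⟨-x⟩` of `Co0`, their images in `Co1`, and the reduction of the local problems to
these sections.
-/

set_option autoImplicit false
set_option maxRecDepth 100000

namespace Cfsg.Lib.SporChar.CL

open Cfsg Cfsg.Lib.Local Cfsg.Lib.Spor Cfsg.Lib.Spor.CK Cfsg.Lib.SporChar.Co Subgroup MulAction
open Bulk (wv)

attribute [local irreducible] mmul app tr cId cNeg cZero isSh isCo0 cm pk ip gFL

theorem cm_wv {g : ℕ → Co0} {T : List ℕ} (h : ∀ l, cm (g l) = nth cId T l) (w : List ℕ) :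
    cm (wv g w) = wvM T w := by
  induction w with
  | nil => exact cm_one
  | cons l w ih =>
    have : wvM T (l :: w) = forceNat (wvM T w) fun a => mmul a (nth cId T l) := rfl
    rw [this, forceNat_eq, Bulk.wv_cons, ← mmul_cm, ih, h]

theorem comm_of_comB {a b : Co0} {A B : ℕ} (ha : cm a = A) (hb : cm b = B) (h : comB A B = true) :
    b * a = a * b :=
  cm_inj (by rw [← mmul_cm, ← mmul_cm, ha, hb]; exact (Nat.eq_of_beq_eq_true h).symm)

/-- The centraliser of `x`. -/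
abbrev Cx (x : Co0) : Subgroup Co0 := centralizer (zpowers x : Set Co0)

theorem mem_cent_zpowers {G : Type*} [Group G] {x g : G} :
    g ∈ centralizer (zpowers x : Set G) ↔ g * x = x * g := by
  rw [centralizer_zpowers_eq_sing, mem_centralizer_singleton_iff]

theorem Zx_le (x : Co0) : Zx x ≤ Cx x := fun _ h =>
  mem_cent_zpowers.2 (comm_of_mem_Zx h rfl).symm

instance normal_Zx (x : Co0) : ((Zx x).subgroupOf (Cx x)).Normal := ⟨fun n hn g => by
  have : g * n = n * g := Subtype.ext (comm_of_mem_Zx hn (mem_cent_zpowers.1 g.2))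
  rwa [this, mul_inv_cancel_right]⟩

/-- The section `C(x) / ⟨-x⟩`. -/
abbrev Sx (x : Co0) : Type := Cx x ⧸ (Zx x).subgroupOf (Cx x)

/-- The projection onto the section. -/
abbrev px (x : Co0) : Cx x →* Sx x := QuotientGroup.mk' _

theorem px_eq_one {x : Co0} (g : Cx x) : px x g = 1 ↔ (g : Co0) ∈ Zx x := QuotientGroup.eq_one_iff g

theorem card_Sx (x : Co0) : Nat.card (Sx x) * Nat.card (Zx x) = Nat.card (Cx x) := by
  rw [card_eq_card_quotient_mul_card_subgroup ((Zx x).subgroupOf (Cx x)),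
    Nat.card_congr (subgroupOfEquivOfLe (Zx_le x)).toEquiv]

theorem toCo1_mem_zpowers {x g : Co0} : toCo1 g ∈ zpowers (toCo1 x) ↔ g ∈ Zx x := by
  rw [← MonoidHom.map_zpowers, ← mem_comap, comap_map_eq, QuotientGroup.ker_mk']

theorem toCo1_mem_Cb {x g : Co0} (h : g ∈ Cx x) :
    toCo1 g ∈ centralizer (zpowers (toCo1 x) : Set Spor.Co1) :=
  mem_cent_zpowers.2 (by rw [← map_mul, mem_cent_zpowers.1 h, map_mul])

/-- The centraliser in `Co1` maps onto the section. -/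
theorem exists_bar {x : Co0} (hx : trP (cm x) ≠ 192) :
    ∃ π : centralizer (zpowers (toCo1 x) : Set Spor.Co1) →* Sx x, Function.Surjective π ∧
      (∀ y, π y = 1 ↔ (y : Spor.Co1) ∈ zpowers (toCo1 x)) ∧
      (∀ d : Cx x, π ⟨_, toCo1_mem_Cb d.2⟩ = px x d) ∧
      ∀ y : centralizer (zpowers (toCo1 x) : Set Spor.Co1), ∃ d ∈ Cx x, toCo1 d = y := by
  let r : Cx x →* centralizer (zpowers (toCo1 x) : Set Spor.Co1) :=
    (toCo1.comp (Cx x).subtype).codRestrict _ fun d => toCo1_mem_Cb d.2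
  have hr : Function.Surjective r := by
    rintro ⟨y, hy⟩
    obtain ⟨d, rfl⟩ := toCo1_surjective y
    exact ⟨⟨d, mem_cent_zpowers.2 (comm_of_trc hx (mem_cent_zpowers.1 hy))⟩, rfl⟩
  have hk : r.ker ≤ (px x).ker := fun d hd => (px_eq_one d).2 (toCo1_mem_zpowers.1
    ((show toCo1 d = 1 from congrArg Subtype.val hd) ▸ one_mem _))
  have hπ : ∀ d, r.liftOfSurjective hr ⟨px x, hk⟩ (r d) = px x d := fun d =>
    r.liftOfRightInverse_comp_apply _ _ _ d
  refine ⟨r.liftOfSurjective hr ⟨px x, hk⟩, fun y => ?_, fun y => ?_, hπ, fun y => ?_⟩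
  · obtain ⟨d, rfl⟩ := QuotientGroup.mk'_surjective _ y
    exact ⟨r d, hπ d⟩
  · obtain ⟨d, rfl⟩ := hr y
    rw [hπ, px_eq_one, ← toCo1_mem_zpowers]; rfl
  · obtain ⟨d, rfl⟩ := hr y
    exact ⟨d, d.2, rfl⟩

theorem mem_cent_map {G H : Type*} [Group G] [Group H] (f : G ≃* H) {X : Subgroup G} {g : G} :
    f g ∈ centralizer (X.map (f : G →* H) : Set H) ↔ g ∈ centralizer (X : Set G) :=
  ⟨fun h a ha => f.injective (by rw [map_mul, map_mul]; exact h _ ⟨a, ha, rfl⟩),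
    fun h => by rintro _ ⟨a, ha, rfl⟩; exact (map_mul f _ _).symm.trans ((congrArg f (h a ha)).trans
      (map_mul f _ _))⟩

theorem map_cent {G H : Type*} [Group G] [Group H] (f : G ≃* H) (X : Subgroup G) :
    (centralizer (X : Set G)).map (f : G →* H) = centralizer (X.map (f : G →* H) : Set H) := by
  ext y
  obtain ⟨g, rfl⟩ := f.surjective y
  rw [mem_cent_map]
  exact mem_map_iff_mem f.injective

theorem exists_of_cjL {x : Co0} {κ p ν : ℕ} {μs : List (ℕ × ℕ)} (hx : F0.Acts x κ)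
    (hμ : ∀ m ∈ μs, comp m.1 m.2 = idK ∧ ∃ g, F0.Acts g m.1) (h : ν ∈ cjL μs κ p) :
    ∃ g j, 0 < j ∧ j < p ∧ F0.Acts (g * x ^ j * g⁻¹) ν := by
  simp only [cjL, List.mem_flatMap, List.mem_map, List.mem_range'_1] at h
  obtain ⟨m, hm, j, hj, rfl⟩ := h
  obtain ⟨e, g, hg⟩ := hμ m hm
  exact ⟨g, j, by omega, by omega, (hg.mul (acts_pow hx j)).mul (hg.inv e)⟩

theorem mem_of_comL {κ : ℕ} {P : ℕ → Prop} (h0 : P 0)
    (h1 : ∀ k < 8, P (mulN (2 ^ k) (invN (fld κ k)))) (h2 : ∀ a b, P a → P b → P (mulN a b))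
    {i : ℕ} (h : (comL κ).testBit i = true) : P i := by
  have key : ∀ {a c i : ℕ}, (a.testBit i = true → P i) → P c →
      (Nat.lor a (Nat.shiftLeft 1 c)).testBit i = true → P i := fun {a c i} ha hc h => by
    change (a ||| 1 <<< c).testBit i = true at h
    rw [Nat.testBit_or, Bool.or_eq_true, Nat.one_shiftLeft, Nat.testBit_two_pow,
      decide_eq_true_eq] at h
    exact h.elim ha fun e => e ▸ hc
  unfold comL at h
  revert h1 h
  generalize 8 = n
  intro h1 h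
  induction n with
  | zero => exact key (a := 0) (c := 0) (by simp) h0 h
  | succ n ih =>
    simp only [forceNat_eq] at h ih
    replace ih := ih fun k hk => h1 k (by omega)
    have hn := h1 n (by omega)
    revert h
    generalize mulN (2 ^ n) (invN (fld κ n)) = c at hn ⊢
    suffices ∀ m ≤ n, (Nat.rec (motive := fun _ => ℕ) _ (fun l b => Nat.lor b (Nat.shiftLeft 1
      (mulN c (mulN (2 ^ l) (invN (fld κ l)))))) m).testBit i = true → P i from this n le_rfl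
    intro m hm
    induction m with
    | zero => exact key ih hn
    | succ m ih' => exact key (ih' (by omega)) (h2 _ _ hn (h1 m (by omega)))

theorem countLT_comL_le {x : Co0} {κ : ℕ} (hx : F0.Acts x κ) {K : Subgroup Spor.Co1}
    (h : ∀ q ∈ F1.sub, q * (toCo1 x * q⁻¹ * (toCo1 x)⁻¹) ∈ K) :
    countLT 512 (comL κ).testBit ≤ Nat.card K := by
  rw [← F1.card_filter (fun y => ∃ i < 512, F1.fr i = y ∧ (comL κ).testBit i = true) _ fun i hi =>
    ⟨fun ⟨j, hj, e, k⟩ => F1.fr_inj hj hi e ▸ k, fun k => ⟨i, hi, rfl, k⟩⟩]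
  refine Nat.card_le_card_of_injective (fun y => (⟨y.1.1, ?_⟩ : K)) fun a b e =>
    Subtype.ext (Subtype.ext (congrArg (fun k : K => k.1) e))
  obtain ⟨i, -, e, hi⟩ := y.2
  refine e ▸ mem_of_comL (P := fun i => F1.fr i ∈ K) (F1.fr_zero ▸ one_mem _) (fun k hk => ?_)
    (fun a b ha hb => F1.fr_mul a b ▸ mul_mem ha hb) hi
  have := h _ (F1.g_mem (k := k) (by omega))
  rwa [← conj_inv, (acts1 hx).g k hk, F1.fr_inv (fld_lt _ _), ← F1.fr_pow (by omega), F1.fr_mul] at this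

section Reduce

variable {G : Type*} [Group G] [Finite G] {z : G} {Q : Subgroup (centralizer ({z} : Set G))}
  [Q.Normal]

theorem reduce_p (hG : Nonempty (G ≃* Spor.Co1)) (hz : orderOf z = 2) (hcard : Nat.card Q = 2 ^ 9)
    (e : centralizer ({z} : Set G) ⧸ Q ≃* Om8) {p : ℕ} [Fact p.Prime] (hp : Odd p) {L : List ℕ}
    (hL : ∀ x ∈ C0, x ^ p = 1 → ∃ c ∈ C0, ∃ κ ∈ L, F0.Acts (c * x * c⁻¹) κ)
    {X : Subgroup (centralizer ({z} : Set G))} (hX : Nat.card X = p) :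
    ∃ f : G ≃* Spor.Co1, f z = F1.z ∧ ∃ y, zpowers y = X ∧ ∃ x, f y = toCo1 x ∧ x ^ p = 1 ∧ x ≠ 1 ∧
      ∃ κ ∈ L, F0.Acts x κ := by
  obtain ⟨f, hf⟩ := reduce_z hG hz hcard e
  obtain ⟨y, hy⟩ := (Subgroup.isCyclic_iff_exists_zpowers_eq_top X).1 (isCyclic_of_prime_card hX)
  have ho : orderOf y = p := by rw [← Nat.card_zpowers, hy, hX]
  obtain ⟨x, hx, h1⟩ := exists_lift (y := f y) hp (by
    rw [← map_pow, ← Subgroup.coe_pow, ← ho, pow_orderOf_eq_one]; exact map_one f)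
  obtain ⟨c, hc, κ, hκ, h2⟩ := hL x (toCo1_mem_cent.1 (hx ▸ (mem_C1 hf).2 y.2)) h1
  refine ⟨f.trans (MulAut.conj (toCo1 c)), ?_, y, hy, _, ?_, by rw [conj_pow, h1]; simp, fun h => ?_,
    κ, hκ, h2⟩
  · rw [MulEquiv.trans_apply, hf, MulAut.conj_apply,
      mem_centralizer_singleton_iff.1 (toCo1_mem_cent.2 hc), mul_inv_cancel_right]
  · rw [MulEquiv.trans_apply, MulAut.conj_apply, ← hx, map_mul, map_mul, map_inv]
  · rw [conj_eq_one_iff.1 h, map_one, eq_comm, map_eq_one_iff _ f.injective] at hx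
    rw [show y = 1 from Subtype.ext hx, orderOf_one] at ho
    exact (Fact.out : p.Prime).one_lt.ne ho

omit [Finite G] in
theorem exists_equiv_of_cjL {w x : Co0} {κ p ν : ℕ} {μs : List (ℕ × ℕ)} (hw : F0.Acts w κ)
    (hμ : ∀ m ∈ μs, comp m.1 m.2 = idK ∧ ∃ g, F0.Acts g m.1) (h : ν ∈ cjL μs κ p) (hp : p.Prime)
    (hp' : Odd p) (ho : orderOf w = p) (hx : F0.Acts x ν) (hxp : x ^ p = 1) (f : G ≃* Spor.Co1)
    {y : centralizer ({z} : Set G)} (hy : f y = toCo1 x) : ∃ f' : G ≃* Spor.Co1,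
      ((zpowers y).map (Subgroup.subtype _)).map (f' : G →* Spor.Co1) = zpowers (toCo1 w) := by
  obtain ⟨g, j, h1, h2, h3⟩ := exists_of_cjL hw hμ h
  have e := eq_of_acts hx h3 hp' hxp (by
    rw [conj_pow, ← pow_mul, mul_comm j, pow_mul, ← ho, pow_orderOf_eq_one]; simp)
  refine ⟨f.trans (MulAut.conj (toCo1 g)⁻¹), ?_⟩
  have : zpowers (w ^ j) = zpowers w := le_antisymm (zpowers_le.2 (npow_mem_zpowers w j))
    (zpowers_le.2 (mem_zpowers_pow_iff.2
      (ho ▸ (Nat.coprime_of_lt_prime h1.ne' h2 hp).symm)))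
  rw [MonoidHom.map_zpowers, MonoidHom.map_zpowers, ← MonoidHom.map_zpowers toCo1 w, ← this,
    MonoidHom.map_zpowers]
  congr 1
  change (toCo1 g)⁻¹ * f y * (toCo1 g)⁻¹⁻¹ = _
  rw [hy, e, map_mul, map_mul, map_inv]; group

end Reduce

end Cfsg.Lib.SporChar.CL
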