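import Cfsg.Agent.SporChar.FiForm
import Cfsg.Agent.SporChar.U43Model

/-! The triple cover of `PSU(4, 3)` inside the unitary group of `GF(4)^6`. -/

set_option autoImplicit false
set_option exponentiation.threshold 40000

namespace Cfsg.Lib.SporChar.Fi

open Subgroup Cfsg.Lib.Spor Cfsg.Lib.Spor.PK GF4 Equiv
open scoped Pointwise

def Ra : ℕ := 0x4aec596acd58d51bf3b3762e2ae15968ed49

def Rb : ℕ := 0xe8a9457e3e92e1a93529a1759747ecc9a875

def certK : List Cfsg.Lib.Spor.PK.Cert :=
  [⟨0, [16960, 5249, 21376, 1345, 8448, 9408, 5185, 17536, 6017, 7744, 3265, 1728, 18433, 18624, 15425, 10560,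
    13953, 23808, 8641, 17985, 16128, 23105, 3968, 1985, 12353, 1536, 21249, 21313, 768, 21889, 19264, 13889,
    192, 3841, 9536, 19329, 4864, 22849, 6464, 5761, 2816, 23425, 7616, 7681, 1856, 10113, 16320, 4481, 8192,
    13633, 15168, 8129, 1921, 19776, 1665, 18689, 4096, 24129, 9921, 12992, 17921, 5056, 12288, 2369, 11072,
    1409, 7296, 3393, 20864, 13313, 7360, 14913, 1600, 10945, 10816, 7553, 18048, 9473, 14144, 13824, 1473,
    18113, 11648, 3521, 9216, 8257, 18240, 17024, 12096, 20737, 15360, 5569, 15552, 21505, 6976, 23361, 22912,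
    2753, 16832, 21057, 2560, 23744, 11841, 320, 14465, 4160, 7873, 17280, 10177, 15680, 9729, 4608, 2625,
    2049, 11136, 15488, 1088, 19201, 16704, 22657, 8512, 6849, 23553, 6144, 513, 14592, 17857, 16000, 4033,
    22145, 6656, 3329, 3648, 21953, 4992, 9280, 20161, 5120, 19713, 19136, 1281, 14656, 22209, 13056, 22273,
    8000, 22465, 15232, 20033, 5377, 20608, 3137, 6273, 9792, 14209, 13440, 16641, 9984, 5953, 8832, 1153,
    6080, 14273, 6912, 6785, 640, 2688, 24065, 13377, 22016, 19841, 16448, 12161, 12800, 19904, 11584, 5825,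
    4736, 2945, 21120, 17473, 3457, 10496, 11969, 7809, 23168, 17793, 11265, 23872, 9344, 20993, 65, 22785,
    8960, 14977, 19393, 22721, 8768, 4417, 18304, 961, 13697, 4544, 13121, 7168, 18753, 17664, 19969, 11392,
    13505, 15744, 14081, 2112, 15937, 22400, 129, 14336, 5889, 4352, 19073, 14529, 11521, 11777, 15296, 11008,
    7488, 16513, 5505, 9600, 22529, 10432, 1025, 9025, 19585, 2240, 8064, 11456, 15105, 20544, 11713, 13568,
    17344, 12672, 2497, 11329, 10624, 12225, 22976, 12545, 10688, 1216, 12928, 8384, 22336, 5313, 10369,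
    16065, 10752, 17601, 6528, 6208, 11200, 22081, 896, 23616, 16384, 14848, 12481, 21440, 20929, 20481,
    24000, 2432, 15616, 17153, 1792, 12032, 13184, 20416, 3905, 12416, 3201, 12608, 23232, 10241, 16192, 4224,
    9153, 6720, 11904, 20097, 9664, 21632, 10305, 3008, 15040, 7425, 3713, 3072, 16257, 23041, 6336, 15873,
    18816, 576, 18176, 21569, 2881, 23488, 5633, 4288, 13760, 18560, 257, 20288, 12864, 9857, 20673, 10880,
    19457, 21824, 7936, 21696, 7105, 7040, 17409, 8705, 23936, 8896, 16768, 8320, 18944, 19520, 17088, 17729,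
    12737, 20801, 19008, 6592, 4929, 13249, 18880, 23297, 833, 19649, 6401, 5440, 14400, 3585, 2176, 18368,
    14017, 23680, 10049, 3776, 449, 9088, 16577, 15808, 20352, 704, 385, 20225, 14720, 4801, 16896, 4673,
    2305, 7232, 5697, 18497, 22592, 21761, 17216, 8576, 21184, 14785], [[0, 0, 1, 1, 1, 0, 1, 1, 0, 0, 0, 1,
    0, 0, 1, 1, 1, 0, 0], [1, 0, 0, 1, 0, 1, 0, 1, 0, 1, 0, 0, 1]]⟩,
   ⟨33, [21952, 19329, 18816, 6592, 17921, 13056, 12609, 22528, 4865, 20928, 22785, 18433, 4672, 16321, 19456,
    11393, 23232, 15617, 4097, 22016, 20352, 3265, 18497, 12672, 14401, 13889, 3392, 12417, 6208, 18561, 6272,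
    14465, 2688, 21184, 12801, 4032, 16001, 7489, 21312, 10305, 20416, 9793, 6336, 9152, 5569, 13760, 17665,
    16960, 2817, 8768, 2177, 22400, 11648, 13505, 4928, 6144, 3841, 14720, 12481, 5440, 14656, 6849, 10625,
    4800, 7104, 3329, 9088, 17600, 15105, 15745, 2240, 10113, 16256, 24128, 5696, 7233, 10048, 22849, 19712,
    16065, 15361, 5632, 23489, 20609, 6528, 6400, 12289, 11008, 20096, 12353, 10752, 21569, 9537, 19968,
    18753, 19009, 18688, 3905, 13440, 5505, 17216, 8192, 23617, 20673, 16832, 21633, 16577, 7552, 8448, 13120,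
    22273, 4736, 19073, 3968, 7936, 14145, 23168, 9408, 11264, 4161, 11712, 18624, 4609, 12544, 8321, 2752,
    14976, 7873, 23872, 6464, 8704, 17281, 5377, 10368], [[1, 0, 0, 1, 1, 0, 1, 0, 1, 0, 0, 0, 1], [0, 0, 1,
    1, 0, 1, 0, 0, 0, 1, 0]]⟩,
   ⟨102, [7488, 20673, 22273, 16320, 17217, 17920, 16257, 8193, 20608, 6593, 21568], [[0, 1, 0, 0, 1, 1], [1, 0,
    0, 1, 1, 0], [1, 0, 1, 1, 0, 1], [0, 1, 1, 0, 0, 1]]⟩,
   ⟨60, [6144, 17665, 17283, 22017, 21635, 4035, 6339], [[1, 2]]⟩,
   ⟨34, [23168], []⟩]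

def FT : ℕ := 0x10000001400000582160a00000000400000170000050a05c200000005600000400000043815a1802158200805ca00a162180000002300000190000039000002a54e4c8000000620000008000004f118a7800000044000003c00000068819e008988c8010e5e00541a7800000048000000a00000180000053302a980000005700000590000036aedac800000005000006f00000162dbc280ae2828031bec802cda98000000692028c8030e4a0055629800000026af88200105ec80a0da780000002f895828081bde002c1a18000000240000054000005f000005594d58000000051000000d00000285036880000002e0000001000004602ba300000006b000001b000005ed778d80d6ba8800234d80517a3000000048000005d000000c000006c1977600000001d000002500000113a4528000000220000041000000001051003b75100190528000476000000069000002d0000034000006a5ba9a00000003f000004c000003d7b31f800000047000001a000005b351ed805b1df803531a007baad8000000235b768801835a0051ab600000002f3ab9f8003312807a463000000024d71d1003504d80017ad800000026000005f000005500000546ac25000000065000001e00000023d941000000060000000b0000066c1985800000029000005200000316349480c1954803d485806398100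000006900000120000015000003e24f8a800000061000003b000000f1eef0800000007000001c0000021381d080241f08038eca801ef90800000023000004d000004e0000063c73a680000005c000000e00000091d704800000037000004200000496f261006f726801d3a100c724480000004825966803d38a80c6f81000000024c1730801cec5801f9848000000266e1d480394a1006325080000002f00000550000054000005f6129a8021968803c34a0051601000000067c0b8200025c580a19a3000000027d7594808148d80637a180000006e0000020000002b000003a70cd9002574c8018e4a8054fb60000000273b8b08010ed2801e46780000006e881d1003905e0000190800000067000002b000003a000002066c9c005a2a6803139a00c7aa980000006eaf71f801d32c807ad848000000676f1c28035be1002d26d800000027000003a0000020000002b64e1980000004b000002c000006427a2d00000002c0000064000004bd1689800000064000004b000002cb44f400da0cf80067f6803fb4180000004500000490000037000004284de4800000063000004d000004e9b8e7000000009000005c000000e123ae00138e4809adee00843a700000004800000310000029000005252c690000000020000065000001e047b28000000660000060000000b178330004c73005383280167a900000006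900000210000007000001c4270380000003e000001200000152a49f00000000f0000061000003bc23dd80423df00c2483802a71d80000002342c648052dc3808472900000002f058df009a4b2802a7a7000000024123f300c382e001639d800000026000005f000005500000546ac250000000160000005000006f0a5b7800000053000000a0000018a660500000003600000570000059b35db00a659b000b5c500b26378000000690000043000005600000408702b000000058000001000000142842c000000050000000400000170940b808742c000842b002900b80000002300000060000044000003c7910300000002a0000019000003932a9c80000004f000006200000089e231009ea830033131007821c80000004886583000b12b0079037800000024a6aac0032405002861c8000000269f41b00095f100b220b80000002f00000550000054000005f6129a80000005b0000047000001ab66a380000006a000002d000003468b7500000003d000003f000004c7ef6600b6f75007eb6380686a6000000023000005e000006b000001b37aef0000000280000051000000da2a06800000046000002e00000018c057008ca2f00a3ad700360468000000480000000000002200000414402080000006c000005d000000cd832e800000011000001d00000254a74880d8008804476e804a320800000069b602f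0045ae380366a0800000026d8a3500a2b6e806830680000002f8cf48807e757004a0660000000240000054000005f000005594d5800b65a4800ade380846b7800000027a78f5009ab45006862700000006e12f5b007f5ee00b23a6000000067000002b000003a000002066c9c0086c6f0053aeb003702900000006e04a2c00a243280287868000000678d4330009817001604b800000027000003a0000020000002b64e19804200300451038078720800000067d8a9f00324ae802a31c8000000279e3c880c2771004a21d80000006e0000020000002b000003a70cd900000002c0000064000004bd1689800000064000004b000002cb44f400000004b000002c000006427a2d00067f6803fb4180da0cf80000004500000250000011000001d2294e800000041000000000000228288000000000c000006c000005dbbb0600829460023b0000ba88e800000069000004c000003d000003f98fde80000001a000005b00000478f6cd000000034000006a000002dd4d168098d0d00d56de808efd680000002300000010000046000002e5d18080000001b000005e000006bbc6f580000000d000002800000511b454001a6c080bd194005d47580000004898940802319e805cfce800000024826cd00bd6c0008e8b58000000261ad0600d5b1400bb45680000002f00000550000054000005f6129a80000003b0000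00f00000617784780000001c000002100000070e84e000000015000003e00000127c549007654e007c847800f849000000023000000e0000009000005cb8247000000042000004900000379309b80000004e0000063000004d9d371809d087009227180b935b800000048000000b00000660000060cc2f000000005200000310000029a4a5880000001e00000020000065ca08f00a42cf00cc09880caa70000000069762c700cc24780b9870000000026a508e0092858800ea5b80000002f9c54f007c0b180cb3490000000240000054000005f000005594d58000000008000004f0000062c53c400000003c000000600000440cf22000000039000002a0000019726550072f04000d3d500c46620000000480000059000003600000576d66b80000006f00000160000005de14b0000000180000053000000a154cc00df64c006d4cb001416b8000000690000017000005000000042e12800000004000000430000056ad0e000000001400000580000010b0508002e52000b10e800ac1080000000232f644006d3e800c412b80000002fdef20000d0cb00ac1620000000247250c00b14d50014648000000026000005f000005500000546ac25007694400233c780c584e80000006e82f0e000c840000e8a200000006772546007db1500ba649000000027000003a0000020000002b64e198099647006c25e80b8f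eb800000067df08d00936cb008e15b8000000279cd0c00d54f1801535680000006e0000020000002b000003a70cd9002e2c080cd1a8005c130000000027a46e000bd0d880aca7580000006e1a50f00b009400cb448000000067000002b000003a000002066c9c000000064000004b000002cb44f400000004b000002c000006427a2d00000002c0000064000004bd1689803fb4180da0cf80067f6800000045209648022dca008560e80000006d838c2009a5c000a08a700000001f135860081b2e00ba3a18000000030000013000005a0000068979160098c4c8052e5e8054fe900000001f0588d00116f2808e7a780000000388d3300d581e001619680000006d000005a00000680000013c8b2580422808031183805c729800000003ae6df00bc4ac802adb580000006d1a3c280c3bd4002d45d80000001f00000680000013000005a592f20000000380000032000003340e958000000320000033000003874ad0000000033000003800000325681d00cfb9380dc9f3804f9f7000000045765a8800a347805187780000001fa6b8e0002845000e623000000003d655b007d5cd80b378900000006d000005a00000680000013c8b258087747001826b00b90360000000033b0ac0092412802845b80000006d9d4110009071800134b80000001f00000680000013000005a592f2005a2c300cd11a0079ab00000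0006da4a9f8033318807aa5c80000001f9f1cf00340b100ca22d8000000030000013000005a0000068979160000000320000033000003874ad0000000033000003800000325681d0000000380000032000003340e9580dc9f3804f9f700cfb93800000045b7944003d3e380c4681000000003c0f35000cb4580699a200000006d72f54807f495006266600000001f00000680000013000005a592f2002566f006daca8036fab80000006ddea3080a2ecb001e14680000001f8c1cc00394d700140508000000030000013000005a000006897916002e02680453a800c612080000001fd9720001d0ee80ac3048000000036e50880b0761004b24800000006d000005a00000680000013c8b25800000033000003800000325681d0000000380000032000003340e958000000320000033000003874ad0004f9f700cfb9380dc9f3800000045000004a00000300000035a956f8000000300000035000004aab7ea000000035000004a0000030bf52a804c9178048bd3005e99200000004500000300000035000004aab7ea000000035000004a0000030bf52a80000004a00000300000035a956f8048bd3005e992004c9178000000450000035000004a0000030bf52a80000004a00000300000035a956f8000000300000035000004aab7ea005e992004c9178048bd300000004547a6400d321180908f4800000045d321180908f48047a64000000045908f48047a6400d32118000000450000045000004500000458b16280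

def cT : ℕ := 0x53452851c5105042704ec2104d408416843839c0600b448027c1440900a84444b02880f04143002403783e43d81e00303b43a84a43900e43f031836013834833c33032436c30c4082dc0fc2f40482c42582ac18029442c4744f82042b81ec3fc23400c21c4e026412c24c3cc1d41c80cc1b01a400018c2a01744bc15c0544683541f807811403c2e84203840d81bc0c048c45009c45c4c812006c4981502d01083c0024018228198

def certU2 : List Cfsg.Lib.Spor.PK.Cert :=
  [⟨0, [4480, 1921, 2178, 3136, 2625, 2752, 897, 6466, 7040, 1025, 1984, 1601, 4352, 1345, 4096, 1409, 3266,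
    4032, 385, 5890, 5184, 5569, 7104, 5120, 449, 960, 3585, 768, 5057, 2690, 3648, 2497, 640, 6977, 3970,
    2304, 5506, 2240, 322, 3200, 1665, 3906, 4992, 129, 3842, 6400, 4161, 4672, 3457, 2562, 6912, 258, 192,
    5633, 1794, 6210, 6336, 1857, 2050, 1088, 5954, 3328, 3521, 2369, 6720, 1281, 1538, 6656, 6145, 3073,
    1152, 3776, 4801, 2944, 3393, 3714, 5248, 4546, 2113, 5440, 5762, 2432, 4417, 2817, 4226, 5698, 4865,
    6528, 6081, 65, 2880, 833, 6849, 4930, 4736, 512, 6273, 1728, 6786, 1216, 5377, 577, 705, 6592, 5313,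
    4609, 3008, 1472, 4289, 5824, 6016], [[2, 0, 2, 1, 2, 1, 1, 1, 1], [0, 2, 1, 1, 2, 0, 2]]⟩,
   ⟨1, [5120, 2881, 1152, 6721, 1984, 3393, 4544, 6785, 5952, 6593, 3264, 6336, 2816, 5057, 3520, 4673, 2368,
    3841, 513, 2432, 5377, 4097, 3968, 449, 1728, 4481, 2049, 4289, 5761], [[0, 1, 1, 1, 1, 1, 0, 0, 1], [0,
    0, 0, 0, 0, 0, 1]]⟩,
   ⟨2, [320, 2113, 3648, 6465, 6080, 6849, 6976, 1857, 1344, 5889, 1473, 4736, 6145, 1408, 577, 2688, 5505, 4801,
    832, 7105, 2240, 4225, 3072, 4353, 1921, 1665, 2624, 3713, 6272, 7040, 4417, 4929, 4864, 6209, 704, 897,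
    3200, 1216, 3457, 1601, 5312, 2560, 4993, 5824, 2944, 769, 6913, 2176, 3905, 640, 384, 3009, 5632], [[1,
    1, 1, 0, 1, 0], [0, 0, 1, 0, 1, 1, 0, 1, 1, 1, 0, 0, 0, 0, 1]]⟩,
   ⟨3, [6017, 5248, 257, 961, 3328, 1025, 2305, 6401], [[1, 1, 1, 0, 1, 0, 1], [0]]⟩,
   ⟨5, [7040, 4353, 1217], []⟩]

def Rt : ℕ := 0x800400200100080040020010002001008004

def Rw : ℕ := 0xc008003002000c008003002000c008003002

theorem rep_wV : Rep Rw wV := rep_of_dec (by decide +kernel)

/-- The transposition of the first two coordinates. -/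
noncomputable def tau : GV := mono 0 (swap 0 1)

theorem rep_tau : Rep Rt tau := rep_of_dec (by decide +kernel)

/-- The unitary maps preserving the short vectors. -/
noncomputable def NU : Subgroup GV := GU0 ⊓ MulAction.stabilizer GV S0

theorem mem_stab_S0 {g : GV} : g ∈ MulAction.stabilizer GV S0 ↔ ∀ v ∈ S0, g • v ∈ S0 :=
  (MulAction.mem_stabilizer_set_iff_smul_set_subset (Set.toFinite _)).trans
    ⟨fun h _ hv => h ⟨_, hv, rfl⟩, by rintro h _ ⟨v, hv, rfl⟩; exact h v hv⟩

theorem mem_stab_of_den {g : GV} {c : ℕ} (hc : Den 13 378 pt c g) :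
    g ∈ MulAction.stabilizer GV S0 := mem_stab_S0.2 fun v hv => by
  obtain ⟨i, hi, rfl⟩ := exists_pt hv
  obtain ⟨j, hj, -, e⟩ := hc.2 i hi
  exact e ▸ pt_mem hj

/-- The matrix preserves the quadratic form. -/
noncomputable def isO (R : ℕ) : Bool :=
  allN 4096 fun c => Nat.beq (force (ap R c) fun d => U6.ip d d) (U6.ip c c)

theorem Rep.mem_OV {R : ℕ} {g : GV} (hg : Rep R g) (h : isO R = true) : g ∈ OV :=
  forall_vec fun c hc => by
    have := (allN_iff _ _).1 h c hc
    rw [force_eq] at this
    rw [hg.smul hc, q0_vec' hc, q0_vec' (ap_lt _ _), Nat.eq_of_beq_eq_true this]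

theorem Rep.comm_iff {R S : ℕ} {g k : GV} (hg : Rep R g) (hk : Rep S k) :
    g * k = k * g ↔ Nat.beq (mm R S) (mm S R) = true := (hg.mul hk).eq_iff (hk.mul hg)

theorem mono_of_fix {g : GV} (hg : g ∈ NU) (h : g • e 0 = e 0) :
    ∃ a σ, ∑ i, a i = 0 ∧ a 0 = 0 ∧ σ 0 = 0 ∧ g = mono a σ := by
  have hS := mem_stab_S0.1 hg.2
  obtain ⟨a, σ, rfl⟩ := exists_mono hg.1.2 fun i => by
    by_cases hi : i = 0
    · exact ⟨0, 0, by rw [hi, h]; exact (one_smul _ _).symm⟩
    have h1 : ∀ c : GF4, c ≠ 0 → ∀ n, n = c.val →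
        bit MS (Nat.xor 1 (U6.sm n (enc (g • e i)))) = true := fun c hc n hn => by
      subst hn
      have := hS _ ((by decide +kernel : ∀ i : Fin 6, i ≠ 0 → ∀ c : GF4, c ≠ 0 →
        e 0 + c • e i ∈ S0) i hi c hc)
      rwa [smul_add, h, lin_smul hg.1.2, ← vec_mem_S0 (xor_lt (by decide) (sm_lt _ _)), vec_xor,
        vec_sm c (enc_lt _), vec_enc, show vec 1 = e 0 by decide] at *
    have h2 := (allN_iff _ _).1 (by decide +kernel : allN 4096 (fun c =>
      !(bit MS (Nat.xor 1 (U6.sm 1 c)) && bit MS (Nat.xor 1 (U6.sm 2 c)) &&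
        bit MS (Nat.xor 1 (U6.sm 3 c))) || decide (∃ j a, vec c = om a • e j)) = true) _
      (enc_lt (g • e i))
    rw [h1 1 (by decide) 1 rfl, h1 w (by decide) 2 rfl, h1 (w + 1) (by decide) 3 (by decide),
      vec_enc] at h2
    simpa using h2
  rw [mono_e, ← one_smul GF4 (e 0)] at h
  obtain ⟨h1, h2⟩ := smul_e_inj (om_ne _) h
  exact ⟨a, σ, (by decide +kernel : ∀ a : Fin 6 → ZMod 3, (fun i => om (a i) * 1) ∈ S0 →
    ∑ i, a i = 0) a (hS 1 (by decide +kernel)), om_inj (h1 ▸ h2), h1, rfl⟩

theorem card_NU_le : Nat.card NU ≤ 19595520 := by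
  have h1 := card_le_of_code (G := NU) (MulAction.stabilizer NU (e 0)) (fun g => enc (g • e 0))
    (n := 4096) (f := fun c => !Nat.beq (U6.ip c c) 0) (fun g => ⟨enc_lt _, by
      rw [Bool.not_eq_true', nbeq_false, Ne, ← q0_vec (enc_lt _), vec_enc]
      exact (g.2.1.1 _).trans_ne (by decide)⟩) fun g k h => by
      rw [MulAction.mem_stabilizer_iff, mul_smul, inv_smul_eq_iff, ← vec_enc (k • e 0), ← h, vec_enc]
  choose a σ h2 h3 h4 h5 using fun g : MulAction.stabilizer NU (e 0) => mono_of_fix g.1.2 g.2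
  have h6 := Nat.card_le_card_of_injective (fun g => ((fun i : Fin 4 => a g i.succ.succ),
    (Perm.decomposeFin (σ g)).2)) fun g k h => Subtype.ext (Subtype.ext (by
      obtain ⟨b1, b2⟩ := Prod.ext_iff.mp h
      have h7 : ∀ g, (Perm.decomposeFin (σ g)).1 = 0 := fun g => by
        rw [← Perm.decomposeFin_symm_apply_zero (Perm.decomposeFin (σ g)).1
          (Perm.decomposeFin (σ g)).2, Equiv.symm_apply_apply, h4]
      rw [h5, h5, Perm.decomposeFin.injective (Prod.ext ((h7 g).trans (h7 k).symm) b2)]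
      congr 1
      have e1 := h2 g
      have e2 := h2 k
      have e3 : ∀ i : Fin 4, a g i.succ.succ = a k i.succ.succ := congrFun b1
      rw [Fin.sum_univ_succ, Fin.sum_univ_succ, h3] at e1 e2
      simp only [e3] at e1
      exact funext (Fin.forall_fin_succ.2 ⟨(h3 g).trans (h3 k).symm, Fin.forall_fin_succ.2
        ⟨add_right_cancel (add_left_cancel (e1.trans e2.symm)), e3⟩⟩)))
  rw [show countLT _ _ = 2016 by decide +kernel] at h1
  rw [Nat.card_prod, Nat.card_fun, Nat.card_perm] at h6
  simp only [Nat.card_eq_fintype_card (α := Fin _), Nat.card_zmod, Fintype.card_fin, Nat.factorial] at h6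
  omega

/-- The number of the frame containing a vector. -/
def ft (c : ℕ) : ℕ := act 127 FT (Nat.mul 7 c)

/-- The 112 frames. -/
def frame (i : Fin 112) : Set V0 := {v | q0 v ≠ 0 ∧ ft (enc v) = i}

/-- The matrix lies in `NU` and permutes the frames as the code `c` says. -/
noncomputable def frOk (R c : ℕ) : Bool :=
  okR R && isO R && Nat.beq (mm R Rw) (mm Rw R) && allN 4096 fun d => Nat.beq (U6.ip d d) 0 ||
    Nat.blt (ft d) 112 && Nat.beq (ft (ap R d)) (img 12 c (ft d))

theorem frOk_spec {R c : ℕ} (h : frOk R c = true) {t : Perm (Fin 112)}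
    (ht : Den 12 112 (Fin.ofNat 112) c t) : el R ∈ NU ∧ ∀ i, el R • frame i = frame (t i) := by
  simp only [frOk, Bool.and_eq_true, allN_iff, Bool.or_eq_true, Nat.blt_eq, Nat.beq_eq] at h
  obtain ⟨⟨⟨h1, h2⟩, h3⟩, h4⟩ := h
  have r := (okR_spec h1).1
  have o := r.mem_OV h2
  refine ⟨⟨⟨o, mem_centralizer_singleton_iff.mpr ((r.comm_iff rep_wV).2 (Nat.beq_eq ▸ h3))⟩,
    mem_stab_of_den (den_el h1)⟩, fun i => Set.ext fun v => ?_⟩
  rw [← smul_inv_smul (el R) v]
  generalize (el R)⁻¹ • v = v
  rw [Set.smul_mem_smul_set_iff, frame, frame, Set.mem_ofPred_eq, Set.mem_ofPred_eq, o]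
  refine and_congr_right fun hv => ?_
  obtain ⟨a, b⟩ := (h4 _ (enc_lt v)).resolve_left (by rwa [← q0_vec (enc_lt v), vec_enc])
  have := congrArg Fin.val (perm_apply_of_den U4.ctxU ht ⟨_, a⟩)
  rw [Fin.val_ofNat, Nat.mod_eq_of_lt (img_spec U4.ctxU ht a).1] at this
  conv_rhs => rw [← vec_enc v, r.smul (enc_lt v), enc_vec (ap_lt _ _), b, ← this, ← Fin.ext_iff,
    t.injective.eq_iff, Fin.ext_iff]

/-- The two generators. -/
noncomputable def gsK : List GV := [Ra, Rb].map el

/-- The triple cover. -/
noncomputable def K0 : Subgroup GV := gen gsK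

theorem okK : PK.allL [Ra, Rb] okR = true := by decide +kernel

theorem densK : Dens 13 378 pt ([Ra, Rb].map pc) gsK := dens_el okK

theorem repsK : Reps [Ra, Rb] gsK := reps_ok okK

theorem exists_phi0 : Nat.card K0 = 9797760 ∧ K0 ≤ NU ∧ wV ∈ K0 ∧ ∃ φ : K0 →* gen U4.psU,
    Function.Surjective φ ∧ φ.ker = (zpowers wV).subgroupOf K0 := by
  have d1 := (List.forall₂_cons.1 U4.densU).1
  have d2 := (List.forall₂_cons.1 (List.forall₂_cons.1 U4.densU).2).1
  have d3 : Den 12 112 (Fin.ofNat 112) cT _ := den_elt (exists_den_of_isPerm U4.ctxU (by decide +kernel))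
  obtain ⟨a1, a2⟩ := frOk_spec (R := Ra) (by decide +kernel) d1
  obtain ⟨b1, b2⟩ := frOk_spec (R := Rb) (by decide +kernel) d2
  obtain ⟨c1, c2⟩ := frOk_spec (R := Rt) (by decide +kernel) d3
  obtain ⟨w1, w2⟩ := frOk_spec (R := Rw) (by decide +kernel) (den_one U4.ctxU)
  rw [rep_wV.el_eq] at w1 w2
  have hw : wV ∈ K0 := ((repsK.evalW
    [0, 0, 1, 0, 0, 1, 0, 0, 1, 0, 0, 1, 0, 0, 1, 0, 0, 1, 0, 0, 1]).eq_iff rep_wV).2
      (by decide +kernel) ▸ evalG_mem _ _
  have hK : K0 ≤ NU := (closure_le _).2 fun g hg => by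
    rcases List.mem_pair.mp hg with rfl | rfl
    exacts [a1, b1]
  have hO : Function.Injective frame := injective_of_trans (G := GV) (fun t ht => by
    rcases List.mem_pair.mp ht with rfl | rfl
    exacts [⟨_, a2⟩, ⟨_, b2⟩]) U4.trans_U fun k h =>
      Fin.ext ((h.ge (show vec 382 ∈ frame 0 from ⟨by decide, by decide +kernel⟩)).2.symm.trans
        (by decide +kernel))
  have h3 : Nat.card ((zpowers wV).subgroupOf NU) = 3 := by
    rw [Nat.card_congr (subgroupOfEquivOfLe (zpowers_le.mpr w1)).toEquiv, Nat.card_zpowers, orderOf_wV]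
  obtain ⟨φ, h4, -, h5⟩ := objHom_of_card (G := NU) hO (ps := [_, _, _]) (fun t ht => by
      simp only [List.mem_cons, List.not_mem_nil, or_false] at ht
      rcases ht with rfl | rfl | rfl
      exacts [⟨⟨_, a1⟩, a2⟩, ⟨⟨_, b1⟩, b2⟩, ⟨⟨_, c1⟩, c2⟩]) (K := (zpowers wV).subgroupOf NU)
    (fun g hg i => (zpowers_le (H := MulAction.stabilizer GV (frame i))).mpr (w2 i) hg) (by
      have := le_card_gen_of_chkLow U4.ctxU (.cons d1 (.cons d2 (.cons d3 .nil))) (cert := certU2)
        (by decide +kernel)
      rw [show certOrder certU2 = 6531840 by decide +kernel] at this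
      have := card_NU_le
      rw [h3]
      omega)
  have h6 : (φ.comp (inclusion hK)).range = gen U4.psU := by
    have : K0.subgroupOf NU = gen [⟨_, a1⟩, ⟨_, b1⟩] := map_injective NU.subtype_injective (by
      rw [subgroupOf_map_subtype, inf_eq_left.mpr hK, map_gen]; rfl)
    rw [MonoidHom.range_comp, inclusion_range, this, map_gen, List.map_cons, List.map_cons,
      show φ ⟨_, a1⟩ = _ from Equiv.ext fun i => hO ((h4 _ i).symm.trans (a2 i)),
      show φ ⟨_, b1⟩ = _ from Equiv.ext fun i => hO ((h4 _ i).symm.trans (b2 i))]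
    rfl
  have h7 : (φ.comp (inclusion hK)).ker = (zpowers wV).subgroupOf K0 := by
    rw [← MonoidHom.comap_ker, h5]; rfl
  refine ⟨?_, hK, hw, (φ.comp (inclusion hK)).codRestrict _ fun x => h6 ▸ ⟨x, rfl⟩,
    fun ⟨u, hu⟩ => ?_, by rw [MonoidHom.ker_codRestrict, h7]⟩
  · rw [← (φ.comp (inclusion hK)).ker.card_mul_index, index_ker, h6, h7, U4.card_U,
      Nat.card_congr (subgroupOfEquivOfLe (zpowers_le.mpr hw)).toEquiv, Nat.card_zpowers, orderOf_wV]
  · obtain ⟨x, rfl⟩ := h6.ge hu
    exact ⟨x, rfl⟩

theorem card_K0 : Nat.card K0 = 9797760 := exists_phi0.1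

theorem wV_mem : wV ∈ K0 := exists_phi0.2.2.1

theorem K0_le : K0 ≤ GU0 := exists_phi0.2.1.trans inf_le_left

theorem smul_mem_S0 {g : GV} (hg : g ∈ K0) {v : V0} (hv : v ∈ S0) : g • v ∈ S0 :=
  mem_stab_S0.1 (exists_phi0.2.1 hg).2 v hv

theorem lowK0 : chkLow 13 378 certK ([Ra, Rb].map pc) = true := by decide +kernel

theorem chainK : (∀ j ≤ certK.length, Chain 13 378 pt (gen (gensAt certK gsK j))
    ((lvls 13 378 certK ([Ra, Rb].map pc)).drop j)) ∧ ∀ j (hj : j < certK.length),
      gen (gensAt certK gsK (j + 1)) =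
        gen (gensAt certK gsK j) ⊓ MulAction.stabilizer GV (pt certK[j].b) :=
  chkLow_all ctx densK lowK0 (by rw [show certOrder certK = 9797760 by decide +kernel]; exact card_K0.le)

theorem chainK0 : Chain 13 378 pt K0 (lvls 13 378 certK ([Ra, Rb].map pc)) := by
  have := chainK.1 0 (Nat.zero_le _)
  rwa [List.drop_zero] at this

/-- The matrices `Rs` describe elements of `K0`. -/
noncomputable def memK (Rs : List ℕ) : Bool :=
  withLv 13 378 certK ([Ra, Rb].map pc) fun mu P lvs =>
    PK.allL Rs fun R => okR R && force (pc R) (mem mu P lvs)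

theorem memK_spec {Rs : List ℕ} (h : memK Rs = true) {R : ℕ} (hR : R ∈ Rs) :
    okR R = true ∧ Rep R (el R) ∧ el R ∈ K0 := by
  rw [memK, withLv_eq, allL_iff] at h
  have := h R hR
  rw [Bool.and_eq_true, force_eq] at this
  exact ⟨this.1, (okR_spec this.1).1, (chainK0.mem_iff ctx (isMul_pmul ctx)
    (mkPar_ok _ _) (den_el this.1)).2 this.2⟩

/-! ### Orbits on vectors -/

/-- One pass of orbit enumeration. -/
noncomputable def sweep (Rs : List ℕ) (M : ℕ) : ℕ :=
  Nat.rec (motive := fun _ => ℕ → ℕ) (fun M => M) (fun c ih M => force (cond (bit M c)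
    (List.rec M (fun R _ r => Nat.lor r (Nat.shiftLeft 1 (ap R c))) Rs) M) ih) 4096 M

/-- Repeated passes. -/
noncomputable def sweeps (Rs : List ℕ) (k M : ℕ) : ℕ :=
  Nat.rec M (fun _ M => force M (sweep Rs)) k

theorem sweeps_spec {Rs : List ℕ} {P : ℕ → Prop} (hP : ∀ R ∈ Rs, ∀ c, P c → P (ap R c)) (k : ℕ)
    {c₀ : ℕ} (h0 : P c₀) : ∀ c, bit (sweeps Rs k (Nat.shiftLeft 1 c₀)) c = true → P c := by
  have h1 : ∀ M a, (∀ c, bit M c = true → P c) → P a → ∀ c, bit (Nat.lor M (Nat.shiftLeft 1 a)) c =
      true → P c := fun M a h ha c hc => by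
    rw [bit_eq] at hc
    change (M ||| 1 <<< a).testBit c = true at hc
    rw [Nat.testBit_or, Nat.one_shiftLeft, Nat.testBit_two_pow, Bool.or_eq_true, ← bit_eq] at hc
    exact hc.elim (h c) fun e => of_decide_eq_true e ▸ ha
  have h2 : ∀ n M, (∀ c, bit M c = true → P c) → ∀ c, bit (Nat.rec (motive := fun _ => ℕ → ℕ)
      (fun M => M) (fun c ih M => force (cond (bit M c) (List.rec M (fun R _ r => Nat.lor r
        (Nat.shiftLeft 1 (ap R c))) Rs) M) ih) n M) c = true → P c := fun n => by
    induction n with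
    | zero => exact fun _ h => h
    | succ n ih =>
      intro M hM c hc
      change bit (force _ _) c = true at hc
      rw [force_eq] at hc
      refine ih _ ?_ c hc
      cases e : bit M n
      · exact hM
      · rw [cond_true]
        clear ih hc
        induction Rs with
        | nil => exact hM
        | cons R Rs ih =>
          exact h1 _ _ (ih fun S hS => hP S (List.mem_cons_of_mem _ hS))
            (hP R List.mem_cons_self _ (hM n e))
  induction k with
  | zero => simpa [sweeps] using h1 0 c₀ (fun c hc => by simp [bit_eq] at hc) h0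
  | succ k ih =>
    intro c hc
    change bit (force _ _) c = true at hc
    rw [force_eq] at hc
    exact h2 4096 _ ih c hc

theorem trans_of_sweeps {Rs : List ℕ} {gs : List GV} (hR : Reps Rs gs) {k c₀ : ℕ} (h0 : c₀ < 4096)
    {f : ℕ → Bool} (h : force (sweeps Rs k (Nat.shiftLeft 1 c₀))
      (fun M => allN 4096 fun c => !f c || bit M c) = true) {c : ℕ} (hc : c < 4096)
    (hf : f c = true) : ∃ g ∈ gen gs, g • vec c₀ = vec c := by
  rw [force_eq, allN_iff] at h
  refine (sweeps_spec (P := fun c => c < 4096 ∧ ∃ g ∈ gen gs, g • vec c₀ = vec c) ?_ k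
    ⟨h0, 1, one_mem _, one_smul _ _⟩ c (by simpa [hf] using h c hc)).2
  rintro R hR' c ⟨h1, g, hg, e⟩
  obtain ⟨i, hi, rfl⟩ := List.getElem_of_mem hR'
  have hi' := hR.length_eq ▸ hi
  exact ⟨ap_lt _ _, _, mul_mem (subset_closure (List.getElem_mem hi')) hg, by
    rw [mul_smul, e]; exact (hR.get hi hi').smul h1⟩

/-- The 1701 singular vectors that are not short. -/
def S1 : Set V0 := {v | v ≠ 0 ∧ q0 v = 0 ∧ v ∉ S0}

theorem vec_mem_S1 {c : ℕ} (hc : c < 4096) :
    vec c ∈ S1 ↔ (!Nat.beq c 0 && Nat.beq (U6.ip c c) 0 && !bit MS c) = true := by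
  simp only [S1, Set.mem_ofPred_eq, q0_vec hc, vec_mem_S0 hc, Bool.and_eq_true, Bool.not_eq_true',
    Nat.beq_eq, and_assoc, Bool.not_eq_true, nbeq_false]
  exact and_congr_left' (not_congr ⟨fun h => vec_inj hc (by decide) (h.trans vec_zero.symm),
    fun h => h ▸ vec_zero⟩)

theorem trans_S0 {v : V0} (hv : v ∈ S0) : ∃ g ∈ K0, g • vec 5 = v :=
  vec_enc v ▸ trans_of_sweeps repsK (k := 7) (by decide) (f := bit MS) (by decide +kernel) (enc_lt v) hv

theorem trans_S1 {v : V0} (hv : v ∈ S1) : ∃ g ∈ K0, g • vec 85 = v :=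
  vec_enc v ▸ trans_of_sweeps repsK (k := 8) (by decide)
    (f := fun c => !Nat.beq c 0 && Nat.beq (U6.ip c c) 0 && !bit MS c) (by decide +kernel) (enc_lt v)
    ((vec_mem_S1 (enc_lt v)).1 (by rwa [vec_enc]))

theorem trans_N {v : V0} (hv : q0 v ≠ 0) : ∃ g ∈ K0, g • e 0 = v :=
  (show vec 1 = e 0 by decide) ▸ vec_enc v ▸ trans_of_sweeps repsK (k := 8) (c₀ := 1) (by decide)
    (f := fun c => !Nat.beq (U6.ip c c) 0) (by decide +kernel) (enc_lt v) (by
      rwa [Bool.not_eq_true', nbeq_false, Ne, ← q0_vec (enc_lt v), vec_enc])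

theorem q0_of_mem_S0 {v : V0} (hv : v ∈ S0) : v ≠ 0 ∧ q0 v = 0 := by
  obtain ⟨g, hg, rfl⟩ := trans_S0 hv
  exact ⟨by rw [Ne, smul_eq_zero_iff_eq]; decide, ((K0_le hg).1 _).trans (by decide)⟩

theorem ncard_S0 : S0.ncard ≤ 378 :=
  (ncard_le_cnt (f := bit MS) fun _ hc => (vec_mem_S0 hc).1).trans (by decide +kernel)

theorem ncard_S1 : 1701 ≤ S1.ncard :=
  le_trans (by decide +kernel) (cnt_le_ncard fun _ hc => (vec_mem_S1 hc).2)

theorem smul_mem_S0_of_norm {n : GV} (hn : n ∈ OV) (hN : n ∈ normalizer (K0 : Set GV)) {v : V0}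
    (hv : v ∈ S0) : n • v ∈ S0 := by
  obtain ⟨g, hg, rfl⟩ := trans_S0 hv
  by_cases h : n • vec 5 ∈ S0
  · simpa [mul_smul] using smul_mem_S0 ((mem_normalizer_iff.mp hN g).mp hg) h
  obtain ⟨k, hk, e⟩ := trans_S1 ⟨by rw [Ne, smul_eq_zero_iff_eq]; decide, (hn _).trans (by decide), h⟩
  have := Set.ncard_le_ncard_of_injOn (s := S1) (t := S0) (n⁻¹ • ·) (fun u hu => by
    obtain ⟨l, hl, rfl⟩ := trans_S1 hu
    have := smul_mem_S0 ((mem_normalizer_iff''.mp hN _).mp (mul_mem hl (inv_mem hk)))
      (v := vec 5) (by decide +kernel)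
    rwa [mul_smul, mul_smul, ← e, mul_smul, inv_smul_smul] at this) fun _ _ _ _ => smul_left_cancel _
  have := ncard_S0
  have := ncard_S1
  omega

/-! ### The monomial subgroup and the normaliser -/

/-- The diagonal element with two eigenspaces of dimension three. -/
def y0 : Fin 6 → ZMod 3 := ![0, 0, 0, 1, 1, 1]

def Re : ℕ := 0x7c0e80dc0b80f40ac003502f01d03b01703e

/-- A product of two reflections. -/
noncomputable def e0 : GV := el Re

theorem memK_nat : memK [0x800400200100080040002001020010008004, 0x8004800400200100080040020010002001,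
    0xc008003002000c0080020010008004002001, Re] = true := by decide +kernel

theorem e0_mem : e0 ∈ K0 := (memK_spec memK_nat (by simp)).2.2

theorem rep_e0 : Rep Re e0 := (memK_spec memK_nat (by simp)).2.1

/-- The roots of the two reflections. -/
def u0 (b : Bool) : V0 := cond b ![0, 0, 0, 1, 1, 1] ![1, 1, 1, 0, 0, 0]

theorem isR_e0 : IsR e0 (u0 false) (u0 true) := fun x =>
  DFunLike.congr_fun (rep_e0.2.unique (g := AddMonoidHom.mk' (fun x => x +
    (w ^ 2 * hm (u0 false) x) • u0 false + (w * hm (u0 true) x) • u0 true) fun u v => by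
      simp only [hm_add_right, mul_add, add_smul]; abel) (by unfold RepF; decide +kernel)) x

theorem alt_le {H : Subgroup (Perm (Fin 6))} (h1 : c[0, 1, 2] ∈ H) (h2 : c[1, 2, 3, 4, 5] ∈ H) :
    alternatingGroup (Fin 6) ≤ H := by
  have C := ctx_fin 5 6 (by decide) (by decide) (by decide)
  have := (chain_of_chkLow C (dens_of_actL C (ls := [[1, 2, 0, 3, 4, 5], [0, 2, 3, 4, 5, 1]])
    (gs := [c[0, 1, 2], c[1, 2, 3, 4, 5]]) (.cons (actL_iff_fin.2 (by decide))
      (.cons (actL_iff_fin.2 (by decide)) .nil))) (cert := [⟨0, [128, 64, 321, 257, 193], [[0, 0, 1, 1, 1, 0, 1, 0, 0], [1]]⟩, ⟨1, [192, 321, 256, 129], [[0, 0, 1, 0, 0], [1, 1, 0]]⟩, ⟨2, [256, 321, 192], [[1, 1, 0]]⟩, ⟨3, [320, 256], []⟩]) (by decide +kernel)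
    (H := alternatingGroup (Fin 6)) (by simp only [Perm.mem_alternatingGroup]; decide +kernel)
    (by rw [nat_card_alternatingGroup, Nat.card_eq_fintype_card]; decide +kernel)).1
  exact this ▸ (closure_le _).2 fun g hg => by rcases List.mem_pair.mp hg with rfl | rfl <;> assumption

theorem mem_of_sum (A : AddSubgroup (Fin 6 → ZMod 3)) (h : ∀ σ ∈ alternatingGroup (Fin 6), ∀ a ∈ A,
    (fun i => a (σ⁻¹ i)) ∈ A) (hy : y0 ∈ A) {a : Fin 6 → ZMod 3} (ha : ∑ i, a i = 0) : a ∈ A := by
  have k := fun i j k l (h1 : i ≠ j) (h2 : k ≠ l) => h (swap i j * swap k l)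
    (by simp [Perm.mem_alternatingGroup, h1, h2]) _ hy
  rw [(by decide +kernel : ∀ a : Fin 6 → ZMod 3, ∑ i, a i = 0 → a =
    (a 0 + a 4 - a 5).val • (fun i => y0 ((swap 0 3 * swap 4 5 : Perm _)⁻¹ i)) +
    (a 1).val • (fun i => y0 ((swap 1 3 * swap 4 5 : Perm _)⁻¹ i)) +
    (a 2).val • (fun i => y0 ((swap 2 3 * swap 4 5 : Perm _)⁻¹ i)) + (a 3 + a 4 - a 5).val • y0 +
    (a 5 - a 4).val • fun i => y0 ((swap 0 4 * swap 1 2 : Perm _)⁻¹ i)) a ha]
  exact add_mem (add_mem (add_mem (add_mem (nsmul_mem (k _ _ _ _ (by decide) (by decide)) _)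
    (nsmul_mem (k _ _ _ _ (by decide) (by decide)) _)) (nsmul_mem (k _ _ _ _ (by decide) (by decide)) _))
    (nsmul_mem hy _)) (nsmul_mem (k _ _ _ _ (by decide) (by decide)) _)

/-- The exponent vectors of the diagonal elements of a subgroup. -/
noncomputable def dgs (H : Subgroup GV) : AddSubgroup (Fin 6 → ZMod 3) where
  carrier := {a | mono a 1 ∈ H}
  zero_mem' := show mono 0 1 ∈ H from mono_one ▸ one_mem H
  add_mem' := fun ha hb => by have := H.mul_mem ha hb; rwa [mono_mul] at this
  neg_mem' := fun ha => by have := H.inv_mem ha; rwa [mono_inv] at this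

/-- Permutation matrices. -/
noncomputable def pm : Perm (Fin 6) →* GV :=
  MonoidHom.mk' (mono 0) fun σ τ => by rw [mono_mul]; rfl

theorem diag_mul (a : Fin 6 → ZMod 3) (σ : Perm (Fin 6)) : mono a 1 * mono 0 σ = mono a σ := by
  rw [mono_mul, one_mul]; exact congrArg (mono · σ) (add_zero a)

theorem mono_mem_K0 {a : Fin 6 → ZMod 3} {σ : Perm (Fin 6)} (ha : ∑ i, a i = 0)
    (hσ : σ ∈ alternatingGroup (Fin 6)) : mono a σ ∈ K0 := by
  have k : ∀ {R a σ}, Rep R (mono a σ) → el R ∈ K0 → mono a σ ∈ K0 := fun h1 h2 => h1.el_eq ▸ h2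
  have h : alternatingGroup (Fin 6) ≤ K0.comap pm := alt_le
    (k (rep_of_dec (by decide +kernel)) (memK_spec memK_nat List.mem_cons_self).2.2)
    (k (rep_of_dec (by decide +kernel)) (memK_spec memK_nat (.tail _ List.mem_cons_self)).2.2)
  have := K0.mul_mem (mem_of_sum (dgs K0) (fun τ hτ b hb => show mono _ 1 ∈ K0 from
    mono_conj 0 b τ ▸ mul_mem (mul_mem (h hτ) hb) (inv_mem (h hτ))) (k (rep_of_dec (by decide +kernel))
      (memK_spec memK_nat (.tail _ (.tail _ List.mem_cons_self))).2.2) ha) (h hσ)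
  change mono a 1 * mono 0 σ ∈ K0 at this
  rwa [diag_mul] at this

theorem K0_le_of {H : Subgroup GV} (h : ∀ a σ, ∑ i, a i = 0 → σ ∈ alternatingGroup (Fin 6) →
    mono a σ ∈ H) (he : e0 ∈ H) : K0 ≤ H := by
  have r : Reps [0x800400200100080040002001020010008004, 0x8004800400200100080040020010002001,
      0xc008003002000c0080020010008004002001, Re] [mono 0 c[0, 1, 2], mono 0 c[1, 2, 3, 4, 5],
      mono y0 1, e0] := .cons (rep_of_dec (by decide +kernel)) (.cons (rep_of_dec (by decide +kernel))
    (.cons (rep_of_dec (by decide +kernel)) (.cons rep_e0 .nil)))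
  have hle : gen [mono 0 c[0, 1, 2], mono 0 c[1, 2, 3, 4, 5], mono y0 1, e0] ≤ H :=
    (closure_le _).2 fun g hg => by
      simp only [List.mem_cons, List.not_mem_nil, or_false, Set.mem_ofPred_eq] at hg
      rcases hg with rfl | rfl | rfl | rfl
      exacts [h _ _ (by decide) (Perm.mem_alternatingGroup.2 (by decide +kernel)),
        h _ _ (by decide) (Perm.mem_alternatingGroup.2 (by decide +kernel)),
        h _ _ (by decide) (one_mem _), he]
  refine (closure_le _).2 fun g hg => hle ?_
  rcases List.mem_pair.mp hg with rfl | rfl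
  · exact ((r.evalW [0, 3, 3, 1, 0, 1, 1, 1, 3, 3, 1, 2, 1, 1]).eq_iff
      (List.forall₂_cons.1 repsK).1).2 (by decide +kernel) ▸ evalG_mem _ _
  · exact ((r.evalW [0, 0, 3, 1, 2, 2, 1, 3, 1, 2, 1, 1, 2, 1, 2]).eq_iff
      (List.forall₂_cons.1 (List.forall₂_cons.1 repsK).2).1).2 (by decide +kernel) ▸ evalG_mem _ _

theorem tau_not_mem : tau ∉ K0 := fun h => absurd ((chainK0.mem_iff ctx (isMul_pmul ctx)
  (mkPar_ok _ _) (rep_tau.el_eq ▸ den_el (by decide +kernel))).1 h) (by
    rw [← withLv_eq 13 378 certK _ fun mu P lvs => mem mu P lvs (pc Rt)]; decide +kernel)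

theorem mem_or_of_NU {g : GV} (hg : g ∈ NU) : g ∈ K0 ∨ g * tau ∈ K0 := by
  obtain ⟨k, hk, e⟩ := trans_N (v := g • e 0) ((hg.1.1 _).trans_ne (by decide))
  obtain ⟨a, σ, h1, -, -, h2⟩ := mono_of_fix (mul_mem (inv_mem (exists_phi0.2.1 hk)) hg)
    (by rw [mul_smul, ← e, inv_smul_smul])
  rw [← mul_mem_cancel_left (inv_mem hk), ← mul_mem_cancel_left (y := g * tau) (inv_mem hk),
    ← mul_assoc, h2, tau, mono_mul]
  rcases Int.units_eq_one_or (Perm.sign σ) with h | h
  · exact Or.inl (mono_mem_K0 h1 h)
  · exact Or.inr (mono_mem_K0 (by simpa using h1) (by simp [Perm.mem_alternatingGroup, h]))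

end Cfsg.Lib.SporChar.Fi
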