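/-
Fusion of the involution whose centraliser is a perfect double cover of `M(22)`.
-/
import Cfsg.Agent.SporChar.FiT23J

set_option autoImplicit false
set_option Elab.async false

namespace Cfsg.Lib.Spor.FT

open TQ U6 Equiv

variable {G H K Y : Type*} [Group G] [Group H] [Group K] [TQ Y]

/-- the tables of the root elements -/
def LT3 (j : ℕ) : ℕ := fld 0x40020010008014f2af61b0010040020084002001000804d77b100161b0040020104002007860020400204d72af00408000140020000278604002057214f00410000140020033c0f904002000801000461b00140020014f2af04002061b0020040080014002000801003da7b10100087860020014002007860044d72af0100080800020014002005720f902004001000866500200140020033c2af665004010008020002001 132 j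

theorem chk_LT3 : allN 10 (fun j => allN 9 (fun i => anyN 21 fun i' => Nat.beq (wac (rt j) (wc i)) (wc i') &&
    Nat.beq (fld (LT3 j) 12 i) (fld CT3 12 i')) && Nat.beq (fld (LT3 j) 12 9) 512 &&
      Nat.beq (fld (LT3 j) 12 10) 1024 && Nat.beq (lin (LT3 j) 12 11 512) 512) = true := by decide +kernel

theorem Pl3.conj_el {d e : G} {a : T6 → G} (h : Pl3 d e a) {j : ℕ} (hj : j < 10) (m : ℕ) :
    aw a (rt j) * el (g3 9 d e a) 11 m * (aw a (rt j))⁻¹ = el (g3 9 d e a) 11 (lin (LT3 j) 12 11 m) := by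
  have h2 := allN_iff.1 chk_LT3 j hj
  simp only [Bool.and_eq_true, Nat.beq_eq, allN_iff, anyN_iff] at h2
  refine FT.conj_el _ h.c11 (fun i hi => ?_) m
  obtain h4 | rfl | rfl : i < 9 ∨ i = 9 ∨ i = 10 := by omega
  · obtain ⟨i', hi', e1, e2⟩ := h2.1.1.1 i h4
    rw [g3, if_pos h4.le, gk, if_pos h4, wpt, aw_conj h.rep (chkT_spec (chkT_LT hj)).1 (wc_spec (by omega)).1, e1,
      e2, ← h.cd i' hi']
    rfl
  · rw [h2.1.1.2]; exact (mul_inv_eq_iff_eq_mul.2 (h.toPl0.cen_aw _).symm.eq).trans (el3_e 9 d e a).symm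
  · rw [h2.1.2]; exact (mul_inv_eq_iff_eq_mul.2 (h.cen_aw _).symm.eq).trans (el3_d 9 d e a).symm

/-- forest for `L₃(4)` -/
def F13 : ℕ := 0xc33c46c49a38c45949b45c59949c50c49c47c57a46849c47c47a44a37632847c46c57a50c56c58c48a49b49c49c48951c54952847c41932539c47944a47c48c49b49c41949c59c46b49c49c48a57c40938c36c43c47848953c54c47c42a42c56a48c46c39938c30c47839c33c58b41848c40854c23437832947c49c54a48c53b46c38c46c37849b38c54c28c42841c35c46c38b46c58c49952c49a46c33838c52c28b55c38854c30c23839c47c29a46c39952c44822442c13854c27862c48b54847c32c43948c47a39c57c47c41a46b48c46a21626c48a36b38c44c49a47c47c54944c40c41947838c26c40a31c38c52b48c41c40c35c59939a45c45c57c41c32834c48a49937c34726b26b47c49b41c51c42849b57c48c58c48841c34c44b39c59944926536b49c41c49943c47c58c47935c54a56847c33c56c44c47938c36844a37c54a44c59c48c41957c45c38b44c39a47c48951839c33c40c57946c38a47c54c45c41c40b48b37c39847c45c45c52c47b49c22850c41b54c58b50b36731c46840b44c54b46c44737b47a51c49c48936c42c35b4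2c40947c48c49a41c43c35b36c52c58b43850c27c25849c42c39a49c40c41c42c58938b38c45627a37a37c46a47c54c46846c57c40c36949c44a48836c36a41c49c42c42940c59c59b30938c53c57c42c44a48b39c41c46c42c47a34c59947847c33527927934c49947c56c43849930c52c48c56a46c59c38b39c39b55c21853839c22c39c58a57c38946c31c32c46c53b48947c39a56c31c38c57c56b49c26851c49b54c58b51b37737c49b46c31c37c59c47b37837c21c52838c35936a26c48c47c21c30849c24a47932c49c48848c11438832c48c49843b33c52c48942a32854c35c48c47a27937c58c46c43c47c59b48b26836c40c56c42c36c46b39c52c50842b43c51b46b42732c49c49a36936849c25c30c57b46842c52c56c34c47c57b46927a37c49c59c30c36c57b39c58c58842b32c47b47b32732844c15c29c47424815829b34c24c47c57b47824b39b25718c28c41c57b41828b15b18719c50b50b42741b29724700300c58c38c34838c44b49939c38b42c46c43c39c37846a49c46c23844837432a47c44c37850c43c29c24849948c38c59b49c49b49a47c40b32739c58b47847c36c47954c47b49c35c40946c54c36857c51b38c34c52c48a48b44c49c49c40842c25848c36c62b38c48c33a39c56c41941a48c59a5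4c48637a32b48c52c41848c59944c47c42c49a49956c49c36c57a41c55c52c47944c46c41b40c46846c59a38c43c40957c59a54c59c46a39c43c52846c31b36c55a22642c58a54c49a62c54951a47c39c54b45c32839c40c39c31846947c36821426c33836946c42c33847c48c38b37c47c58b48a38c39c48831c50c28948c49c45c42c44b31845c36c37c49c59a34c30849b30c44526926934c49943c43c55a49940c58c56c57a41c48c44939c59b47b31736941c59c40b41c38c52c50b55c31856a47c56c34c47c37b38c44a44837c32844c35c39c56b49c48c49942c32847c39b44a39c47c58c47b44c39847c32c56c59c47928946c38a47c41c47c58c57929c49a50c48951c47941916531c45a40943c48943c53537927851c30c57b44c57c36939c46b36c51c36841c42c42931c46c45953a50c39c56a49c40c47849c34c31c32c49b38941c56427837837c32847c37c37a46c39c48c59b46c37848a36c41841c35c38c56b41c49c59938b48c43c46c34c33848949c44c59c39c32834c48b35a47c34727b27b52c49b49c48c44a49b46c41c42c45846c36c46939c41946c38a53a39c53c58c46857c31b47c49c57c45c56928b44c44856c30c46c58c56929c48a51c49950c46944917537c58949c56c42c48c46933a37c37c26a3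8c59b32826c52c46c47c41a49c42847b37c57c44a48c47638a32c59c38a43942c47c54b22832a54c56c41c42827b23c37c49c27c36c47948926a36c47c48c47c37c46939c48c52a42932c55944942532c54c45836b33a49c55c36c52937a42c49c47c31c46c57945b27837c46c41c55c37c47939c49c41a42932c56944932532a44c57c46c52624a15a29928c47c46c49938a24918925518c47c47c48939a28919914519c57944922541900524500100c35c42c57b40c37849a39c52849c35c39c36c44b49949c40c49b58b37732947c40c56b59c48c37c55b43a48c46c36851c37852947c44832439c33844b49c49c45a54c34849c33c30a46c38c45b39c35838c52c31c54948853c36c46c49b51c56b38c48c36838c43c52939c38c58a41948c49954c51537932847c36c47b28c47a44c52c43c39949a56c59c49c41941c56c47c52a44c58c46852c48b55c41938c46c47a57c59954c55c40939c58c46b44c58852c31922542c58954c54962c49a51947c52c30848c47b59c38c42c59b40a47c50b36726c57b53a46c49c44b35c38c42844c33c43847938c47c59b43c44c37a48c39c52c40c32839b39c49c62c41c37934c47b39837c33626a26a34c57a43c48c44949a40c57c57c49941c44c58a39c33844826436a41c44c26843c4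1c39c33835c41b48947c35c37c38c44838c45944b45c38b53c59c46c48857c35c59a42c31b44c20851939c58c47c52846c21b44c30c41c57c57a28a46c49947c30c57c47c52a29c38950c49a51c59a41a16631c50940a43c49a43c58637a27b44c46c33836c46c51a39c36847c30c54b43c47c32a31c50c49a53950c48c40949c57c36b49c38c42c35c36838a41c54727b37b46c56b31c49c47946c54c49c35849c49b28936c49b40c54c59c44840c43c56a38838c34c30c46c38b45a49c44c39c53c50b46c31847947c44427827834c22847c27c34949830c24c29c42b39c48c44a39c30a46c49953939c58c46c57b44c49846c44c42c51c46a28847c20b34c53c47c46c41a29c39951c41a50c59a44a17637c47a49c54c53c45c48a33937c36c30938c46836b42c56c54c47c37949c50b27832c46c47948c57538932c40c49943a42c54c47842b32954c49c47c46b33837c49c40c30c37c47a48a26936c48c47c31c47c58a39c52c50942a32c51a44a42632c47c43b23836949c51c53c36a37942c47c49c40c37c57a45827b17c37c48c27c42c47a39c39c56942a32c49a44a32632944c56c52c46524915929a28c36c41c56a38924a18a25618c37c47c56a39928a19a14619c50a44a22641a00624600200c46c43c39938c55a4983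9c37a49c53c47c52c48946b35c59c56944937532b39c59c48950c48c46c56949848c37c58a51c48a52b44c59a32639c59a44947c54c37854c50a49c46c51846c37c44957c46a38c47c41c49b34a53c48c52c57942c48948c49c59a38c47c38b49c48c46841b48c56b56c53737b47a47c44c41948c33844c46c38c46b31856c41c58c44b46c49c39c46844c23c40a52c44946c50b57c33c52857c30b47c38c58b45c38c47946c52a52c39b42742c59b54c48b41c26851b48c58c40a48c57939c43c52c57946847c42921526c47936846c36c40947c46c47a44c51c49a47b45c54c49931c48c49848c43c30c47c48a39945c44c38c52c47b40c59949a37c48426826834c43843c26c34b29840c34c39c39b49c59c36839c57a44a26636841c42c54a43c47c43c54a35c45956b49c48c54c42c41a38c48b39937c49944c41c37c52a57c54c26842c40947c49a51b41c53c56c41a46c55947c28c47c31c46828846c31b34c29c46c39c33829c49b54c16851c23841816431c49b44843c27843c22437827951c45c35a36c31c42839c32a47c40c35941c38c46831c35c36853b34c56c48b43c48c48949c48c42c46c40a38841c37527937937c48947c56c59b38c36c57c46a49c54948b35c49941c59c42c32a40c48c37838a38c46c49c57c5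1948849c31c42c43c41934c44a47b31c48627a27a34c59a47c59c58b29a30c58c36c32946c49c27839c31846c49b45b56c46c59c38957c39a46c28c46c28c32828a47c38956c29c57c29c22829c49b44c17850c12844817437c25849c37c31c47c49833b36c53c34b47c46a36926c49c58c36c31b37c56947a32c48c49b47c49738b43c57c59b43842c48c52a42932b47c57c40c48927a37c46c48c41c31c45848826b16c46c39c26c31c34839c49c42b33832c21844842432c49c58936a36b47c46c57c30837b36c47c45c37c20c35845a27937c59c39c31c20c24839c48c42b22832c10844832432b53c56c47c28724b35b28828c47c18c25838b37818825418c46c19c14839b00819814419c00844822441800424400000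

/-- types and representatives -/
def ty3 (m : ℕ) : ℕ := fld 0x6665454323210 4 (fL F13 m)
def rp3 (j : ℕ) : ℕ := fld 0x203601201600200400000 12 j
def rl3 (j : ℕ) : ℕ := fld 0x700b203403003601201401001600200400000 12 j

theorem chk_F13 : chkF 2048 10 (fun j => lin (LT3 j) 12 11) (fG F13) (fR F13) (fL F13) rl3 = true := by
  decide +kernel

theorem chk_ty3 : (allN 2048 (fun m => Nat.blt (fL F13 m) 13 &&
    (!(Nat.beq (ty3 m) 2) || anyN 22 fun i => Nat.beq m (fld CT3 12 i))) &&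
    allN 22 fun i => Nat.blt (fld CT3 12 i) 2048 && Nat.beq (ty3 (fld CT3 12 i)) 2) = true := by decide +kernel

theorem ty3_spec : (∀ m < 2 ^ 11, fL F13 m < 13 ∧ (ty3 m = 2 → ∃ i < 22, m = fld CT3 12 i)) ∧
    ∀ i < 22, fld CT3 12 i < 2 ^ 11 ∧ ty3 (fld CT3 12 i) = 2 := by
  have := chk_ty3
  simp only [Bool.and_eq_true, allN_iff, anyN_iff, Bool.or_eq_true, Nat.beq_eq, Bool.not_eq_true',
    ← Bool.not_eq_true, Nat.blt_eq] at this
  exact ⟨fun m hm => ⟨(this.1 m hm).1, fun h => (this.1 m hm).2.resolve_left (not_not.2 h)⟩, this.2⟩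

theorem fusC3 : FusC 11 1024 512 21 ty3 rp3 (fL F13) :=
  ⟨by decide +kernel, by decide +kernel, by decide +kernel, by decide +kernel⟩

theorem chkR3 : chkR 11 1024 ty3 rp3 [2, 6, 10, 30, 126] = true := by decide +kernel

/-- the points in the elementary abelian group -/
def p3 (x0 : Y) (φ : Emb T6 Y) (i : ℕ) : Y := if i < 21 then φ.f (wpt i) else x0

/-- the normalised structure -/
structure N23 (e : K) (ι : K →* Perm Y) (x0 : Y) (ρ : K →* Perm T6) (a : T6 → K) (φ : Emb T6 Y) (d : H)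
    (π : H →* Perm Y) (b : Y → H) : Prop where
  m : M22 e ι x0 ρ a φ
  c : Cov d π b
  pl : Pl3 d (b x0) fun y => b (φ.f y)

namespace N23

variable {e : K} {ι : K →* Perm Y} {x0 : Y} {ρ : K →* Perm T6} {a : T6 → K} {φ : Emb T6 Y} {d : H}
  {π : H →* Perm Y} {b : Y → H} (N : N23 e ι x0 ρ a φ d π b)
include N

theorem cd {i : ℕ} (hi : i < 22) : b (p3 x0 φ i) = el (g3 9 d (b x0) fun y => b (φ.f y)) 11 (fld CT3 12 i) := by
  rcases Nat.lt_succ_iff_lt_or_eq.1 hi with h | rfl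
  exacts [(congrArg b (if_pos h)).trans (N.pl.cd i h), (el3_e 9 _ _ _).symm]

theorem nrm (n : H) {m : ℕ} (hm : m < 2 ^ 11) (h1 : ty3 m = 2)
    (h2 : n * el (g3 9 d (b x0) fun y => b (φ.f y)) 11 m * n⁻¹ ∈ N.pl.c11.sub) : ∃ m' < 2 ^ 11, ty3 m' = 2 ∧
      n * el (g3 9 d (b x0) fun y => b (φ.f y)) 11 m * n⁻¹ = el (g3 9 d (b x0) fun y => b (φ.f y)) 11 m' := by
  obtain ⟨i, hi, rfl⟩ := (ty3_spec.1 m hm).2 h1
  rw [← N.cd hi, N.c.eqv] at h2 ⊢
  have h3 : ∀ j < 22, π n (p3 x0 φ i) ⫫ p3 x0 φ j := fun j hj =>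
    N.c.commute_iff.1 (N.pl.c11.sub_comm h2 (N.cd hj ▸ N.pl.c11.el_mem_sub _))
  obtain ⟨j, hj, e⟩ : ∃ j < 22, π n (p3 x0 φ i) = p3 x0 φ j := by
    by_cases e : π n (p3 x0 φ i) = x0
    · exact ⟨21, by decide, e⟩
    obtain ⟨t, ht⟩ := N.m.ex ⟨e, (h3 21 (by decide)).symm⟩
    obtain ⟨j, hj, rfl⟩ := inW_iff'.1 (inW_of_com (y := t) fun j hj => φ.com_iff.1 (by
      have := h3 j (by omega)
      rwa [← ht, p3, if_pos hj] at this))
    exact ⟨j, by omega, ht.symm.trans (if_pos hj).symm⟩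
  exact ⟨_, (ty3_spec.2 j hj).1, (ty3_spec.2 j hj).2, e ▸ N.cd hj⟩

attribute [local irreducible] el in
theorem hty {j : ℕ} (hj : j < 13) : ∃ h, h * el (g3 9 d (b x0) fun y => b (φ.f y)) 11 (rl3 j) * h⁻¹ =
    el (g3 9 d (b x0) fun y => b (φ.f y)) 11 (rp3 (fld 0x6665454323210 4 j)) := by
  let R := fun (h : H) m m' => h * el (g3 9 d (b x0) fun y => b (φ.f y)) 11 m * h⁻¹ =
    el (g3 9 d (b x0) fun y => b (φ.f y)) 11 m'
  have x : ∀ {h m m' n n'}, R h m m' → R h n n' → R h (m ^^^ n) (m' ^^^ n') := fun h1 h2 => by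
    simp only [R, N.pl.c11.el_xor, ← conj_mul] at *
    rw [h1, h2]
  have c : ∀ {h m m' n n'}, R h m m' → m = n → m' = n' → ∃ h, R h n n' := fun h1 h2 h3 => ⟨_, h2 ▸ h3 ▸ h1⟩
  have key : ∀ i < 9, dp 5 (wc i) = true → dp 80 (wc i) = true → ∃ h, R h (2 ^ 0) (2 ^ 9) ∧ R h (2 ^ 1) (2 ^ 0) ∧
      R h (2 ^ i) (2 ^ 1) ∧ R h (2 ^ 10) (2 ^ 10) := fun i hi h1 h2 => by
    obtain ⟨k, hk, e1, e2, e3⟩ := N.m.tri (u := φ.f (wpt 0)) (v := φ.f (wpt 1)) (w := φ.f (wpt i))
      (φ.mem_dperp.2 (dp_iff.1 (by decide +kernel))) (φ.mem_dperp.2 (dp_iff.1 (by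
        rwa [val_wpt (by omega), val_wpt (by omega)]))) (φ.mem_dperp.2 (dp_iff.1 (by
        rwa [val_wpt (by omega), val_wpt (by omega)])))
    obtain ⟨h, rfl⟩ := N.c.sur k hk
    simp only [R, el3_e 9, el3_d 9, el3_a (k := 9) _ _ _ hi, el3_a (k := 9) (i := 0) _ _ _ (by decide),
      el3_a (k := 9) (i := 1) _ _ _ (by decide)]
    exact ⟨h, by rw [N.c.eqv, e1], by rw [N.c.eqv, e2]; rfl, by rw [N.c.eqv, e3]; rfl, N.c.conj_d h⟩
  obtain ⟨h, a1, a2, a3, a4⟩ := key 3 (by decide) (by decide +kernel) (by decide +kernel)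
  obtain ⟨h', b1, b2, b3, -⟩ := key 2 (by decide) (by decide +kernel) (by decide +kernel)
  have r : ∀ m, R 1 m m := fun m => by simp [R]
  interval_cases j
  exacts [c (r 0) (by decide +kernel) (by decide +kernel), c (r 1024) (by decide +kernel) (by decide +kernel),
    c (r 512) (by decide +kernel) (by decide +kernel), c (r 1536) (by decide +kernel) (by decide +kernel),
    c a1 (by decide +kernel) (by decide +kernel), c (x a1 a4) (by decide +kernel) (by decide +kernel),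
    c (r 513) (by decide +kernel) (by decide +kernel), c (r 1537) (by decide +kernel) (by decide +kernel),
    c (x a1 a2) (by decide +kernel) (by decide +kernel), c (x (x a1 a2) a4) (by decide +kernel) (by decide +kernel),
    c (r 515) (by decide +kernel) (by decide +kernel), c (x (x a1 a2) a3) (by decide +kernel) (by decide +kernel),
    c (x (x b1 b2) b3) (by decide +kernel) (by decide +kernel)]

end N23

section

variable [Finite G] {e : K} {ι : K →* Perm Y} {x0 : Y} {ρ : K →* Perm T6} {a : T6 → K} {φ : Emb T6 Y} {d : G}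
  {π : Subgroup.centralizer ({d} : Set G) →* Perm Y} {b : Y → Subgroup.centralizer ({d} : Set G)}

theorem N23.fus (N : N23 e ι x0 ρ a φ (dC d) π b) :
    Fus (N.pl.c11.map (Subgroup.centralizer ({d} : Set G)).subtype) 1024 512 21 ty3 rp3 (fL F13) rl3 := by
  have h := forest_conj (K := Subgroup.normalizer (N.pl.c11.sub : Set (Subgroup.centralizer ({d} : Set G))) ⊓
    Subgroup.centralizer {el (g3 9 (dC d) (b x0) fun y => b (φ.f y)) 11 512}) chk_F13
    (r := fun j => aw (fun y => b (φ.f y)) (rt j)) fun j hj => ⟨⟨N.pl.c11.mem_normalizer (N.pl.conj_el hj),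
      Subgroup.mem_centralizer_singleton_iff.2 (mul_inv_eq_iff_eq_mul.1 ((N.pl.conj_el hj 512).trans (congrArg _
        (Nat.eq_of_beq_eq_true (Bool.and_eq_true _ _ ▸ allN_iff.1 chk_LT3 j hj).2))))⟩, N.pl.conj_el hj⟩
  refine Fus.of_cent N.pl.c11 (el3_d 9 _ _ _) (N.m.ind N.c) (fun S hS => N.m.ju N.c hS) (fun n m => N.nrm n)
    (fun m hm => ?_) h fusC3
  obtain ⟨u, -, e1⟩ := h m hm
  obtain ⟨v, e2⟩ := N.hty (ty3_spec.1 m hm).1
  exact ⟨v * u, by rw [ty3, ← e2, ← e1]; group⟩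

theorem N23.delta0 (N : N23 e ι x0 ρ a φ (dC d) π b)
    (hn : ∃ g : G, g * d * g⁻¹ ∈ Subgroup.centralizer ({d} : Set G) ∧ g * d * g⁻¹ ≠ d) : ∃ s, (s = 6 ∨ s = 10) ∧
      ∀ m < 2 ^ 11, IsConj d (el (g3 9 (dC d) (b x0) fun y => b (φ.f y)) 11 m).1 ↔ tb s (ty3 m) = true := by
  have e := fun m => map_el' (Subgroup.centralizer ({d} : Set G)).subtype (g3 9 (dC d) (b x0) fun y => b (φ.f y)) 11 m
  have ed := (e 1024).symm.trans (congrArg Subtype.val (el3_d 9 _ _ _))
  have := N.m.fin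
  have h1 := N.fus.kill23' (L := [1, 2, 4, 8, 16, 32, 64, 128, 249, 256, 335, 687, 828, 986, 1239, 1394, 1516, 1563,
    1637, 1926, 1969]) (by decide +kernel) (by decide +kernel) (q1 := 1) (q2 := 2) (q3 := 8) (q4 := 16) (q5 := 1563)
    (by decide +kernel) (by decide) (by decide) (by decide) (by decide) (by decide) (fun q h1 h2 h3 => by
      obtain ⟨i, hi, rfl⟩ := (ty3_spec.1 q h1).2 h2
      obtain ⟨t, -, t2, t3⟩ := N.c.exists_swap N.m.t22.prim (x := x0) (y := p3 x0 φ i) (by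
        unfold p3; split_ifs
        exacts [(N.m.dp _).2, com_refl _])
      rw [ed, ← e, ← e, ← N.cd hi, show el _ 11 512 = _ from el3_e 9 _ _ _]
      exact ⟨t, Subgroup.mem_centralizer_singleton_iff.1 t.2, congrArg Subtype.val (t2 ▸ N.c.eqv t x0),
        congrArg Subtype.val ((N.c.eqv t _).trans (congrArg b t3))⟩)
  obtain ⟨s, h2, h3, h4⟩ := N.fus.delta chkR3 (by
    obtain ⟨g, h1, h2⟩ := hn
    obtain ⟨u, m, hm, h3⟩ := N.m.invol N.c (x := ⟨_, h1⟩) (by
      rw [← map_mul, ← map_one π]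
      exact congrArg π (Subtype.ext (by
        rw [Subgroup.coe_mul, conj_mul, show d * d = 1 from congrArg Subtype.val N.c.d2]; simp)))
    refine ⟨m, hm, ?_, ?_⟩
    · rintro rfl
      rw [show el _ 11 1024 = _ from el3_d 9 _ _ _, eq_mul_inv_iff_mul_eq, ← (N.c.cen u).eq, mul_right_inj] at h3
      exact h2 (congrArg Subtype.val h3).symm
    · rw [ed, ← e, h3]
      exact isConj_iff.2 ⟨u * g, by simp [mul_assoc]⟩)
  rw [h4 _ (by decide), h4 _ (by decide), N.fus.ty_t, N.fus.c2.2.2.1] at h1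
  refine ⟨s, ?_, fun m hm => by rw [← h4 m hm, ed, ← e]; rfl⟩
  simp only [List.mem_cons, List.not_mem_nil, or_false] at h2
  rcases h2 with rfl | rfl | rfl | rfl | rfl
  exacts [absurd rfl h3, Or.inl rfl, Or.inr rfl, absurd (by decide) (h1 (by decide)),
    absurd (by decide) (h1 (by decide))]

theorem M22.exists_n23 (M : M22 e ι x0 ρ a φ) (P : Pre (dC d) π)
    (hn : ∃ g : G, g * d * g⁻¹ ∈ Subgroup.centralizer ({d} : Set G) ∧ g * d * g⁻¹ ≠ d) : ∃ ρ a φ b,
      N23 e ι x0 ρ a φ (dC d) π b ∧ ∀ m < 2 ^ 11, IsConj d (el (g3 9 (dC d) (b x0) fun y => b (φ.f y)) 11 m).1 ↔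
        ty3 m = 1 ∨ ty3 m = 2 := by
  have key : ∀ b, Cov (dC d) π b → (∃ ρ a φ b, N23 e ι x0 ρ a φ (dC d) π b ∧ ∀ m < 2 ^ 11,
      IsConj d (el (g3 9 (dC d) (b x0) fun y => b (φ.f y)) 11 m).1 ↔ ty3 m = 1 ∨ ty3 m = 2) ∨
      ¬ IsConj d (b x0).1 ∧ IsConj d (b x0 * dC d).1 := fun b C => by
    obtain ⟨ρ, a, φ, M', h⟩ := M.exists_pl3 C
    have N : N23 e ι x0 ρ a φ (dC d) π b := ⟨M', C, h⟩
    obtain ⟨s, rfl | rfl, h1⟩ := N.delta0 hn
    · refine Or.inl ⟨ρ, a, φ, b, N, fun m hm => (h1 m hm).trans ?_⟩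
      have := (N.fus.t1 hm).2.2.2.1
      generalize ty3 m = j at this
      interval_cases j <;> decide
    · have h2 := h1 _ N.fus.c2.2.1
      have h3 := h1 _ N.fus.lt_t
      rw [N.fus.ty_t, h.c11.el_xor, show el _ 11 1024 = _ from el3_d 9 _ _ _] at h3
      rw [N.fus.c2.2.2.1] at h2
      rw [show el _ 11 512 = _ from el3_e 9 _ _ _] at h2 h3
      exact Or.inr ⟨fun h => absurd (h2.1 h) (by decide), h3.2 (by decide)⟩
  obtain ⟨b, C⟩ := M.exists_cov P
  exact (key b C).elim id fun h => (key _ C.mul_d).resolve_right fun h' => h'.1 h.2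

theorem N23.conj_iff (N : N23 e ι x0 ρ a φ (dC d) π b) (hΔ : ∀ m < 2 ^ 11,
    IsConj d (el (g3 9 (dC d) (b x0) fun y => b (φ.f y)) 11 m).1 ↔ ty3 m = 1 ∨ ty3 m = 2)
    (x : Subgroup.centralizer ({d} : Set G)) : IsConj d (x : G) ↔ x = dC d ∨ ∃ y, x = b y := by
  have hc : ∀ u x : Subgroup.centralizer ({d} : Set G), IsConj (x : G) (u * x * u⁻¹ : Subgroup.centralizer _) :=
    fun u x => isConj_iff.2 ⟨u, rfl⟩
  constructor
  · intro h1
    obtain ⟨g, h2⟩ := isConj_iff.1 h1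
    obtain ⟨u, m, hm, h3⟩ := N.m.invol N.c (x := x) (by
      rw [← map_mul, ← map_one π]
      exact congrArg π (Subtype.ext (by
        rw [Subgroup.coe_mul, ← h2, conj_mul, show d * d = 1 from congrArg Subtype.val N.c.d2]; simp)))
    have h4 : x = u⁻¹ * el (g3 9 (dC d) (b x0) fun y => b (φ.f y)) 11 m * u⁻¹⁻¹ := by rw [h3]; group
    refine ((hΔ m hm).1 (h3 ▸ h1.trans (hc u x))).imp (fun h5 => ?_) fun h5 => ?_
    · rw [h4, (N.fus.t1 hm).2.1.1 h5, show el _ 11 1024 = _ from el3_d 9 _ _ _, N.c.conj_d]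
    · obtain ⟨i, hi, rfl⟩ := (ty3_spec.1 m hm).2 h5
      exact ⟨_, by rw [h4, ← N.cd hi, N.c.eqv]⟩
  · rintro (rfl | ⟨y, rfl⟩)
    · exact IsConj.refl d
    · obtain ⟨u, e⟩ := N.c.exists_conj N.m.t22.prim.conn x0 y
      have := (hΔ _ N.fus.c2.2.1).2 (Or.inr N.fus.c2.2.2.1)
      rw [show el _ 11 512 = _ from el3_e 9 _ _ _] at this
      exact e ▸ this.trans (hc u _)

end

end Cfsg.Lib.Spor.FT
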