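import Cfsg.Agent.SporChar.HJModJ2
import Cfsg.Agent.Spor.PKWords

/-! The subgroups `2² × A₅` and `A₄ × A₅` of `J₂`. -/

set_option autoImplicit false
set_option maxRecDepth 100000
set_option linter.unusedSimpArgs false
set_option maxHeartbeats 1000000

namespace Cfsg.Lib.Spor.HJ

open Subgroup Bulk PK WF

variable {G : Type*} [Group G] {T : Tup G}

theorem mj_iso (h : Emb (mj []).m T.gM) {W ls ls₂ : List (List ℕ)} {G₂ Ω₂ : Type*} [Group G₂]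
    [Finite G₂] [MulAction G₂ Ω₂] {pt₂ : ℕ → Ω₂} {n : ℕ} (h₂ : PtsOk G₂ n pt₂) {gs₂ : List G₂}
    (a₂ : List.Forall₂ (ActL pt₂ n) ls₂ gs₂) {cert cert' : List Cert}
    (hc : PM.evs (pmul 12 100) (one 12 100) jcs W = ls.map (encL 12) ∧
      (∀ l ∈ ls, l.length = 100 ∧ ∀ x ∈ l, x < 100) ∧ W.length = ls₂.length ∧
      graphChk 12 100 n (ls.zip ls₂) cert = true ∧ graphChk' 12 100 n (ls.zip ls₂) cert cert' = true)
    (hcard : Nat.card G₂ ≤ certOrder cert) : Nonempty (sub T.gM W ≃* G₂) := by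
  obtain ⟨e, -⟩ := h.equiv W
  obtain ⟨e', -⟩ := graph_iso_gen_top (ptsOk_fin 100) h₂ (actP_zip
    (Dens.actL (PM.ctx (mj_ok [])) (hc.1 ▸ PM.dens_evs (mj_ok []) W) hc.2.1) a₂) hc.2.2.2.1 hc.2.2.2.2
    (H₁ := sub (mj []).m W) (congrArg gen (List.map_fst_zip (by
      rw [List.length_map, hc.2.2.1, a₂.length_eq]))) hcard
  exact ⟨e.symm.trans e'⟩

theorem card_alt (n : ℕ) [Nontrivial (Fin n)] : 2 * Nat.card (alternatingGroup (Fin n)) = n.factorial := by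
  rw [two_mul_nat_card_alternatingGroup, Nat.card_perm, Nat.card_fin]

/-- image lists -/
def iso_L_l : List (List ℕ) := [[20, 75, 21, 5, 61, 39, 94, 68, 22, 17, 85, 56, 57, 10, 27, 51, 59, 60, 19, 12, 38, 70, 30, 72, 48, 4, 83,
    32, 80, 67, 36, 26, 93, 91, 44, 95, 58, 98, 9, 53, 87, 2, 7, 74, 64, 28, 54, 14, 84, 25, 46, 35, 15, 43,
    96, 88, 6, 3, 52, 23, 37, 62, 41, 92, 65, 89, 86, 34, 33, 77, 79, 69, 97, 76, 18, 55, 31, 29, 40, 49, 11,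
    99, 73, 1, 66, 45, 50, 81, 82, 71, 24, 47, 0, 42, 13, 8, 90, 78, 63, 16], [18, 27, 69, 37, 50, 16, 54, 76,
    87, 51, 71, 34, 55, 64, 75, 17, 74, 7, 78, 83, 42, 24, 92, 32, 25, 44, 12, 72, 89, 13, 26, 36, 73, 1, 4,
    63, 9, 47, 58, 82, 22, 46, 60, 59, 10, 84, 94, 0, 28, 48, 2, 88, 23, 31, 6, 35, 96, 40, 99, 15, 5, 65, 90,
    30, 62, 80, 49, 56, 81, 11, 29, 21, 8, 68, 20, 57, 43, 79, 3, 86, 77, 52, 93, 91, 45, 66, 61, 33, 53, 85,
    70, 98, 14, 38, 67, 97, 41, 19, 95, 39]]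

theorem iso_L (h : Emb (mj []).m T.gM) : Nonempty (sub T.gM wL ≃*
    (Multiplicative (ZMod 2) × Multiplicative (ZMod 2)) × alternatingGroup (Fin 5)) :=
  mj_iso h (ls := iso_L_l) (ls₂ := [pairL 4 ([1, 0, 3, 2], [1, 2, 3, 4, 0]), pairL 4 ([2, 3, 0, 1], [0, 2, 4, 3, 1])])
    ((ptsOk_self (n := 4) (pt := fun i => (Multiplicative.ofAdd (i : ZMod 2),
      Multiplicative.ofAdd ((i / 2 : ℕ) : ZMod 2))) (by decide) (by decide)).sum ((ptsOk_fin 5).subgroup _))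
    (.cons (ActL.pair (l := ([1, 0, 3, 2], [1, 2, 3, 4, 0])) (g := ((Multiplicative.ofAdd (1 : ZMod 2), (1 : Multiplicative (ZMod 2))),
      (⟨c[0, 1, 2, 3, 4], Equiv.Perm.mem_alternatingGroup.2 (by decide +kernel)⟩ : alternatingGroup (Fin 5))))
      (actL_iff_fin.2 (by decide +kernel)) (actL_iff_fin.2 (by decide +kernel)))
    (.cons (ActL.pair (l := ([2, 3, 0, 1], [0, 2, 4, 3, 1])) (g := (((1 : Multiplicative (ZMod 2)), Multiplicative.ofAdd (1 : ZMod 2)),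
      (⟨c[1, 2, 4], Equiv.Perm.mem_alternatingGroup.2 (by decide +kernel)⟩ : alternatingGroup (Fin 5))))
      (actL_iff_fin.2 (by decide +kernel)) (actL_iff_fin.2 (by decide +kernel)))
    .nil))
    (cert := [⟨0, [5888, 3009, 4032, 1409, 5824, 2369, 6272, 2241, 512, 2561, 2112, 5313, 3840, 193, 3264, 3521, 6080, 4609,
    4992, 3649, 4352, 5569, 1664, 1217, 1088, 2689, 960, 577, 4800, 769, 1472, 1729, 6208, 1153, 448, 4673,
    1984, 1921, 5952, 1281, 3328, 3777, 2432, 2305, 64, 897, 4736, 5248, 2049, 4864, 3393, 3712, 5185, 1024,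
    2753, 5632, 2497, 6336, 321], [[1, 0, 0, 1, 0, 0, 1, 1], [1, 0, 0, 0, 0, 0, 1, 0]]⟩,
     ⟨1, [5248, 3777, 4609], []⟩])
    (cert' := [⟨100, [6464, 6529, 6593], [[1, 1], [1, 0, 1, 0]]⟩,
     ⟨104, [6721, 6784, 6912, 6849], [[1, 0, 0, 1, 0, 1], [0]]⟩,
     ⟨105, [6848, 6785, 6912], [[1, 1, 0]]⟩,
     ⟨106, [6848, 6912], []⟩])
    (by decide +kernel) (by
      have a := card_alt 4
      have b := card_alt 5
      have c : Nat.card (Multiplicative (ZMod 2)) = 2 := Nat.card_zmod 2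
      simp only [Nat.factorial] at a b
      simp only [Nat.card_prod, c, show Nat.card (alternatingGroup (Fin 4)) = 12 by omega,
        show Nat.card (alternatingGroup (Fin 5)) = 60 by omega]
      decide +kernel)

/-- image lists -/
def iso_NV_l : List (List ℕ) := [[20, 75, 21, 5, 61, 39, 94, 68, 22, 17, 85, 56, 57, 10, 27, 51, 59, 60, 19, 12, 38, 70, 30, 72, 48, 4, 83,
    32, 80, 67, 36, 26, 93, 91, 44, 95, 58, 98, 9, 53, 87, 2, 7, 74, 64, 28, 54, 14, 84, 25, 46, 35, 15, 43,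
    96, 88, 6, 3, 52, 23, 37, 62, 41, 92, 65, 89, 86, 34, 33, 77, 79, 69, 97, 76, 18, 55, 31, 29, 40, 49, 11,
    99, 73, 1, 66, 45, 50, 81, 82, 71, 24, 47, 0, 42, 13, 8, 90, 78, 63, 16], [18, 27, 69, 37, 50, 16, 54, 76,
    87, 51, 71, 34, 55, 64, 75, 17, 74, 7, 78, 83, 42, 24, 92, 32, 25, 44, 12, 72, 89, 13, 26, 36, 73, 1, 4,
    63, 9, 47, 58, 82, 22, 46, 60, 59, 10, 84, 94, 0, 28, 48, 2, 88, 23, 31, 6, 35, 96, 40, 99, 15, 5, 65, 90,
    30, 62, 80, 49, 56, 81, 11, 29, 21, 8, 68, 20, 57, 43, 79, 3, 86, 77, 52, 93, 91, 45, 66, 61, 33, 53, 85,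
    70, 98, 14, 38, 67, 97, 41, 19, 95, 39], [30, 47, 2, 51, 4, 26, 6, 57, 42, 73, 24, 11, 52, 13, 17, 14, 9,
    15, 36, 82, 88, 44, 59, 60, 50, 71, 33, 74, 28, 79, 68, 23, 37, 5, 25, 32, 72, 35, 58, 95, 92, 67, 63, 22,
    69, 84, 48, 53, 56, 49, 10, 87, 78, 1, 45, 27, 46, 76, 91, 43, 31, 77, 62, 8, 61, 29, 94, 89, 0, 21, 70,
    34, 18, 16, 55, 40, 7, 64, 12, 65, 86, 20, 93, 97, 54, 85, 90, 3, 81, 41, 80, 38, 75, 19, 96, 99, 66, 98,
    83, 39]]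

theorem iso_NV (h : Emb (mj []).m T.gM) : Nonempty (sub T.gM wNV ≃*
    alternatingGroup (Fin 4) × alternatingGroup (Fin 5)) :=
  mj_iso h (ls := iso_NV_l) (ls₂ := [pairL 4 ([1, 0, 3, 2], [1, 2, 3, 4, 0]), pairL 4 ([2, 3, 0, 1], [0, 2, 4, 3, 1]), pairL 4 ([0, 3, 1, 2], [0, 1, 2, 3, 4])])
    (((ptsOk_fin 4).subgroup _).sum ((ptsOk_fin 5).subgroup _))
    (.cons (ActL.pair (l := ([1, 0, 3, 2], [1, 2, 3, 4, 0])) (g := ((⟨c[0, 1] * c[2, 3], Equiv.Perm.mem_alternatingGroup.2 (by decide +kernel)⟩ : alternatingGroup (Fin 4)),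
      (⟨c[0, 1, 2, 3, 4], Equiv.Perm.mem_alternatingGroup.2 (by decide +kernel)⟩ : alternatingGroup (Fin 5))))
      (actL_iff_fin.2 (by decide +kernel)) (actL_iff_fin.2 (by decide +kernel)))
    (.cons (ActL.pair (l := ([2, 3, 0, 1], [0, 2, 4, 3, 1])) (g := ((⟨c[0, 2] * c[1, 3], Equiv.Perm.mem_alternatingGroup.2 (by decide +kernel)⟩ : alternatingGroup (Fin 4)),
      (⟨c[1, 2, 4], Equiv.Perm.mem_alternatingGroup.2 (by decide +kernel)⟩ : alternatingGroup (Fin 5))))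
      (actL_iff_fin.2 (by decide +kernel)) (actL_iff_fin.2 (by decide +kernel)))
    (.cons (ActL.pair (l := ([0, 3, 1, 2], [0, 1, 2, 3, 4])) (g := ((⟨c[1, 3, 2], Equiv.Perm.mem_alternatingGroup.2 (by decide +kernel)⟩ : alternatingGroup (Fin 4)),
      (⟨1, Equiv.Perm.mem_alternatingGroup.2 (by decide +kernel)⟩ : alternatingGroup (Fin 5))))
      (actL_iff_fin.2 (by decide +kernel)) (actL_iff_fin.2 (by decide +kernel)))
    .nil)))
    (cert := [⟨0, [5888, 3009, 4354, 4032, 1409, 2562, 5824, 2369, 66, 448, 4673, 1922, 6272, 2241, 2690, 512, 2754, 4992,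
    3649, 4802, 2112, 5313, 3714, 3840, 193, 2050, 3394, 1089, 4866, 5248, 578, 6210, 3264, 3521, 5952, 1281,
    6080, 4609, 3778, 1153, 3330, 768, 897, 5569, 1666, 1217, 2304, 2433, 1474, 1728, 2496, 5633, 961, 1026,
    4738, 5186, 1984, 322, 6337], [[0, 0, 0, 2, 2, 1, 0, 1], [1, 0, 2, 0, 2, 1]]⟩,
     ⟨1, [2432, 4865, 2368, 4993, 1088, 6337, 4609, 5248, 3777, 4032, 1665], []⟩])
    (cert' := [⟨100, [6464, 6529, 6593], [[0, 0], [0, 2, 1]]⟩,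
     ⟨101, [6529, 6593], [[1, 1, 0, 1], [1, 0, 1, 1]]⟩,
     ⟨104, [6912, 6848, 6785, 6720], [[1, 1, 0], [0, 1, 1, 0, 1]]⟩,
     ⟨105, [6848, 6912, 6785], [[0, 1]]⟩,
     ⟨106, [6912, 6848], []⟩])
    (by decide +kernel) (by
      have a := card_alt 4
      have b := card_alt 5
      have c : Nat.card (Multiplicative (ZMod 2)) = 2 := Nat.card_zmod 2
      simp only [Nat.factorial] at a b
      simp only [Nat.card_prod, c, show Nat.card (alternatingGroup (Fin 4)) = 12 by omega,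
        show Nat.card (alternatingGroup (Fin 5)) = 60 by omega]
      decide +kernel)

/-- chains -/
def swV : List (List (List ℕ) × List Cert) :=
  [(wV,
    [⟨0, [3840, 193, 4737], []⟩]),
   (wNV,
    [⟨0, [5888, 3009, 4354, 4032, 1409, 2562, 5824, 2369, 66, 448, 4673, 1922, 6272, 2241, 2690, 512, 2754, 4992,
    3649, 4802, 2112, 5313, 3714, 3840, 193, 2050, 3394, 1089, 4866, 5248, 578, 6210, 3264, 3521, 5952, 1281,
    6080, 4609, 3778, 1153, 3330, 768, 897, 5569, 1666, 1217, 2304, 2433, 1474, 1728, 2496, 5633, 961, 1026,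
    4738, 5186, 1984, 322, 6337], [[1, 0, 2, 0, 0, 2], [1, 0, 2, 0, 2, 1]]⟩,
     ⟨1, [4032, 4865, 4992, 1089, 2368, 6337, 3777, 4608, 5249, 1664, 2433], []⟩]),
   (wL,
    [⟨0, [5888, 3009, 4032, 1409, 5824, 2369, 6272, 2241, 512, 2561, 2112, 5313, 3840, 193, 3264, 3521, 6080, 4609,
    4992, 3649, 4352, 5569, 1664, 1217, 1088, 2689, 960, 577, 4800, 769, 1472, 1729, 6208, 1153, 448, 4673,
    1984, 1921, 5952, 1281, 3328, 3777, 2432, 2305, 64, 897, 4736, 5248, 2049, 4864, 3393, 3712, 5185, 1024,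
    2753, 5632, 2497, 6336, 321], [[0, 0, 1, 0, 1, 0, 0, 0], [1, 0, 0, 0, 0, 0, 1, 0]]⟩,
     ⟨1, [4608, 3777, 5249], []⟩])]

theorem swV_ok : (mj swV).subsOK = true := by decide +kernel

theorem nV_le [Finite G] (h : Emb (mj []).m T.gM) :
    sub T.gM wNV ≤ normalizer (sub T.gM wV : Set G) :=
  PM.le_normalizer (mj_ok _) swV_ok h wNV 0 (by decide +kernel)

theorem v_fus (h : Emb (mj []).m T.gM) :
    ∀ x ∈ sub T.gM wV, x = 1 ∨ (∃ c ∈ sub T.gM wNV, c * T.t = x * c) := by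
  have := PM.holds (mj_ok _) swV_ok h (p := (.all 0 24 (.or (.eq [24] []) (.ex 1 26 (.eq [10,26] [26,24]))))) (by decide +kernel)
  simp (disch := decide) only [wv_upd, Fm.sem, wv_cons, wv_nil, one_mul, upd_apply, Nat.reduceEqDiff, ↓reduceIte, Tup.gM_1, Tup.gM_2,
    Tup.gM_3, Tup.gM_4, Tup.gM_5, Tup.gM_6, Tup.gM_7, Tup.gM_8, Tup.gM_9, Tup.gM_10, Tup.gM_11,
    Tup.gM_12] at this
  exact this

theorem v_mem (h : Emb (mj []).m T.gM) :
    (∃ x ∈ sub T.gM wL, x = T.f) ∧ (∀ x ∈ sub T.gM wV, x * x = 1 ∧ (∃ c ∈ sub T.gM wL, c = x)) := by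
  have := PM.holds (mj_ok _) swV_ok h (p := (.bind 20 xf (.and (.ex 2 24 (.eq [24] [20])) (.all 0 24 (.and (.eq [24,24] []) (.ex 2 26 (.eq
      [26] [24]))))))) (by decide +kernel)
  simp (disch := decide) only [wv_upd, Fm.sem, wv_cons, wv_nil, one_mul, upd_apply, Nat.reduceEqDiff, ↓reduceIte, Tup.gM_1, Tup.gM_2,
    Tup.gM_3, Tup.gM_4, Tup.gM_5, Tup.gM_6, Tup.gM_7, Tup.gM_8, Tup.gM_9, Tup.gM_10, Tup.gM_11,
    Tup.gM_12] at this
  exact this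

theorem v_core (h : Emb (mj []).m T.gM) :
    ∀ x ∈ sub T.gM wL, (∃ c ∈ sub T.gM wV, c = x) ∨ (¬ (x * x) = 1 ∧ ((x * x) * (x * x) * (x * x) =
    1 ∨ (x * x) * (x * x) * (x * x) * (x * x) * (x * x) = 1)) ∨ (¬ (x * T.f * x * T.f * T.f * T.f *
    T.f) = 1 ∧ ((x * T.f * x * T.f * T.f * T.f * T.f) * (x * T.f * x * T.f * T.f * T.f * T.f) * (x *
    T.f * x * T.f * T.f * T.f * T.f) = 1 ∨ (x * T.f * x * T.f * T.f * T.f * T.f) * (x * T.f * x *
    T.f * T.f * T.f * T.f) * (x * T.f * x * T.f * T.f * T.f * T.f) * (x * T.f * x * T.f * T.f * T.f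
    * T.f) * (x * T.f * x * T.f * T.f * T.f * T.f) = 1)) := by
  have := PM.holds (mj_ok _) swV_ok h (p := (.bind 20 xf (.all 2 24 (.or (.ex 0 26 (.eq [26] [24])) (.or (.bind 26 [24,24] (.and (.not (.eq
      [26] [])) (.or (.eq [26,26,26] []) (.eq [26,26,26,26,26] [])))) (.bind 26 [20,20,20,20,24,20,24]
      (.and (.not (.eq [26] [])) (.or (.eq [26,26,26] []) (.eq [26,26,26,26,26] []))))))))) (by decide +kernel)
  simp (disch := decide) only [wv_upd, Fm.sem, wv_cons, wv_nil, one_mul, upd_apply, Nat.reduceEqDiff, ↓reduceIte, Tup.gM_1, Tup.gM_2,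
    Tup.gM_3, Tup.gM_4, Tup.gM_5, Tup.gM_6, Tup.gM_7, Tup.gM_8, Tup.gM_9, Tup.gM_10, Tup.gM_11,
    Tup.gM_12] at this
  exact this

end Cfsg.Lib.Spor.HJ
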