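import Cfsg.Agent.SporChar.HJDefs

/-! The extraspecial group of order 32: a permutation model and facts. -/

set_option autoImplicit false
set_option maxRecDepth 100000
set_option linter.unusedSimpArgs false
set_option maxHeartbeats 1000000

namespace Cfsg.Lib.Spor.HJ

open Subgroup Bulk PK WF

noncomputable def tcQ_C : SeqCert := ⟨nat_lit 5, nat_lit 9, nat_lit 7, nat_lit 0x606050504040303020201010000, (NT.leaf (nat_lit 0) (nat_lit 0x14df04cfc0e9f027fc055f028f81b3e016f8175e033f816bd024f41a9d01bf4119d04e20161c067f0067c03b70137203db8195b055ec0b1b043680e7a02768053a03664091901964170704ae01a78017e016f10485c19d70355c16cd02b501936045d80cd5026d40515043d005d40254c15930592419b20384815c8037a4122f064440d710234004f00453418ec025b004cb06f9413c503e940b8501d941b4405c900f0402b9006c406a8c16830498c0a430188c1a020578811c2036880582065841541044840d010238418c0052801080031800840010800000)), (NT.node (nat_lit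 24) (NT.node (nat_lit 12) (NT.node (nat_lit 6) (NT.node (nat_lit 3) (NT.node (nat_lit 1) (NT.leaf (nat_lit 4) (nat_lit 0x1060106)) (NT.node (nat_lit 2) (NT.leaf (nat_lit 49160) (nat_lit 0x201060201)) (NT.leaf (nat_lit 8) (nat_lit 0x602010201)))) (NT.node (nat_lit 4) (NT.leaf (nat_lit 49153) (nat_lit 0x405010203)) (NT.node (nat_lit 5) (NT.leaf (nat_lit 24) (nat_lit 0x2060206)) (NT.leaf (nat_lit 49164) (nat_lit 0x301060301))))) (NT.node (nat_lit 9) (NT.node (nat_lit 7) (NT.leaf (nat_lit 12) (nat_lit 0x603010301)) (NT.node (nat_lit 8) (NT.leaf (nat_lit 16384) (nat_lit 0x403020105)) (NT.leaf (nat_lit 32812) (nat_lit 0x304030604)))) (NT.node (nat_lit 10) (NT.leaf (nat_lit 16440) (nat_lit 0x504050406)) (NT.node (nat_lit 11) (NT.leaf (nat_lit 49180) (nat_lit 0x302060302)) (NT.leaf (nat_lit 28) (nat_lit 0x603020302)))))) (NT.node (nat_lit 18) (NT.node (nat_lit 15) (NT.node (nat_lit 13) (NT.leaf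 (nat_lit 49200) (nat_lit 0x503060503)) (NT.node (nat_lit 14) (NT.leaf (nat_lit 65537) (nat_lit 0x501020304)) (NT.leaf (nat_lit 32801) (nat_lit 0x204060204)))) (NT.node (nat_lit 16) (NT.leaf (nat_lit 32789) (nat_lit 0x105060105)) (NT.node (nat_lit 17) (NT.leaf (nat_lit 65592) (nat_lit 0x406050405)) (NT.leaf (nat_lit 40) (nat_lit 0x3060306))))) (NT.node (nat_lit 21) (NT.node (nat_lit 19) (NT.leaf (nat_lit 49168) (nat_lit 0x401060401)) (NT.node (nat_lit 20) (NT.leaf (nat_lit 16) (nat_lit 0x604010401)) (NT.leaf (nat_lit 32800) (nat_lit 0x204020604)))) (NT.node (nat_lit 22) (NT.leaf (nat_lit 49208) (nat_lit 0x504060504)) (NT.node (nat_lit 23) (NT.leaf (nat_lit 32769) (nat_lit 0x304050102)) (NT.leaf (nat_lit 65545) (nat_lit 0x601020102))))))) (NT.node (nat_lit 36) (NT.node (nat_lit 30) (NT.node (nat_lit 27) (NT.node (nat_lit 25) (NT.leaf (nat_lit 49184) (nat_lit 0x402060402)) (NT.node (nat_lit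 26) (NT.leaf (nat_lit 16432) (nat_lit 0x503050306)) (NT.leaf (nat_lit 32781) (nat_lit 0x103060103)))) (NT.node (nat_lit 28) (NT.leaf (nat_lit 65565) (nat_lit 0x602030203)) (NT.node (nat_lit 29) (NT.leaf (nat_lit 49196) (nat_lit 0x403060403)) (NT.leaf (nat_lit 16404) (nat_lit 0x501050106))))) (NT.node (nat_lit 33) (NT.node (nat_lit 31) (NT.leaf (nat_lit 1) (nat_lit 0x102030405)) (NT.node (nat_lit 32) (NT.leaf (nat_lit 65572) (nat_lit 0x206050205)) (NT.leaf (nat_lit 65584) (nat_lit 0x306050305)))) (NT.node (nat_lit 34) (NT.leaf (nat_lit 52) (nat_lit 0x4060406)) (NT.node (nat_lit 35) (NT.leaf (nat_lit 16385) (nat_lit 0x203040501)) (NT.leaf (nat_lit 49172) (nat_lit 0x501060501)))))) (NT.node (nat_lit 42) (NT.node (nat_lit 39) (NT.node (nat_lit 37) (NT.leaf (nat_lit 20) (nat_lit 0x605010501)) (NT.node (nat_lit 38) (NT.leaf (nat_lit 32768) (nat_lit 0x302010504)) (NT.leaf (nat_lit 16416)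 (nat_lit 0x402040206)))) (NT.node (nat_lit 40) (NT.leaf (nat_lit 65544) (nat_lit 0x106020102)) (NT.node (nat_lit 41) (NT.leaf (nat_lit 49188) (nat_lit 0x502060502)) (NT.leaf (nat_lit 65548) (nat_lit 0x106030103))))) (NT.node (nat_lit 45) (NT.node (nat_lit 43) (NT.leaf (nat_lit 65549) (nat_lit 0x601030103)) (NT.node (nat_lit 44) (NT.leaf (nat_lit 65564) (nat_lit 0x206030203)) (NT.leaf (nat_lit 65552) (nat_lit 0x106040104)))) (NT.node (nat_lit 46) (NT.leaf (nat_lit 65553) (nat_lit 0x601040104)) (NT.node (nat_lit 47) (NT.leaf (nat_lit 65568) (nat_lit 0x206040204)) (NT.leaf (nat_lit 60) (nat_lit 0x5060506))))))))⟩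
noncomputable def tcQ_U : List (List ℕ) := []
noncomputable def tcQ_HL : List ℕ := []
theorem tcQ_head : tcQ_C.head 7 iM rQ tcQ_U tcQ_HL 32 5 0 = true := by decide +kernel
noncomputable def tcQ_s0 : List ℕ := [nat_lit 0x1f0281a03178f87ab5018847c3b5480c223e1ca7c06041f0dd2a03000f072a2270105c3c1ba610404168f06e982c810583c1daad1004068f01403078104a3a05034d004060e8729b36810563a1ba58c004150e86e963a010523a1ca74ba0401954c06f4d0100e38050349404140e06e913d8102e381ba44fa04138e06e93350102c59331f92004130703e7a480104a360500c2a04120d8140d200104636050246204110d0100d0188468313e80c2234179d406041a0b4da03000c86280220104032179e09e040f8c81007128103c440c07cf4040e8c0100d340103830179ccbc040d8c05a6d29810344f08054e4040c8b8100d25010302e169b8c2040b8b85a70238102c470a05cd4040a98c884335010282c0400c2604098b0100d20010242a03034061115094b203020a8464f0180050272e91408101408c9e550203c4c252c91c080e130180a1902034a61e10958080c120180a1b0202c480606928080a271403c1d0202424172614008080f064864c0201c4406018440806110181a400201440040680c08200c91406000d01006150200c30040183c08020c0101a40020042c020680c0041]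
theorem tcQ_ok0 : tcQ_C.StepsOK 32 97 := (SeqCert.StepsOK.refl _ 32).step (L := tcQ_s0) (by decide +kernel)
theorem tcQ_ok : tcQ_C.StepsOK (32 + 0) 97 := tcQ_ok0
noncomputable def tcQ_r0 : List ℕ := [nat_lit 0xc3028a082018604100820, nat_lit 0x165851412484100e380c01, nat_lit 0x208079e1c7069a05006182, nat_lit 0x2aa8a2826981c024908a23, nat_lit 0x34d0cb20900c302eb8b2c4, nat_lit 0x3ef82c03cf0eba38e0db65, nat_lit 0xd0307e8fd1a6a4b810566, nat_lit 0x456203063a2bfc0f092607, nat_lit 0x4f8951ca2e044285c996a8, nat_lit 0x6db16a4130949eabea2749, nat_lit 0x95d85424769cee5f9ae7ea, nat_lit 0x170a4f66bb1362436100cb, nat_lit 0x4439766a5ea1f24258644c, nat_lit 0x5991c2c46506c467aacfcd, nat_lit 0x75b95501d125b68bd1868e, nat_lit 0x9fe07c450894d2bbf9ef0f, nat_lit 0x211287877b95e44a3120f0, nat_lit 0x4e41e2e5179316b7f08c71, nat_lit 0x58696d298d95a0251a0f32, nat_lit 0x7dc1718271a3745e527793, nat_lit 0xa9e8a46623af7e6eb181d4,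 nat_lit 0x2b1ab7a7fc1a0c66699115, nat_lit 0x6c49c5a6a5a6f86fa0b496, nat_lit 0x7471e627681c942f229fb7, nat_lit 0x7c9a04e7ea8c4891d9e9f8, nat_lit 0xb5f0cc8bffa19884420a59, nat_lit 0x3522c7c8e323268a72213a, nat_lit 0x945249699925dc90c0dcbb, nat_lit 0x9e7a820a3426ac392a727c, nat_lit 0xa8a2b2aa460ecaaa4a9afd, nat_lit 0xb4cac343d2ab8eb68ac9be, nat_lit 0x3f2b00cbecaf28ba7ae15f]
theorem tcQ_final : tcQ_C.final 7 97 (nat_lit 0xffffffff) 32 [1,2,3,4,5,6] (tcQ_r0) = true := by decide +kernel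
theorem tcQ {G : Type*} [Group G] {g : ℕ → G} {H : Subgroup G} (hg : Sat g 7 iM rQ)
    (hU : ∀ u ∈ tcQ_U, wv g u ∈ H) (hL : ∀ l ∈ tcQ_HL, g l ∈ H) :
    IdxLe H (Subgroup.closure {x | ∃ l ∈ ([1,2,3,4,5,6] : List ℕ), g l = x}) 32 :=
  SeqCert.idxLe_of_final hg hU hL tcQ_head tcQ_ok tcQ_final

/-- permutation model -/
@[reducible] def MQ : PM where
  w := 10
  n := 32
  cs := [647248388559933843523790820379070591051762214071221845171615726532740439528724699672232434083840,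
    208857756560154468897745532505402431555060330301772246779159508478594919912244702829801688268810,
    313235201214908050161089049438379484274248412537629992597734664043389129795745912523101632010260,
    417327660363946554228546576918925377622424244439477339486921314019052279854332840505574665830430,
    521583300611353746952538546918504830326826719275175874894371556481509666709559812776085233428520,
    125685537802392639509088589312442849701472818300749094356102877716456979947896355158098538762290,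
    104805899132588559210739507304376587922209252446506850300146040255632911062673018635601680906300]
  SW := [([[1],[2],[3],[4],[5],[6]],
    [⟨0, [64, 129, 194, 259, 324, 389, 449, 514, 579, 644, 709, 768, 834, 899, 964, 1029, 1088, 1153, 1219, 1284,
    1349, 1408, 1473, 1538, 1604, 1669, 1728, 1793, 1858, 1923, 1989], []⟩])]

instance : NeZero MQ.n := ⟨by decide⟩

theorem MQ_ok : MQ.ok = true := by decide +kernel

theorem MQ_subs : MQ.subsOK = true := by decide +kernel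

theorem MQ_sat : MQ.satB 7 iM rQ = true := by decide +kernel

theorem cardQ_le {G : Type*} [Group G] {g : ℕ → G} (hg : Sat g 7 iM rQ) :
    Finite (closure {x | ∃ l ∈ [1, 2, 3, 4, 5, 6], g l = x}) ∧
      Nat.card (closure {x | ∃ l ∈ [1, 2, 3, 4, 5, 6], g l = x}) ≤ 32 :=
  (tcQ hg (H := ⊥) (by simp [tcQ_U]) (by simp [tcQ_HL])).card_le card_bot_le

variable {G : Type*} [Group G] {T : Tup G}

theorem embQ (h : Sat T.gQ 7 iM rQ) (hz : T.z ≠ 1) : Emb MQ.m T.gQ :=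
  PM.emb_of_ker MQ_ok MQ_subs (PM.exists_hom MQ_ok MQ_subs (PM.sat MQ_ok MQ_sat) h rfl cardQ_le
    (by decide +kernel)) (v := 20) (K := (.or (.eq [20] [6]) (.or (.eq [1,20] [20,6,1]) (.or (.eq [2,20] [20,6,2]) (.or (.eq [3,20]
      [20,6,3]) (.eq [4,20] [20,6,4])))))) rfl (by decide +kernel)
    (by simpa [Fm.sem, upd_apply] using ⟨hz.symm, hz⟩)

theorem card_sQ (h : Emb MQ.m T.gQ) : Nat.card T.sQ = 32 := PM.card_of_emb MQ_ok MQ_subs h 0

theorem q_inv (h : Emb MQ.m T.gQ) :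
    ∀ x ∈ T.sQ, x * x = 1 → (x = 1 ∨ x = T.z ∨ x = T.A ∨ x = T.A * T.z ∨ x = T.B ∨ x = T.B * T.z ∨ x
    = T.C ∨ x = T.C * T.z ∨ x = T.D ∨ x = T.D * T.z ∨ x = T.E ∨ x = T.E * T.z) := by
  have := PM.holds MQ_ok MQ_subs h (p := (.all 0 20 (.imp (.eq [20,20] []) (.or (.eq [20] []) (.or (.eq [20] [6]) (.or (.eq [20] [1])
      (.or (.eq [20] [6,1]) (.or (.eq [20] [2]) (.or (.eq [20] [6,2]) (.or (.eq [20] [3]) (.or (.eq
      [20] [6,3]) (.or (.eq [20] [4]) (.or (.eq [20] [6,4]) (.or (.eq [20] [5]) (.eq [20]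
      [6,5]))))))))))))))) (by decide +kernel)
  simp only [Fm.sem, wv_cons, wv_nil, one_mul, upd_apply, Nat.reduceEqDiff, ↓reduceIte, Tup.gQ_1, Tup.gQ_2,
    Tup.gQ_3, Tup.gQ_4, Tup.gQ_5, Tup.gQ_6] at this
  exact this

theorem q_ker (h : Emb MQ.m T.gQ) :
    ¬ (1 = T.z ∨ T.A = T.A * T.z * 1 ∨ T.A = T.B * 1 ∨ T.A = T.B * T.z * 1 ∨ T.A = T.C * 1 ∨ T.A =
    T.C * T.z * 1 ∨ T.A = T.D * 1 ∨ T.A = T.D * T.z * 1 ∨ T.A = T.E * 1 ∨ T.A = T.E * T.z * 1 ∨ T.B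
    = T.A * 1 ∨ T.B = T.A * T.z * 1 ∨ T.B = T.B * T.z * 1 ∨ T.B = T.C * 1 ∨ T.B = T.C * T.z * 1 ∨
    T.B = T.D * 1 ∨ T.B = T.D * T.z * 1 ∨ T.B = T.E * 1 ∨ T.B = T.E * T.z * 1 ∨ T.C = T.A * 1 ∨ T.C
    = T.A * T.z * 1 ∨ T.C = T.B * 1 ∨ T.C = T.B * T.z * 1 ∨ T.C = T.C * T.z * 1 ∨ T.C = T.D * 1 ∨
    T.C = T.D * T.z * 1 ∨ T.C = T.E * 1 ∨ T.C = T.E * T.z * 1 ∨ T.D = T.A * 1 ∨ T.D = T.A * T.z * 1
    ∨ T.D = T.B * 1 ∨ T.D = T.B * T.z * 1 ∨ T.D = T.C * 1 ∨ T.D = T.C * T.z * 1 ∨ T.D = T.D * T.z *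
    1 ∨ T.D = T.E * 1 ∨ T.D = T.E * T.z * 1) := by
  have := PM.holds MQ_ok MQ_subs h (p := (.bind 20 [] (.not (.or (.eq [20] [6]) (.or (.eq [1,20] [20,6,1]) (.or (.eq [1,20] [20,2]) (.or
      (.eq [1,20] [20,6,2]) (.or (.eq [1,20] [20,3]) (.or (.eq [1,20] [20,6,3]) (.or (.eq [1,20]
      [20,4]) (.or (.eq [1,20] [20,6,4]) (.or (.eq [1,20] [20,5]) (.or (.eq [1,20] [20,6,5]) (.or (.eq
      [2,20] [20,1]) (.or (.eq [2,20] [20,6,1]) (.or (.eq [2,20] [20,6,2]) (.or (.eq [2,20] [20,3])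
      (.or (.eq [2,20] [20,6,3]) (.or (.eq [2,20] [20,4]) (.or (.eq [2,20] [20,6,4]) (.or (.eq [2,20]
      [20,5]) (.or (.eq [2,20] [20,6,5]) (.or (.eq [3,20] [20,1]) (.or (.eq [3,20] [20,6,1]) (.or (.eq
      [3,20] [20,2]) (.or (.eq [3,20] [20,6,2]) (.or (.eq [3,20] [20,6,3]) (.or (.eq [3,20] [20,4])
      (.or (.eq [3,20] [20,6,4]) (.or (.eq [3,20] [20,5]) (.or (.eq [3,20] [20,6,5]) (.or (.eq [4,20]
      [20,1]) (.or (.eq [4,20] [20,6,1]) (.or (.eq [4,20] [20,2]) (.or (.eq [4,20] [20,6,2]) (.or (.eq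
      [4,20] [20,3]) (.or (.eq [4,20] [20,6,3]) (.or (.eq [4,20] [20,6,4]) (.or (.eq [4,20] [20,5])
      (.eq [4,20] [20,6,5])))))))))))))))))))))))))))))))))))))))) (by decide +kernel)
  simp only [Fm.sem, wv_cons, wv_nil, one_mul, upd_apply, Nat.reduceEqDiff, ↓reduceIte, Tup.gQ_1, Tup.gQ_2,
    Tup.gQ_3, Tup.gQ_4, Tup.gQ_5, Tup.gQ_6] at this
  exact this

theorem q_ne (h : Emb MQ.m T.gQ) :
    ¬ T.A = 1 ∧ ¬ T.B = 1 ∧ ¬ T.C = 1 ∧ ¬ T.D = 1 ∧ ¬ T.E = 1 ∧ ¬ T.A = T.z ∧ ¬ T.B = T.z ∧ ¬ T.C =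
    T.z ∧ ¬ T.D = T.z ∧ ¬ T.E = T.z ∧ ¬ T.A = T.B ∧ ¬ T.A = T.B * T.z ∧ ¬ T.A = T.C ∧ ¬ T.A = T.C *
    T.z ∧ ¬ T.A = T.D ∧ ¬ T.A = T.D * T.z ∧ ¬ T.A = T.E ∧ ¬ T.A = T.E * T.z ∧ ¬ T.B = T.A ∧ ¬ T.B =
    T.A * T.z ∧ ¬ T.B = T.C ∧ ¬ T.B = T.C * T.z ∧ ¬ T.B = T.D ∧ ¬ T.B = T.D * T.z ∧ ¬ T.B = T.E ∧ ¬
    T.B = T.E * T.z ∧ ¬ T.C = T.A ∧ ¬ T.C = T.A * T.z ∧ ¬ T.C = T.B ∧ ¬ T.C = T.B * T.z ∧ ¬ T.C =
    T.D ∧ ¬ T.C = T.D * T.z ∧ ¬ T.C = T.E ∧ ¬ T.C = T.E * T.z ∧ ¬ T.D = T.A ∧ ¬ T.D = T.A * T.z ∧ ¬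
    T.D = T.B ∧ ¬ T.D = T.B * T.z ∧ ¬ T.D = T.C ∧ ¬ T.D = T.C * T.z ∧ ¬ T.D = T.E ∧ ¬ T.D = T.E *
    T.z ∧ ¬ T.E = T.A ∧ ¬ T.E = T.A * T.z ∧ ¬ T.E = T.B ∧ ¬ T.E = T.B * T.z ∧ ¬ T.E = T.C ∧ ¬ T.E =
    T.C * T.z ∧ ¬ T.E = T.D ∧ ¬ T.E = T.D * T.z := by
  have := PM.holds MQ_ok MQ_subs h (p := (.and (.not (.eq [1] [])) (.and (.not (.eq [2] [])) (.and (.not (.eq [3] [])) (.and (.not (.eq
      [4] [])) (.and (.not (.eq [5] [])) (.and (.not (.eq [1] [6])) (.and (.not (.eq [2] [6])) (.and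
      (.not (.eq [3] [6])) (.and (.not (.eq [4] [6])) (.and (.not (.eq [5] [6])) (.and (.not (.eq [1]
      [2])) (.and (.not (.eq [1] [6,2])) (.and (.not (.eq [1] [3])) (.and (.not (.eq [1] [6,3])) (.and
      (.not (.eq [1] [4])) (.and (.not (.eq [1] [6,4])) (.and (.not (.eq [1] [5])) (.and (.not (.eq
      [1] [6,5])) (.and (.not (.eq [2] [1])) (.and (.not (.eq [2] [6,1])) (.and (.not (.eq [2] [3]))
      (.and (.not (.eq [2] [6,3])) (.and (.not (.eq [2] [4])) (.and (.not (.eq [2] [6,4])) (.and (.not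
      (.eq [2] [5])) (.and (.not (.eq [2] [6,5])) (.and (.not (.eq [3] [1])) (.and (.not (.eq [3]
      [6,1])) (.and (.not (.eq [3] [2])) (.and (.not (.eq [3] [6,2])) (.and (.not (.eq [3] [4])) (.and
      (.not (.eq [3] [6,4])) (.and (.not (.eq [3] [5])) (.and (.not (.eq [3] [6,5])) (.and (.not (.eq
      [4] [1])) (.and (.not (.eq [4] [6,1])) (.and (.not (.eq [4] [2])) (.and (.not (.eq [4] [6,2]))
      (.and (.not (.eq [4] [3])) (.and (.not (.eq [4] [6,3])) (.and (.not (.eq [4] [5])) (.and (.not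
      (.eq [4] [6,5])) (.and (.not (.eq [5] [1])) (.and (.not (.eq [5] [6,1])) (.and (.not (.eq [5]
      [2])) (.and (.not (.eq [5] [6,2])) (.and (.not (.eq [5] [3])) (.and (.not (.eq [5] [6,3])) (.and
      (.not (.eq [5] [4])) (.not (.eq [5] [6,4])))))))))))))))))))))))))))))))))))))))))))))))))))) (by decide +kernel)
  simp only [Fm.sem, wv_cons, wv_nil, one_mul, upd_apply, Nat.reduceEqDiff, ↓reduceIte, Tup.gQ_1, Tup.gQ_2,
    Tup.gQ_3, Tup.gQ_4, Tup.gQ_5, Tup.gQ_6] at this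
  exact this

theorem q_sign_u (h : Emb MQ.m T.gQ) :
    ∀ a ∈ T.sQ, (a = T.B ∨ a = T.B * T.z) → (∀ b ∈ T.sQ, (b = T.C ∨ b = T.C * T.z) → (∀ c ∈ T.sQ, (c
    = T.A ∨ c = T.A * T.z) → (∀ d ∈ T.sQ, (d = T.D ∨ d = T.D * T.z) → (∀ e ∈ T.sQ, (e = T.E ∨ e =
    T.E * T.z) → (a * b * c * d * e = 1 → (∃ q ∈ T.sQ, q * a = T.B * q ∧ q * b = T.C * q ∧ q * c =
    T.A * q ∧ q * d = T.D * q ∧ q * e = T.E * q)))))) := by
  have := PM.holds MQ_ok MQ_subs h (p := (.all 0 21 (.imp (.or (.eq [21] [2]) (.eq [21] [6,2])) (.all 0 22 (.imp (.or (.eq [22] [3]) (.eq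
      [22] [6,3])) (.all 0 23 (.imp (.or (.eq [23] [1]) (.eq [23] [6,1])) (.all 0 24 (.imp (.or (.eq
      [24] [4]) (.eq [24] [6,4])) (.all 0 25 (.imp (.or (.eq [25] [5]) (.eq [25] [6,5])) (.imp (.eq
      [25,24,23,22,21] []) (.ex 0 26 (.and (.eq [21,26] [26,2]) (.and (.eq [22,26] [26,3]) (.and (.eq
      [23,26] [26,1]) (.and (.eq [24,26] [26,4]) (.eq [25,26] [26,5])))))))))))))))))) (by decide +kernel)
  simp only [Fm.sem, wv_cons, wv_nil, one_mul, upd_apply, Nat.reduceEqDiff, ↓reduceIte, Tup.gQ_1, Tup.gQ_2,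
    Tup.gQ_3, Tup.gQ_4, Tup.gQ_5, Tup.gQ_6] at this
  exact this

theorem q_sign_s (h : Emb MQ.m T.gQ) :
    ∀ a ∈ T.sQ, (a = T.B ∨ a = T.B * T.z) → (∀ b ∈ T.sQ, (b = T.A ∨ b = T.A * T.z) → (∀ c ∈ T.sQ, (c
    = T.C ∨ c = T.C * T.z) → (∀ d ∈ T.sQ, (d = T.E ∨ d = T.E * T.z) → (∀ e ∈ T.sQ, (e = T.D ∨ e =
    T.D * T.z) → (a * b * c * d * e = 1 → (∃ q ∈ T.sQ, q * a = T.B * q ∧ q * b = T.A * q ∧ q * c =
    T.C * q ∧ q * d = T.E * q ∧ q * e = T.D * q)))))) := by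
  have := PM.holds MQ_ok MQ_subs h (p := (.all 0 21 (.imp (.or (.eq [21] [2]) (.eq [21] [6,2])) (.all 0 22 (.imp (.or (.eq [22] [1]) (.eq
      [22] [6,1])) (.all 0 23 (.imp (.or (.eq [23] [3]) (.eq [23] [6,3])) (.all 0 24 (.imp (.or (.eq
      [24] [5]) (.eq [24] [6,5])) (.all 0 25 (.imp (.or (.eq [25] [4]) (.eq [25] [6,4])) (.imp (.eq
      [25,24,23,22,21] []) (.ex 0 26 (.and (.eq [21,26] [26,2]) (.and (.eq [22,26] [26,1]) (.and (.eq
      [23,26] [26,3]) (.and (.eq [24,26] [26,5]) (.eq [25,26] [26,4])))))))))))))))))) (by decide +kernel)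
  simp only [Fm.sem, wv_cons, wv_nil, one_mul, upd_apply, Nat.reduceEqDiff, ↓reduceIte, Tup.gQ_1, Tup.gQ_2,
    Tup.gQ_3, Tup.gQ_4, Tup.gQ_5, Tup.gQ_6] at this
  exact this

theorem q_sign_t (h : Emb MQ.m T.gQ) :
    ∀ a ∈ T.sQ, (a = T.B ∨ a = T.B * T.z) → (∀ b ∈ T.sQ, (b = T.A ∨ b = T.A * T.z) → (∀ c ∈ T.sQ, (c
    = T.D ∨ c = T.D * T.z) → (∀ d ∈ T.sQ, (d = T.C ∨ d = T.C * T.z) → (∀ e ∈ T.sQ, (e = T.E ∨ e =
    T.E * T.z) → (a * b * c * d * e = 1 → (∃ q ∈ T.sQ, q * a = T.B * q ∧ q * b = T.A * q ∧ q * c =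
    T.D * q ∧ q * d = T.C * q ∧ q * e = T.E * q)))))) := by
  have := PM.holds MQ_ok MQ_subs h (p := (.all 0 21 (.imp (.or (.eq [21] [2]) (.eq [21] [6,2])) (.all 0 22 (.imp (.or (.eq [22] [1]) (.eq
      [22] [6,1])) (.all 0 23 (.imp (.or (.eq [23] [4]) (.eq [23] [6,4])) (.all 0 24 (.imp (.or (.eq
      [24] [3]) (.eq [24] [6,3])) (.all 0 25 (.imp (.or (.eq [25] [5]) (.eq [25] [6,5])) (.imp (.eq
      [25,24,23,22,21] []) (.ex 0 26 (.and (.eq [21,26] [26,2]) (.and (.eq [22,26] [26,1]) (.and (.eq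
      [23,26] [26,4]) (.and (.eq [24,26] [26,3]) (.eq [25,26] [26,5])))))))))))))))))) (by decide +kernel)
  simp only [Fm.sem, wv_cons, wv_nil, one_mul, upd_apply, Nat.reduceEqDiff, ↓reduceIte, Tup.gQ_1, Tup.gQ_2,
    Tup.gQ_3, Tup.gQ_4, Tup.gQ_5, Tup.gQ_6] at this
  exact this

end Cfsg.Lib.Spor.HJ
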