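import Cfsg.Agent.SporChar.HJModJ2

/-! Sylow subgroups of `J₂`: computations. -/

set_option autoImplicit false
set_option maxRecDepth 100000
set_option linter.unusedSimpArgs false
set_option maxHeartbeats 1000000

namespace Cfsg.Lib.Spor.HJ

open Subgroup Bulk PK WF

variable {G : Type*} [Group G] {T : Tup G}

theorem mj_cent_g : (mj []).centB [[1],[2],[3],[4],[5],[6],[7],[8],[9],[10],[11],[12]]
    [⟨0, [2561, 2818, 2051, 1668, 69, 4358, 1927, 3848, 778, 1280, 2690, 5379, 580, 4806, 5895, 3784, 1536, 3265,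
    1475, 1350, 4423, 2120, 2186, 651, 1408, 4545, 2246, 2375, 5640, 1088, 326, 1738, 3398, 3015, 4680, 1162,
    1992, 5002, 3338, 5195, 704, 4609, 3650, 452, 4296, 518, 4039, 3464, 2886, 1030, 2760, 4873, 970, 3207,
    1611, 198, 5575, 265, 4746, 904, 2313, 3530, 4936, 128, 5064, 5704, 2632, 5448, 4168, 385, 3080, 3592,
    4234, 2952, 3976, 3912, 1864, 4104, 5770, 4488, 6026, 3145, 6154, 1803, 5131, 1224, 843, 5514, 2440, 5960,
    5256, 5832, 2505, 3720, 6281, 6347, 5321, 6091, 6214], [[3, 6, 9, 8, 10, 8, 11, 8, 2], [1, 8, 10, 8, 0,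
    2]]⟩,
     ⟨12, [5952, 5504, 1153, 4160, 2497, 1280, 2560, 1089, 704, 4864, 961, 4608, 4033, 6144, 128, 5249, 3008, 1217,
    1600, 3904, 2433, 2752, 5696, 5888, 3776, 1344, 4480, 896, 1024, 3968, 1792, 1665, 4672, 3457, 5185, 1537,
    2240, 3841, 193, 2817, 6336, 2305, 3136, 6208, 3073, 3328, 4288, 5120, 2048, 3201, 64, 3392, 4737, 3585,
    5312, 4224, 1856, 1408, 2368, 4992, 6080, 2881], [[0, 0, 0, 0, 1, 0, 1, 0, 0], [0, 0, 1, 0, 1, 0, 1, 0, 0,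
    0, 0, 0, 0, 0]]⟩,
     ⟨94, [3648, 5633, 4544, 5441, 4096, 1729, 3712, 577, 2112, 1921, 1984, 2177, 5824, 257, 5376, 4352, 4416,
    5569, 448, 3264, 2624, 832, 4800], [[0, 0, 1, 0, 0]]⟩,
     ⟨99, [3328, 5120, 4736], []⟩]
    [1, 6] [9,10,12] 604800 7 [] = true := by decide +kernel

theorem card_cent_g (h : Emb (mj []).m T.gM) : Nat.card ↥(T.sM ⊓ centralizer {T.g}) = 7 := by
  have := (PM.cent_of_emb (mj_ok _) h card_mj mj_cent_g).1
  exact this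

theorem mj_cent_y : (mj []).centB [[1],[2],[3],[4],[5],[6],[7],[8],[9],[10],[11],[12]]
    [⟨0, [2561, 2818, 2051, 1668, 69, 4358, 1927, 3848, 778, 1280, 2690, 5379, 580, 4806, 5895, 3784, 1536, 3265,
    1475, 1350, 4423, 2120, 2186, 651, 1408, 4545, 2246, 2375, 5640, 1088, 326, 1738, 3398, 3015, 4680, 1162,
    1992, 5002, 3338, 5195, 704, 4609, 3650, 452, 4296, 518, 4039, 3464, 2886, 1030, 2760, 4873, 970, 3207,
    1611, 198, 5575, 265, 4746, 904, 2313, 3530, 4936, 128, 5064, 5704, 2632, 5448, 4168, 385, 3080, 3592,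
    4234, 2952, 3976, 3912, 1864, 4104, 5770, 4488, 6026, 3145, 6154, 1803, 5131, 1224, 843, 5514, 2440, 5960,
    5256, 5832, 2505, 3720, 6281, 6347, 5321, 6091, 6214], [[4, 10, 9, 7], [4, 10, 8, 10, 8, 9, 11, 9, 8, 11,
    8, 11, 4]]⟩,
     ⟨32, [1024, 193, 960, 129, 4736, 897, 4161, 2816, 1345, 3840, 6337, 1280, 5696, 65, 3456, 4481, 2880, 1537,
    2432, 769, 4289, 1792, 1601, 1088, 5504, 6145, 1409, 3200, 6209, 5248, 1665, 4224, 5185, 3072, 3329, 1856,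
    2241, 704, 5313, 2496, 3905, 3968, 3137, 3008, 3585, 5888, 4993, 1153, 5952, 6080, 5120, 4673, 2561, 2369,
    4864, 3392, 3777, 1216, 4609, 2752, 4032, 2305], [[0, 0, 1, 0, 1, 1, 0, 1, 0, 0, 1, 0, 1, 0, 1, 0, 0, 1,
    0, 0], [1, 1, 0, 1, 0, 1, 1, 0, 0, 1, 0, 1, 0, 0, 1, 0, 0]]⟩,
     ⟨12, [6080, 4992, 6145, 6208, 129], [[0, 0, 1, 0, 0], [0, 1, 0, 1, 0, 1, 0]]⟩,
     ⟨1, [5184, 3009, 6336, 3457, 5121, 3968, 3137, 4673, 3201, 3329, 1409, 4737, 3777, 1601, 5889], []⟩]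
    [1, 2] [11] 604800 36 [] = true := by decide +kernel

theorem card_cent_y (h : Emb (mj []).m T.gM) : Nat.card ↥(T.sM ⊓ centralizer {T.y}) = 36 := by
  have := (PM.cent_of_emb (mj_ok _) h card_mj mj_cent_y).1
  simp only [wv_cons, wv_nil, one_mul] at this
  exact this

/-- chains -/
def sw3 : List (List (List ℕ) × List Cert) :=
  [(wP3,
    [⟨0, [768, 2049, 1921, 4993, 3328, 2369, 2240, 4353], [[1, 0]]⟩,
     ⟨1, [6336, 2752], []⟩]),
   (wN3,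
    [⟨0, [768, 2049, 323, 5380, 1921, 2691, 5316, 4993, 3523, 2564, 1729, 514, 3076, 3456, 6273, 6147, 3328, 2369,
    1667, 2884, 5700, 5889, 3587, 2240, 6212, 4033, 6020, 4800, 2627, 4228, 2116, 4740, 4353, 2948, 4289],
    [[2, 0], [1, 2]]⟩,
     ⟨1, [1088, 5953, 2753, 6336, 4608], []⟩]),
   (wY,
    [⟨0, [768, 4353, 5826, 2048, 4993, 6338, 1921, 4930, 3713, 2114, 2241, 5954, 3329, 5762, 6081, 4738, 1666,
    3905, 2434, 2369, 5058, 5249, 4034, 1730, 5505, 2498, 321, 4098, 2690, 1857, 1218, 3521, 5122, 513, 4162],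
    []⟩])]

theorem sw3_ok : (mj sw3).subsOK = true := by decide +kernel

theorem card_wP3 (h : Emb (mj []).m T.gM) : Nat.card (sub T.gM wP3) = 27 :=
  PM.card_of_emb (mj_ok _) sw3_ok h 0

theorem card_wN3 (h : Emb (mj []).m T.gM) : Nat.card (sub T.gM wN3) = 216 :=
  PM.card_of_emb (mj_ok _) sw3_ok h 1

theorem card_wY (h : Emb (mj []).m T.gM) : Nat.card (sub T.gM wY) = 36 :=
  PM.card_of_emb (mj_ok _) sw3_ok h 2

theorem n3_le [Finite G] (h : Emb (mj []).m T.gM) :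
    sub T.gM wN3 ≤ normalizer (sub T.gM wP3 : Set G) :=
  PM.le_normalizer (mj_ok _) sw3_ok h wN3 0 (by decide +kernel)

theorem s3_basic (h : Emb (mj []).m T.gM) :
    T.g * T.g * T.g * T.g * T.g * T.g * T.g = 1 ∧ ¬ T.g = 1 ∧ T.u * T.u * T.u = 1 ∧ ¬ T.u = 1 ∧ T.y
    * T.y * T.y = 1 ∧ ¬ T.y = 1 ∧ (∀ x ∈ sub T.gM wP3, x * T.u = T.u * x) ∧ (∀ x ∈ sub T.gM wY, x *
    T.y = T.y * x) ∧ (∃ x ∈ sub T.gM wP3, ¬ x * T.y = T.y * x) := by
  have := PM.holds (mj_ok _) sw3_ok h (p := (.bind 23 xg (.and (.eq [23,23,23,23,23,23,23] []) (.and (.not (.eq [23] [])) (.and (.eq [7,7,7]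
      []) (.and (.not (.eq [7] [])) (.and (.eq [11,11,11] []) (.and (.not (.eq [11] [])) (.and (.all 0
      24 (.eq [7,24] [24,7])) (.and (.all 2 24 (.eq [11,24] [24,11])) (.ex 0 24 (.not (.eq [11,24]
      [24,11]))))))))))))) (by decide +kernel)
  simp (disch := decide) only [wv_upd, Fm.sem, wv_cons, wv_nil, one_mul, upd_apply, Nat.reduceEqDiff, ↓reduceIte, Tup.gM_1, Tup.gM_2,
    Tup.gM_3, Tup.gM_4, Tup.gM_5, Tup.gM_6, Tup.gM_7, Tup.gM_8, Tup.gM_9, Tup.gM_10, Tup.gM_11,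
    Tup.gM_12] at this
  exact this

theorem s3_fus (h : Emb (mj []).m T.gM) :
    ∀ x ∈ sub T.gM wP3, x = 1 ∨ (∃ c ∈ sub T.gM wN3, c * T.y = x * c) ∨ (∃ c ∈ sub T.gM wN3, c * T.u
    = x * c) := by
  have := PM.holds (mj_ok _) sw3_ok h (p := (.all 0 24 (.or (.eq [24] []) (.or (.ex 1 26 (.eq [11,26] [26,24])) (.ex 1 26 (.eq [7,26]
      [26,24])))))) (by decide +kernel)
  simp (disch := decide) only [wv_upd, Fm.sem, wv_cons, wv_nil, one_mul, upd_apply, Nat.reduceEqDiff, ↓reduceIte, Tup.gM_1, Tup.gM_2,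
    Tup.gM_3, Tup.gM_4, Tup.gM_5, Tup.gM_6, Tup.gM_7, Tup.gM_8, Tup.gM_9, Tup.gM_10, Tup.gM_11,
    Tup.gM_12] at this
  exact this

/-- a word -/
def xq : List ℕ := [9, 11, 6, 9, 11, 9, 12, 9]

/-- a generator of the Sylow 3-subgroup -/
abbrev Tup.q (T : Tup G) : G := wv T.gM xq

theorem s3_cent (h : Emb (mj []).m T.gM) :
    ∀ x ∈ sub T.gM wY, (∃ d ∈ sub T.gM wP3, x * T.q = d * x) → (∃ c ∈ sub T.gM wN3, c = x) := by
  have := PM.holds (mj_ok _) sw3_ok h (p := (.bind 28 xq (.all 2 24 (.imp (.ex 0 27 (.eq [28,24] [24,27])) (.ex 1 26 (.eq [26] [24])))))) (by decide +kernel)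
  simp (disch := decide) only [wv_upd, Fm.sem, wv_cons, wv_nil, one_mul, upd_apply, Nat.reduceEqDiff, ↓reduceIte, Tup.gM_1, Tup.gM_2,
    Tup.gM_3, Tup.gM_4, Tup.gM_5, Tup.gM_6, Tup.gM_7, Tup.gM_8, Tup.gM_9, Tup.gM_10, Tup.gM_11,
    Tup.gM_12] at this
  exact this

end Cfsg.Lib.Spor.HJ
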