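import Cfsg.Agent.SporChar.HJModJ2

/-! Sylow 5-subgroups of `J₂`: computations. -/

set_option autoImplicit false
set_option maxRecDepth 100000
set_option linter.unusedSimpArgs false
set_option maxHeartbeats 1000000

namespace Cfsg.Lib.Spor.HJ

open Subgroup Bulk PK WF

variable {G : Type*} [Group G] {T : Tup G}

theorem mj_cent_r : (mj []).centB [[1],[2],[3],[4],[5],[6],[7],[8],[9],[10],[11],[12]]
    [⟨0, [2561, 2818, 2051, 1668, 69, 4358, 1927, 3848, 778, 1280, 2690, 5379, 580, 4806, 5895, 3784, 1536, 3265,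
    1475, 1350, 4423, 2120, 2186, 651, 1408, 4545, 2246, 2375, 5640, 1088, 326, 1738, 3398, 3015, 4680, 1162,
    1992, 5002, 3338, 5195, 704, 4609, 3650, 452, 4296, 518, 4039, 3464, 2886, 1030, 2760, 4873, 970, 3207,
    1611, 198, 5575, 265, 4746, 904, 2313, 3530, 4936, 128, 5064, 5704, 2632, 5448, 4168, 385, 3080, 3592,
    4234, 2952, 3976, 3912, 1864, 4104, 5770, 4488, 6026, 3145, 6154, 1803, 5131, 1224, 843, 5514, 2440, 5960,
    5256, 5832, 2505, 3720, 6281, 6347, 5321, 6091, 6214], [[2, 6, 9, 8, 11, 8, 10, 8, 0, 11], [2, 8, 10, 8,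
    10, 9, 11, 8, 11, 4]]⟩,
     ⟨55, [4800, 1729, 5440, 5377, 2944, 3265, 4928, 3649, 576, 321, 5824, 1473, 4416, 3713, 6272, 6017, 256, 641,
    2624, 5761, 4352, 449, 2112, 4097, 385, 832, 5632, 1984, 1920, 2689, 4545, 512, 5568, 5057, 2176], [[1, 1,
    1, 1, 0, 0, 0, 0, 1, 0], [1, 1, 1, 0, 1, 1, 1, 0, 1]]⟩,
     ⟨74, [4480, 129, 5888, 769, 2240, 6209, 960, 3457, 2048, 193, 6080, 5505, 897, 3840, 2817, 3072, 1025, 2496,
    3328, 1281], [[0, 1, 0, 0, 1, 0, 1, 1], [1, 0, 0, 1, 1, 0, 0]]⟩,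
     ⟨80, [1600, 3905, 1344], [[1]]⟩,
     ⟨4, [], [[0]]⟩,
     ⟨1, [5248], []⟩]
    [1, 4] [1,3,11,3,9,12] 604800 50 [[1,3,11,3,9,12,1,3,11,3,9,12]] = true := by decide +kernel

theorem card_cent_r (h : Emb (mj []).m T.gM) : Nat.card ↥(T.sM ⊓ centralizer {T.r}) = 50 ∧
    ¬ ∃ k ∈ T.sM, k * (T.r * T.r) = T.r * k :=
  (PM.cent_of_emb (mj_ok _) h card_mj mj_cent_r).imp_right fun a => by
    have := a _ List.mem_cons_self
    rwa [show [1, 3, 11, 3, 9, 12, 1, 3, 11, 3, 9, 12] = xr ++ xr from rfl, wv_append] at this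

/-- chains -/
def sw5 : List (List (List ℕ) × List Cert) :=
  [(wP5,
    [⟨0, [1088, 257, 4032, 129, 5121, 2432, 3137, 6017, 4737, 2368, 3969, 2881, 3649, 3521, 4481, 3585, 3393, 4865,
    641, 1217, 65, 321, 5249, 1665], []⟩]),
   (wN5,
    [⟨0, [1088, 257, 3842, 4484, 4032, 129, 5890, 68, 5121, 1346, 1220, 1985, 641, 3906, 3139, 2432, 578, 2371,
    6017, 1602, 4801, 5444, 5248, 4674, 1667, 4737, 834, 1796, 320, 2498, 193, 3522, 1156, 706, 2883, 1281,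
    2627, 6276, 3968, 3652, 5636, 2753, 4866, 5057, 3586, 5314, 769, 384, 3395], [[4, 2, 1, 2, 0], [0, 4, 3,
    1, 0]]⟩,
     ⟨1, [5249, 5120], [[0]]⟩,
     ⟨2, [4032], []⟩])]

theorem sw5_ok : (mj sw5).subsOK = true := by decide +kernel

theorem card_wP5 (h : Emb (mj []).m T.gM) : Nat.card (sub T.gM wP5) = 25 :=
  PM.card_of_emb (mj_ok _) sw5_ok h 0

theorem card_wN5 (h : Emb (mj []).m T.gM) : Nat.card (sub T.gM wN5) = 300 :=
  PM.card_of_emb (mj_ok _) sw5_ok h 1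

theorem n5_le [Finite G] (h : Emb (mj []).m T.gM) :
    sub T.gM wN5 ≤ normalizer (sub T.gM wP5 : Set G) :=
  PM.le_normalizer (mj_ok _) sw5_ok h wN5 0 (by decide +kernel)

theorem mj_cent_rN : (mj []).centB [[9,11,9,12,9,11,9],[1,3,11,3,9,12],[10],[5,6],[12,9,11,2,12,9,11]]
    [⟨0, [1088, 257, 3842, 4484, 4032, 129, 5890, 68, 5121, 1346, 1220, 1985, 641, 3906, 3139, 2432, 578, 2371,
    6017, 1602, 4801, 5444, 5248, 4674, 1667, 4737, 834, 1796, 320, 2498, 193, 3522, 1156, 706, 2883, 1281,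
    2627, 6276, 3968, 3652, 5636, 2753, 4866, 5057, 3586, 5314, 769, 384, 3395], [[2, 4, 2], [4, 2, 1, 2, 0]]⟩,
     ⟨55, [320, 3649], [[0, 1, 0]]⟩,
     ⟨74, [], [[0]]⟩,
     ⟨80, [], [[0]]⟩,
     ⟨4, [], [[0]]⟩,
     ⟨1, [5248], []⟩]
    [1, 4] [1,3,11,3,9,12] 300 50 [] = true := by decide +kernel

theorem card_cent_rN (h : Emb (mj []).m T.gM) : Nat.card ↥(sub T.gM wN5 ⊓ centralizer {T.r}) = 50 := by
  have := (PM.cent_of_emb (mj_ok _) h (PM.card_sub (mj_ok _) sw5_ok 1) mj_cent_rN).1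
  exact this

theorem s5_basic (h : Emb (mj []).m T.gM) :
    T.r * T.r * T.r * T.r * T.r = 1 ∧ ¬ T.r = 1 ∧ (∀ x ∈ sub T.gM wP5, x * T.f = T.f * x ∧ x * T.r =
    T.r * x) := by
  have := PM.holds (mj_ok _) sw5_ok h (p := (.bind 20 xf (.bind 22 xr (.and (.eq [22,22,22,22,22] []) (.and (.not (.eq [22] [])) (.all 0 24
      (.and (.eq [20,24] [24,20]) (.eq [22,24] [24,22])))))))) (by decide +kernel)
  simp (disch := decide) only [wv_upd, Fm.sem, wv_cons, wv_nil, one_mul, upd_apply, Nat.reduceEqDiff, ↓reduceIte, Tup.gM_1, Tup.gM_2,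
    Tup.gM_3, Tup.gM_4, Tup.gM_5, Tup.gM_6, Tup.gM_7, Tup.gM_8, Tup.gM_9, Tup.gM_10, Tup.gM_11,
    Tup.gM_12] at this
  exact this

theorem s5_fus (h : Emb (mj []).m T.gM) :
    ∀ x ∈ sub T.gM wP5, x = 1 ∨ (∃ c ∈ sub T.gM wN5, c * T.r = (x * c) ∨ c * T.r * T.r = (x * c) ∨ c
    * T.f = (x * c) ∨ c * T.f * T.f = (x * c)) := by
  have := PM.holds (mj_ok _) sw5_ok h (p := (.bind 20 xf (.bind 22 xr (.all 0 24 (.or (.eq [24] []) (.ex 1 26 (.bind 27 [26,24] (.or (.eq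
      [22,26] [27]) (.or (.eq [22,22,26] [27]) (.or (.eq [20,26] [27]) (.eq [20,20,26] [27]))))))))))) (by decide +kernel)
  simp (disch := decide) only [wv_upd, Fm.sem, wv_cons, wv_nil, one_mul, upd_apply, Nat.reduceEqDiff, ↓reduceIte, Tup.gM_1, Tup.gM_2,
    Tup.gM_3, Tup.gM_4, Tup.gM_5, Tup.gM_6, Tup.gM_7, Tup.gM_8, Tup.gM_9, Tup.gM_10, Tup.gM_11,
    Tup.gM_12] at this
  exact this

theorem s5_cent (h : Emb (mj []).m T.gM) :
    ∀ x ∈ sub T.gM wN5, x * T.r = T.r * x → x * T.f = T.f * x → (∃ c ∈ sub T.gM wP5, c = x) := by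
  have := PM.holds (mj_ok _) sw5_ok h (p := (.bind 20 xf (.bind 22 xr (.all 1 24 (.imp (.eq [22,24] [24,22]) (.imp (.eq [20,24] [24,20])
      (.ex 0 26 (.eq [26] [24])))))))) (by decide +kernel)
  simp (disch := decide) only [wv_upd, Fm.sem, wv_cons, wv_nil, one_mul, upd_apply, Nat.reduceEqDiff, ↓reduceIte, Tup.gM_1, Tup.gM_2,
    Tup.gM_3, Tup.gM_4, Tup.gM_5, Tup.gM_6, Tup.gM_7, Tup.gM_8, Tup.gM_9, Tup.gM_10, Tup.gM_11,
    Tup.gM_12] at this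
  exact this

end Cfsg.Lib.Spor.HJ
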