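import Cfsg.Agent.SporChar.J4DS7

/-! Finite facts about `L₃(2)`. -/

set_option autoImplicit false
set_option maxRecDepth 100000

namespace Cfsg.Lib.SporChar.J4D

open Subgroup Matrix Cfsg.Lib.SporChar.J4C

/-- Vectors. -/
abbrev V3 := Fin 3 → ZMod 2

/-- Matrices. -/
abbrev M3 := Matrix (Fin 3) (Fin 3) (ZMod 2)

/-- The standard transvection. -/
def s2 : M3 := !![1,1,0;0,1,0;0,0,1]

/-- A transvection with the same axis. -/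
def t2 : M3 := !![1,0,0;0,1,0;0,1,1]

/-- An element of order four. -/
def s4 : M3 := !![1,1,0;0,1,1;0,0,1]

/-- An element of order three. -/
def s3 : M3 := !![1,0,0;0,0,1;0,1,1]

/-- The transvections with the standard centre. -/
def lA : List M3 := [1, s2, !![1,0,1;0,1,0;0,0,1], !![1,1,1;0,1,0;0,0,1]]

/-- Conjugating matrices for the elements of order four. -/
def l4 : List M3 :=
  [!![1,0,0;0,0,1;1,1,0], !![0,1,0;1,1,0;0,1,1], !![1,0,0;1,1,1;1,1,0], !![1,0,0;0,1,1;1,1,0],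
    !![0,1,0;1,0,0;0,1,1], !![1,0,0;1,0,1;1,1,0], !![1,0,0;1,1,0;1,0,1], !![1,0,0;1,1,0;0,1,1],
    !![0,1,0;0,1,1;1,1,0], !![0,1,0;0,1,1;1,0,0], !![1,0,0;1,1,0;0,0,1], !![1,0,0;1,1,0;1,1,1],
    !![0,1,0;1,1,0;1,0,1], !![1,0,0;0,0,1;1,1,1], !![1,0,0;1,1,1;0,0,1], !![1,0,0;1,0,1;0,1,1],
    !![0,1,0;1,0,0;1,1,1], !![1,0,0;0,1,1;1,0,1], !![0,0,1;1,0,0;1,1,0], !![0,0,1;1,0,0;0,1,0],
    !![0,0,1;1,0,0;1,1,1], !![0,0,1;0,1,0;1,0,0], !![0,0,1;0,1,0;1,1,0], !![0,0,1;1,0,0;0,1,1],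
    !![1,0,0;0,1,1;0,1,0], !![1,0,0;0,0,1;0,1,0], !![1,0,0;1,0,1;0,1,0], !![1,0,0;1,1,1;0,1,0],
    !![0,1,0;1,0,0;0,0,1], !![0,1,0;1,1,0;0,0,1], !![1,0,0;0,1,0;0,1,1], !![0,1,0;0,0,1;1,0,0],
    !![0,1,0;0,0,1;1,1,0], !![1,0,0;0,1,0;0,0,1], !![1,0,0;0,1,0;1,1,1], !![1,0,0;0,1,0;1,0,1],
    !![1,0,0;1,0,1;1,1,1], !![1,0,0;0,0,1;0,1,1], !![1,0,0;0,1,1;0,0,1], !![1,0,0;1,1,1;1,0,1],
    !![0,1,0;1,1,0;1,1,1], !![0,1,0;1,0,0;1,0,1]]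

/-- Conjugating matrices for the elements of order three. -/
def l3 : List M3 :=
  [!![0,0,1;1,0,0;0,1,1], !![1,0,1;1,0,0;1,1,1], !![0,0,1;1,1,0;0,1,1], !![1,0,1;1,1,0;1,1,1],
    !![1,0,1;0,1,1;1,1,1], !![0,0,1;1,1,1;0,1,1], !![1,0,1;0,0,1;1,1,1], !![0,0,1;1,0,1;0,1,1],
    !![1,0,1;1,1,1;1,1,0], !![1,0,1;1,1,1;0,0,1], !![1,0,1;1,1,1;0,1,1], !![0,0,1;0,1,1;1,0,0],
    !![0,0,1;0,1,1;1,1,0], !![0,0,1;0,1,1;1,1,1], !![0,0,1;0,1,1;1,0,1], !![1,0,1;1,1,1;1,0,0],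
    !![0,0,1;1,1,0;1,0,1], !![0,0,1;1,0,0;1,1,1], !![1,0,1;1,0,0;0,1,1], !![1,0,1;1,1,0;0,0,1],
    !![0,0,1;1,0,1;1,1,0], !![1,0,1;0,0,1;1,1,0], !![0,0,1;1,1,1;1,0,0], !![1,0,1;0,1,1;1,0,0],
    !![1,0,0;0,0,1;0,1,1], !![1,0,0;1,0,1;1,1,1], !![1,0,0;0,0,1;0,1,0], !![1,0,0;1,0,1;0,1,0],
    !![1,0,0;0,0,1;1,1,1], !![1,0,0;1,0,1;0,1,1], !![1,0,0;1,0,1;1,1,0], !![1,0,0;0,0,1;1,1,0],
    !![1,0,1;0,1,1;0,1,0], !![0,0,1;1,0,0;0,1,0], !![1,0,1;1,0,0;0,1,0], !![1,0,1;0,0,1;0,1,0],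
    !![0,0,1;1,0,1;0,1,0], !![1,0,1;1,1,0;0,1,0], !![0,0,1;1,1,1;0,1,0], !![0,0,1;1,1,0;0,1,0],
    !![1,0,1;0,1,0;0,0,1], !![1,0,1;0,1,0;0,1,1], !![0,0,1;0,1,0;1,0,0], !![0,0,1;0,1,0;1,0,1],
    !![0,0,1;0,1,0;1,1,1], !![0,0,1;0,1,0;1,1,0], !![1,0,1;0,1,0;1,0,0], !![1,0,1;0,1,0;1,1,0],
    !![1,0,1;0,0,1;0,1,1], !![0,0,1;1,0,1;1,1,1], !![1,0,1;1,0,0;1,1,0], !![0,0,1;1,0,0;1,1,0],
    !![1,0,1;0,1,1;0,0,1], !![1,0,1;1,1,0;1,0,0], !![0,0,1;1,1,0;1,0,0], !![0,0,1;1,1,1;1,0,1]]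

/-- The determinant is one. -/
def D1 (A : M3) : Prop := A 0 0 * A 1 1 * A 2 2 - A 0 0 * A 1 2 * A 2 1 - A 0 1 * A 1 0 * A 2 2 +
  A 0 1 * A 1 2 * A 2 0 + A 0 2 * A 1 0 * A 2 1 - A 0 2 * A 1 1 * A 2 0 = 1

instance : DecidablePred D1 := fun _ => inferInstanceAs (Decidable (_ = _))

theorem d1_iff {A : M3} : D1 A ↔ A.det = 1 := by rw [det_fin_three]; rfl

theorem cls2 : ∀ A : M3, A * A = 1 → A ≠ 1 → ∃ P ∈ lP, P * s2 = A * P := by decide +kernel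

theorem cls4 : ∀ A : M3, A * A * (A * A) = 1 → A * A ≠ 1 → ∃ P ∈ l4, P * s4 = A * P := by
  decide +kernel

theorem cls3 : ∀ A : M3, A * A * A = 1 → A ≠ 1 → ∃ P ∈ l3, P * s3 = A * P := by decide +kernel

theorem cen2 : ∀ B : M3, B * s2 = s2 * B → D1 B → B ∈ lA ∨ t2 * B ∈ lA := by decide +kernel

theorem cen4 : ∀ B : M3, B * s4 = s4 * B → D1 B → ∃ i < 4, B = s4 ^ i := by decide +kernel

theorem cen3 : ∀ B : M3, B * s3 = s3 * B → D1 B → ∃ i < 4, B = s3 ^ i := by decide +kernel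

theorem pow12 : ∀ A : M3, D1 A →
    A * A * (A * A) = 1 ∨ A * A * A = 1 ∨ (A ≠ 1 ∧ A * A * A * (A * A * A) * A = 1) := by
  decide +kernel

theorem lP_d1 : ∀ B ∈ lP, D1 B := by decide +kernel

theorem l4_d1 : ∀ B ∈ l4, D1 B := by decide +kernel

theorem l3_d1 : ∀ B ∈ l3, D1 B := by decide +kernel

theorem mem_lA : ∀ B : M3, D1 B → (∀ a, B *ᵥ a = a ∨ B *ᵥ a = ![1, 0, 0] + a) → B ∈ lA := by
  decide +kernel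

end Cfsg.Lib.SporChar.J4D
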