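import Cfsg.Agent.SporChar.J4BFr
import Cfsg.Agent.SporChar.J4Fr
import Cfsg.Agent.Spor.GeoTrio

/-! Groups of type `J₄`: the standard trio, its stabiliser, and twisted complements. -/

set_option autoImplicit false
set_option maxRecDepth 100000

namespace Cfsg.Lib.SporChar.J4P

open Subgroup Cfsg.Lib.Spor Cfsg.Lib.Spor.MP Cfsg.Lib.Spor.Orb Cfsg.Lib.SporChar.J4B
open scoped Pointwise

/-- The element of `M₂₄` with a given code. -/
noncomputable def el (p : ℕ) : M24 :=
  if h : isM24 p = true then ⟨toPerm p, toPerm_mem_M24 h⟩ else 1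

theorem rep_el {p : ℕ} (h : isM24 p = true) : Rep (el p : Equiv.Perm GolayPt) p := by
  rw [el, dif_pos h]; exact rep_of_isM24 h

theorem eq_of_rep {σ τ : M24} {p q : ℕ} (hσ : Rep (σ : Equiv.Perm GolayPt) p)
    (hτ : Rep (τ : Equiv.Perm GolayPt) q) (e : peq p q = true) : σ = τ :=
  Subtype.ext (hσ.eq_of_peq hτ e)

theorem el_eq {σ : M24} {p : ℕ} (h : Rep (σ : Equiv.Perm GolayPt) p) : el p = σ :=
  Subtype.ext ((rep_el (h.mem_M24_iff.1 σ.2)).unique h)

/-- The generators of the presentation. -/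
def pX : ℕ := 111241787437866063242952155349835143
def pY : ℕ := 960136680728325392466536404181462048
/-- An element of order three permuting the octads of the standard trio. -/
def pR : ℕ := 69253356180225252197075797607691362
/-- Generators of the normaliser of `pR`. -/
def pN1 : ℕ := 483169085852929096619165889108559560
def pN2 : ℕ := 70566519249380971619634335862342386
/-- Generators of the stabiliser of the standard duad in that normaliser. -/
def pS1 : ℕ := 190172178411963657745597511174329577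
def pS2 : ℕ := 690748331669523037759675946470290912
/-- The involution attached to the standard duad. -/
def pE : ℕ := 877156681403690341711522003233216544
/-- The standard trio. -/
def t0 : ℕ := 3364234029133308926595

theorem rX : Rep (el pX : Equiv.Perm GolayPt) pX := rep_el (by decide +kernel)
theorem rY : Rep (el pY : Equiv.Perm GolayPt) pY := rep_el (by decide +kernel)
theorem rR : Rep (el pR : Equiv.Perm GolayPt) pR := rep_el (by decide +kernel)
theorem rN1 : Rep (el pN1 : Equiv.Perm GolayPt) pN1 := rep_el (by decide +kernel)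
theorem rN2 : Rep (el pN2 : Equiv.Perm GolayPt) pN2 := rep_el (by decide +kernel)
theorem rS1 : Rep (el pS1 : Equiv.Perm GolayPt) pS1 := rep_el (by decide +kernel)
theorem rS2 : Rep (el pS2 : Equiv.Perm GolayPt) pS2 := rep_el (by decide +kernel)
theorem rE : Rep (el pE : Equiv.Perm GolayPt) pE := rep_el (by decide +kernel)

/-- The stabiliser of the standard trio. -/
def KT : Subgroup (Equiv.Perm GolayPt) :=
  M24 ⊓ MulAction.stabilizer (Equiv.Perm GolayPt) (fam 3 t0)

/-- Membership test for `KT` of a code of an element of `M₂₄`. -/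
def inT (p : ℕ) : Bool := famFix 3 t0 p

theorem mem_KT {σ : M24} {p : ℕ} (h : Rep (σ : Equiv.Perm GolayPt) p) (e : inT p = true) :
    (σ : Equiv.Perm GolayPt) ∈ KT := ⟨σ.2, h.famFix_iff.1 e⟩

def certT : List Cfsg.Lib.Spor.PK.Cert :=
  [⟨2, [384, 577, 642, 1217, 514, 1089, 769, 1026, 833, 1282, 1, 258, 896, 450, 1154, 961, 320, 1409, 705, 1345,
    192, 65, 1473], [[1, 1, 0, 1, 2, 2], [0, 1, 1, 0, 2, 1, 1, 0]]⟩,
   ⟨0, [1281, 1088, 1217, 320, 961, 448, 65, 704, 1153, 1473, 768, 897, 1345, 832, 577], [[1, 0, 1, 0, 1, 0, 0,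
    1, 0, 1, 1, 0, 1, 1], [1, 0, 0, 1, 1, 0, 1]]⟩,
   ⟨1, [576, 961, 1216, 705, 448, 768], [[0, 1, 0, 0, 0, 1, 0, 1], [0, 0, 1]]⟩,
   ⟨4, [1409, 512, 641, 1025, 385], [[1, 1, 0, 1, 1], [0]]⟩,
   ⟨5, [1152, 1345, 1089], []⟩]

def certM : List Cfsg.Lib.Spor.PK.Cert :=
  [⟨0, [448, 513, 1088, 321, 705, 384, 960, 129, 1281, 1472, 640, 833, 1153, 192, 1024, 897, 1409, 577, 256,
    1344, 769, 1216, 64], [[0, 1, 1, 0, 1, 1, 0, 1, 0, 1, 0, 1, 1, 0, 1, 0, 1, 0], [0, 1, 1, 0, 1, 0, 1, 0, 1,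
    0, 1, 0, 1, 1, 0, 1, 1, 0, 1, 0]]⟩,
   ⟨2, [384, 257, 1088, 1473, 896, 577, 449, 1344, 1025, 192, 961, 705, 513, 1409, 1217, 1153, 1280, 769, 833,
    321, 641, 65], [[1, 1, 0, 1, 0, 1, 1, 0, 1], [0, 0, 1, 1, 0, 1, 0, 1, 1, 1, 0, 0]]⟩,
   ⟨1, [704, 321, 768, 577, 1024, 193, 256, 1217, 513, 960, 833, 897, 448, 385, 1345, 1473, 1408, 1152, 1088,
    1281, 640], [[1, 1, 1, 1, 0, 0, 0, 0, 0], [1, 1, 0, 0, 0]]⟩,
   ⟨3, [1088, 513, 1216, 1281, 448, 641, 832, 1345, 577, 960, 384, 1152, 1025, 1472, 321, 769, 1409, 897, 704,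
    257], [[0, 0, 1, 0, 0, 0, 1, 1, 1, 1], [1, 0, 1, 0, 1, 0, 1, 0, 0]]⟩,
   ⟨5, [896, 705, 1472, 577, 256, 1281, 1409, 768, 833, 1344, 384, 1025, 640, 1153, 1089, 961, 513, 448, 1217],
    [[1, 1, 0, 0, 1], [0, 1, 1, 0, 0, 1, 0], [1, 1, 0, 1, 0, 0, 1, 0, 0]]⟩,
   ⟨4, [1216, 1409, 1282, 576, 641, 1026, 768, 961, 1344, 513, 450, 385, 1154, 834, 704], [[1, 2]]⟩,
   ⟨6, [1024, 1344], []⟩]

theorem card_KT : Nat.card KT = 64512 := by
  have hT : fam 3 t0 ∈ trios := mem_trios_of (by decide +kernel)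
  have := card_stabilizer_M24 (A := trios) (x := fam 3 t0) fun y =>
    ⟨trans_trios hT, fun ⟨g, hg⟩ => hg ▸ smul_mem_trios' g hT⟩
  rw [ncard_trios, card_stabilizer_subgroup] at this
  rw [KT]; omega

theorem chainT : pclosure [pE, pN1, pN2] = KT ∧
    PK.Chain 9 24 idxPt KT (PK.lvls 9 24 certT ([pE, pN1, pN2].map toPK)) :=
  pk_chain_low (forall_of_all (f := fun t => isM24 t && inT t) (fun {t} h => by
      rw [Bool.and_eq_true] at h
      exact ⟨isPerm_of_isM24 h.1, toPerm_mem_M24 h.1, (rep_of_isM24 h.1).famFix_iff.1 h.2⟩)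
    (by decide +kernel)) (by decide +kernel) (by rw [card_KT]; decide +kernel)

theorem chainM : pclosure [pX, pY] = M24 ∧
    PK.Chain 9 24 idxPt M24 (PK.lvls 9 24 certM ([pX, pY].map toPK)) :=
  pk_chain_low (forall_of_all (f := isM24) inSub_M24 (by decide +kernel)) (by decide +kernel)
    (by rw [card_M24]; decide +kernel)

/-- A subgroup of `M₂₄` containing coded generators contains the group they generate. -/
theorem mem_of_pclosure {K : Subgroup M24} {gens : List ℕ} (hg : gens.all isM24 = true)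
    (h : ∀ t ∈ gens, el t ∈ K) {σ : M24} (hσ : (σ : Equiv.Perm GolayPt) ∈ pclosure gens) :
    σ ∈ K := by
  have : pclosure gens ≤ K.map M24.subtype := pclosure_le.2 fun t ht =>
    ⟨el t, h t ht, (rep_el (List.all_eq_true.1 hg t ht)).toPerm_eq.symm⟩
  obtain ⟨τ, h1, h2⟩ := this hσ
  rwa [← Subtype.ext h2]

/-- Pruning by invariant point sets. -/
def prL (Ls : List ℕ) (_ : List ℕ) (b _h z : ℕ) : Bool :=
  Ls.any fun m => xor (Nat.testBit m b) (Nat.testBit m z)

theorem srch_inv {Ls : List ℕ} {leaf : ℕ → Bool} (h : srch (prL Ls) leaf c24 [] pid = true)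
    {σ : Equiv.Perm GolayPt} (hσ : σ ∈ M24) (hL : ∀ m ∈ Ls, σ • maskSet m = maskSet m) :
    leaf (pack σ) = true :=
  chain_c24.srch (P := fun g => ∀ m ∈ Ls, g • maskSet m = maskSet m)
    (prSound_of fun _ b _ g hb _ hP => by
      rw [prL, List.any_eq_false]
      intro m hm
      have : g (idxPt b) ∈ maskSet m ↔ idxPt b ∈ maskSet m := by
        conv_lhs => rw [← hP m hm]
        exact apply_mem_perm_smul_finset
      rw [mem_maskSet, mem_maskSet, ptIdx_idxPt hb, ← Bool.eq_iff_iff] at this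
      simp [this]) h σ hσ hL

theorem fix_inv {σ : Equiv.Perm GolayPt} {gens : List ℕ}
    (h : ∀ t ∈ gens, InSub (centralizer {σ}) t) (prog : List ℕ) :
    ∀ m ∈ (slp prog gens).map fixM, σ • maskSet m = maskSet m := fun m hm => by
  obtain ⟨t, ht, rfl⟩ := List.mem_map.1 hm
  have h1 := inSub_slp prog h t ht
  rw [← h1.rep.filter_fixed, ← filter_fixed_conj, ← mem_centralizer_singleton_iff.1 h1.2,
    mul_inv_cancel_right]

theorem inSub_two {σ a b : Equiv.Perm GolayPt} {p q : ℕ} (ha : Rep a p) (hb : Rep b q)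
    (h1 : a * σ = σ * a) (h2 : b * σ = σ * b) : ∀ t ∈ [p, q], InSub (centralizer {σ}) t :=
  List.forall_mem_cons.2 ⟨ha.inSub (mem_centralizer_singleton_iff.2 h1), List.forall_mem_cons.2
    ⟨hb.inSub (mem_centralizer_singleton_iff.2 h2), fun _ h => absurd h List.not_mem_nil⟩⟩

theorem eq_one_of_comm {σ : Equiv.Perm GolayPt} (hσ : σ ∈ M24)
    (h1 : (el pN1 : Equiv.Perm GolayPt) * σ = σ * el pN1)
    (h2 : (el pN2 : Equiv.Perm GolayPt) * σ = σ * el pN2) : σ = 1 := by
  have r := rep_pack σ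
  have := srch_inv (leaf := fun q => !comm pN1 q || !comm pN2 q || peq q pid) (by decide +kernel)
    hσ (fix_inv (inSub_two rN1 rN2 h1 h2) [2, 2, 12292, 3, 16390, 3])
  rw [(rN1.comm_iff r).2 h1, (rN2.comm_iff r).2 h2] at this
  exact r.eq_of_peq rep_one this

/-- The permutation fixes every column. -/
def FixC (σ : Equiv.Perm GolayPt) : Prop := ∀ c ∈ colM, σ • maskSet c = maskSet c

/-- Test for `FixC`. -/
def fixC (p : ℕ) : Bool := colM.all fun c => Nat.beq (apM p c) c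

theorem fixC_iff {σ : Equiv.Perm GolayPt} {p : ℕ} (h : Rep σ p) : fixC p = true ↔ FixC σ := by
  rw [fixC, List.all_eq_true]
  refine forall₂_congr fun c hc => ?_
  rw [Nat.beq_eq, h.smul_maskSet_eq_iff c (by revert c; decide)]

theorem FixC.mem_KT {σ : M24} (h : FixC σ) : (σ : Equiv.Perm GolayPt) ∈ KT := by
  have key : ∀ i < 3, (σ : Equiv.Perm GolayPt) • maskSet (fld t0 i) = maskSet (fld t0 i) :=
    fun i hi => by
      have := allLT_iff.1 (by decide +kernel : (allLT 3 fun i => colM.any fun c =>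
        colM.any fun c' => Nat.beq (fld t0 i) (Nat.lor c c')) = true) i hi
      simp only [List.any_eq_true, Nat.beq_eq] at this
      obtain ⟨c, hc, c', hc', e⟩ := this
      rw [e, Nat.lor_eq, maskSet_or, perm_smul_finset_union, h c hc, h c' hc']
  refine ⟨σ.2, Finset.eq_of_subset_of_card_le (fun t ht => ?_) (by rw [Finset.card_smul_finset])⟩
  obtain ⟨u, hu, rfl⟩ := Finset.mem_smul_finset.1 ht
  obtain ⟨i, hi, rfl⟩ := mem_fam.1 hu
  exact mem_fam.2 ⟨i, hi, (key i hi).symm⟩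

/-- The code permutes the columns. -/
def perC (q : ℕ) : Bool := colM.all fun c => force (apM q c) fun m => colM.any (Nat.beq m)

theorem FixC.conj {ε σ : Equiv.Perm GolayPt} (h : FixC ε) {q : ℕ} (r : Rep σ q)
    (e : perC q = true) : FixC (σ⁻¹ * ε * σ) := fun c hc => by
  obtain ⟨c', hc', e'⟩ := List.any_eq_true.1 (List.all_eq_true.1 e c hc)
  rw [mul_smul, mul_smul, inv_smul_eq_iff, r.smul_maskSet, Nat.eq_of_beq_eq_true e', h c' hc']

theorem eq_or_of_comm {σ : M24} (h : FixC σ) (h0 : σ * σ = 1) (h1 : el pS1 * σ = σ * el pS1)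
    (h2 : el pS2 * σ = σ * el pS2) : σ = 1 ∨ σ = el pE := by
  have r := rep_pack (σ : Equiv.Perm GolayPt)
  have := srch_inv (Ls := colM ++ (slp [4098] [pS1, pS2]).map fixM)
    (leaf := fun q => !fixC q || !comm pS1 q || !comm pS2 q ||
      !peq (pmul q q) pid || peq q pid || peq q pE) (by decide +kernel) σ.2
    (List.forall_mem_append.2 ⟨h, fix_inv (inSub_two rS1 rS2 (congrArg Subtype.val h1)
      (congrArg Subtype.val h2)) _⟩)
  rw [(fixC_iff r).2 h, (rS1.comm_iff r).2 (congrArg Subtype.val h1),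
    (rS2.comm_iff r).2 (congrArg Subtype.val h2),
    ((r.mul r).eq_iff rep_one).1 (congrArg Subtype.val h0)] at this
  simp only [Bool.not_true, Bool.false_or, Bool.or_eq_true] at this
  exact this.imp (eq_of_rep r rep_one) (eq_of_rep r rE)

variable {G : Type*} [Group G] {V : Subgroup G} {v : Finset GolayPt → G}
  {ρ : G → Equiv.Perm GolayPt}

theorem even_tw (σ : Equiv.Perm GolayPt) (A : Finset GolayPt) : Even (symmDiff A (σ • A)).card :=
  J4B.even_symmDiff.2 (by rw [Finset.card_smul_finset])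

/-- The complement twisted by a set of points. -/
def tw (c : Coc V v ρ) (κ : M24 →* G) (hm : ∀ σ, κ σ ∈ normalizer (V : Set G))
    (hρ : ∀ σ, ρ (κ σ) = σ) (A : Finset GolayPt) : M24 →* G :=
  MonoidHom.mk' (fun σ => v (symmDiff A ((σ : Equiv.Perm GolayPt) • A)) * κ σ) fun σ τ => by
    have h := c.conj _ (hm σ) _ (even_tw τ A)
    rw [hρ, perm_smul_finset_symmDiff, ← mul_smul] at h
    have e : symmDiff A (((σ * τ : M24) : Equiv.Perm GolayPt) • A) =
        symmDiff (symmDiff A ((σ : Equiv.Perm GolayPt) • A)) (symmDiff ((σ : Equiv.Perm GolayPt) • A)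
          (((σ : Equiv.Perm GolayPt) * τ) • A)) := by
      rw [symmDiff_assoc, symmDiff_symmDiff_cancel_left]; rfl
    rw [e, c.mul, ← h, map_mul]; group

theorem tw_apply (c : Coc V v ρ) (κ : M24 →* G) (hm : ∀ σ, κ σ ∈ normalizer (V : Set G))
    (hρ : ∀ σ, ρ (κ σ) = σ) (A : Finset GolayPt) (σ : M24) :
    tw c κ hm hρ A σ = v (symmDiff A ((σ : Equiv.Perm GolayPt) • A)) * κ σ := rfl

/-- The frame with a complement. -/
structure Sq (z x : G) (Q : Subgroup G) (p : G → Equiv.Perm GolayPt) (v : Finset GolayPt → G)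
    (ρ : G → Equiv.Perm GolayPt) (κ : M24 →* G) : Prop extends Sp z x Q p v ρ κ

/-- The frame with an involution `t` centralizing the stabiliser of the standard trio. -/
structure Tri (z x : G) (Q : Subgroup G) (p : G → Equiv.Perm GolayPt) (v : Finset GolayPt → G)
    (ρ : G → Equiv.Perm GolayPt) (κ : M24 →* G) (t : G) : Prop extends Sq z x Q p v ρ κ where
  memQ : ∀ q ∈ Q, ∃ u ∈ toFr.V, ∃ σ : M24, σ * σ = 1 ∧ FixC σ ∧ q = u * κ σ
  κE : ∀ σ : M24, σ * σ = 1 → FixC σ → κ σ ∈ Q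
  cent_duad : ∀ A : Finset GolayPt, A.card = 2 →
    centralizer ({v A} : Set G) ≤ normalizer (toFr.V : Set G)
  invQ : ∀ q ∈ Q, q * q = 1 → ∃ k ∈ centralizer ({z} : Set G), k * q * k⁻¹ ∈ toFr.V
  ex : ∃ g, g * z * g⁻¹ = t ∧ g * x * g⁻¹ = κ (el pR)
  tz : t * z = z * t
  tκ : ∀ σ : M24, (σ : Equiv.Perm GolayPt) ∈ KT → t * κ σ = κ σ * t
  td : t * v (sm 3009) * t = v (sm 3009) * κ (el pE)

end Cfsg.Lib.SporChar.J4P
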