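import Cfsg.Agent.SporChar.WHol

/-! Generators and relations for groups with an involution centralizer `2^(1+6).U₄(2)`. -/

set_option autoImplicit false
set_option maxRecDepth 100000
set_option Elab.async false

namespace Cfsg.Lib.Spor.SzR

open Subgroup Bulk WF

/-- inverse letters -/
noncomputable def io : ℕ → ℕ :=
  getN 0 [0,1,2,3,4,5,6,7,8,9,10,11,12,13,14,16,15,17,18,19,20,21,23,22,25,24,26]

/-- conjugation by the fusing involution -/
noncomputable def nu : ℕ → ℕ :=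
  getN 0 [0,7,2,18,19,20,21,1,8,9,10,11,12,13,14,15,16,17,3,4,5,6,22,23,24,25,26]

/-- letters of inner automorphisms -/
noncomputable def al : ℕ → ℕ :=
  getN 0 [0,8,9,10,11,12,13,0,8,9,10,11,12,13,14,15,16,17,18,19,20,21,22,23,24,25,26]

/-- letters of the extraspecial group -/
def LQ : List ℕ :=
  [1,2,3,4,5,6,7]

/-- letters of automorphisms -/
def LA : List ℕ :=
  [8,9,10,11,12,13,14,15,16,18,19,20,21,22,23,24,25,26]

/-- letters of the centralizer -/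
def LH : List ℕ :=
  [1,2,3,4,5,6,7,15,16,18,19,20,21,22,23,24,25]

/-- letters of a subgroup of order 17280 -/
def LW : List ℕ :=
  [1,2,3,5,7,18,20,22,23,24,25,17]

/-- letters of the 3-local subgroup -/
def LK : List ℕ :=
  [1,2,3,5,7,18,20,22,23,24,25,17,26]

/-- relators of the extraspecial group of minus type -/
def rQ : List (List ℕ) :=
  [[7,2,1,2,1],[3,1,3,1],[4,1,4,1],[5,1,5,1],[6,1,6,1],[7,1,7,1],[3,2,3,2],[4,2,4,2],[5,2,5,2],[6,2,6,2],[7,2,7,
    2],[7,4,3,4,3],[7,5,3,5,3],[7,6,3,6,3],[7,3,7,3],[7,5,4,5,4],[7,6,4,6,4],[7,4,7,4],[7,6,5,6,5],[7,5,7,5],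
    [7,6,7,6]]

/-- relators of the extraspecial group of plus type -/
def rP : List (List ℕ) :=
  [[7,2,1,2,1],[3,1,3,1],[4,1,4,1],[5,1,5,1],[6,1,6,1],[7,1,7,1],[3,2,3,2],[4,2,4,2],[5,2,5,2],[6,2,6,2],[7,2,7,
    2],[7,4,3,4,3],[5,3,5,3],[6,3,6,3],[7,3,7,3],[5,4,5,4],[6,4,6,4],[7,4,7,4],[7,6,5,6,5],[7,5,7,5],[7,6,7,
    6]]

/-- squares -/
def rS : List (List ℕ) :=
  [[1,1],[2,2],[3,3],[4,4],[5,5],[6,6],[7,7]]

/-- action on the extraspecial group -/
def Uf1 : List (ℕ × List ℕ) :=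
  [(3,[4]),(4,[5]),(5,[6]),(6,[6,5,4,3])]

/-- action on the extraspecial group -/
def Uf2 : List (ℕ × List ℕ) :=
  [(1,[1]),(2,[2]),(7,[7])]

/-- action on the extraspecial group -/
def Um1 : List (ℕ × List ℕ) :=
  [(3,[3]),(4,[6,5,4,3]),(5,[5]),(6,[4])]

/-- action on the extraspecial group -/
def Um2 : List (ℕ × List ℕ) :=
  [(1,[1]),(2,[2]),(7,[7])]

/-- action on the extraspecial group -/
def Uy : List (ℕ × List ℕ) :=
  [(1,[7,3]),(2,[5,2]),(3,[3,1]),(4,[7,5,4,2,1]),(5,[7,2]),(6,[6,5,2,1]),(7,[7])]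

/-- action on the extraspecial group -/
def Up0 : List (ℕ × List ℕ) :=
  [(1,[1]),(2,[3,2]),(3,[3]),(4,[7,4,1]),(5,[7,5,1]),(6,[7,6,1]),(7,[7])]

/-- action on the extraspecial group -/
def Up1 : List (ℕ × List ℕ) :=
  [(1,[1]),(2,[4,2]),(3,[7,3,1]),(4,[4]),(5,[7,5,1]),(6,[7,6,1]),(7,[7])]

/-- action on the extraspecial group -/
def Up2 : List (ℕ × List ℕ) :=
  [(1,[1]),(2,[5,2]),(3,[7,3,1]),(4,[7,4,1]),(5,[5]),(6,[7,6,1]),(7,[7])]

/-- action on the extraspecial group -/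
def Up3 : List (ℕ × List ℕ) :=
  [(1,[1]),(2,[6,2]),(3,[7,3,1]),(4,[7,4,1]),(5,[7,5,1]),(6,[6]),(7,[7])]

/-- commutators -/
def EC : List (List ℕ × List ℕ) :=
  [([4,3,4,3],[7]),([5,3,5,3],[7]),([6,3,6,3],[7]),([5,4,5,4],[7]),([6,4,6,4],[7]),([6,5,6,5],[7])]

/-- orders -/
def EO : List (List ℕ × List ℕ) :=
  [([15,15,15,15,15],[]),([22,22,22],[]),([24,24,24],[]),([15,22,15,22],[])]

/-- conjugacy relations -/
def UW : List (List ℕ × ℕ × List ℕ × ℕ) :=
  [([18],24,[],24),([22],24,[],24),([5],25,[20],24),([19,24],22,[16,22,15,15,6],22),([21,24],22,[4,22,16,16,22,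
    16,22],22),([16,22,15,15,24],22,[16,22,15,15,20,2],22),([15,23,15,15,22,24],22,[15,23,15,15,22,20,2],22),
    ([22,16,16,22,16,22,24],22,[22,16,16,22,16,22,20,2],22),([16,16,22,16,22,15,15,1,2,24],24,[16,16,22,16,22,
    15,15,1,2],24)]

/-- actions -/
noncomputable def EA : List (List ℕ × List ℕ) :=
  actQ [15] (Uf1 ++ Uf2) ++ actQ [22] (Um1 ++ Um2) ++ actQ [24] Uy ++ actQ [18] Up0 ++
    actQ [19] Up1 ++ actQ [20] Up2 ++ actQ [21] Up3

/-- relations of the centralizer -/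
noncomputable def EH : List (List ℕ × List ℕ) :=
  EA ++ mapE nu (EC ++ actQ [15] Uf1 ++ actQ [22] Um1) ++ EO ++ wirtE io UW

/-- relators of the centralizer -/
noncomputable def rH : List (List ℕ) :=
  relOf io EH ++ rQ

/-- relations inside the centralizer -/
def EW0 : List (List ℕ × List ℕ) :=
  [([2,1,2,1],[7]),([3,1,3,1],[]),([5,1,5,1],[]),([18,1,18,1],[]),([20,1,20,1],[]),([7,1,7,1],[]),([3,2,3,2],
    []),([5,2,5,2],[]),([18,2,18,2],[3]),([20,2,20,2],[5]),([7,2,7,2],[]),([5,3,5,3],[7]),([18,3,18,3],[]),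
    ([20,3,20,3],[7,1]),([7,3,7,3],[]),([18,5,18,5],[7,1]),([20,5,20,5],[]),([7,5,7,5],[]),([20,18,20,18],
    [1]),([7,18,7,18],[]),([7,20,7,20],[]),([22,22,22],[]),([24,24,24],[]),([23,25,22,24],[]),([1,23,1,22],
    []),([2,23,2,22],[]),([3,23,3,22],[]),([5,23,5,22],[]),([18,23,18,22],[]),([20,23,20,22],[]),([7,23,7,22],
    []),([25,1,24],[7,3]),([25,2,24],[5,2]),([25,3,24],[3,1]),([25,5,24],[7,2]),([25,7,24],[7]),([25,18,24],
    [18]),([5,25,5],[20,24,20])]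

/-- relations inside the centralizer -/
def ET : List (List ℕ × List ℕ) :=
  [([26,22,26],[23]),([26,1,26],[1]),([26,2,26],[2]),([26,3,26],[5]),([26,5,26],[3]),([26,18,26],[20]),([26,20,
    26],[18]),([26,7,26],[7]),([2,1,26,25,26,1,2,25,2,1,26,24,26,1,2,24],[])]

/-- relations of the fusing involution -/
def En : List (List ℕ × List ℕ) :=
  [([17,1,17],[7]),([17,3,17],[18]),([17,5,17],[20]),([22,17],[17,22]),([2,17,2,17,2,17],[])]

/-- elements of orders 5 and 15 -/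
def E5 : List (List ℕ × List ℕ) :=
  [([24,17,24,17,24,17,24,17,24,17],[]),([24,17,24,17,5,24,17,24,17,5,24,17,24,17,5,24,17,24,17,5,24,17,24,17,5,
    22],[])]

/-- the 3-local relation -/
def E3 : List (List ℕ × List ℕ) :=
  [([26,17],[17,26]),([2,1,26,24,26,1,2,17,25,1,2,17,2,1,26,24,26,1,2,17,2,1,24,17],[17,25,1,2,17,2,1,26,24,26,
    1,2,17,2,1,24,17,2,1,26,24,26,1,2])]

/-- relators of the subgroup of order 17280 -/
noncomputable def rW : List (List ℕ) :=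
  relOf io (EW0 ++ En ++ E5)

/-- relators of the 3-local subgroup -/
noncomputable def rK : List (List ℕ) :=
  rW ++ relOf io (ET ++ E3)

/-- generators of a normal 2-subgroup -/
def W1 : List (List ℕ) :=
  [[1],[3],[18],[7],[16,22,15,15],[23,16,22,15,15,22],[5,4],[6,4],[20,19],[21,19]]

/-- generators of an elementary abelian group of order 16 -/
def WS : List (List ℕ) :=
  [[7],[1],[3],[18]]

/-- generators of an elementary abelian group of order 27 -/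
def WE : List (List ℕ) :=
  [[22],[24],[2,1,26,24,26,1,2]]

/-- action on a subgroup -/
def U1y : List (List ℕ × List (List ℕ)) :=
  [([1],[[7],[3]]),([3],[[3],[1]]),([18],[[18]]),([7],[[7]]),([16,22,15,15],[[16,22,15,15],[20,19],[5,4]]),([23,
    16,22,15,15,22],[[21,19],[6,4],[23,16,22,15,15,22],[18],[3]]),([5,4],[[5,4],[1]]),([6,4],[[6,4]]),([20,
    19],[[16,22,15,15],[6,4],[18]]),([21,19],[[23,16,22,15,15,22],[6,4],[5,4]])]

/-- action on a subgroup -/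
def U1c : List (List ℕ × List (List ℕ)) :=
  [([1],[[1]]),([3],[[7],[3]]),([18],[[7],[18],[1]]),([7],[[7]]),([16,22,15,15],[[5,4],[16,22,15,15]]),([23,16,
    22,15,15,22],[[23,16,22,15,15,22],[6,4],[3]]),([5,4],[[5,4],[7]]),([6,4],[[6,4]]),([20,19],[[20,19],[7],
    [1]]),([21,19],[[21,19]])]

/-- action on a subgroup -/
def U1m : List (List ℕ × List (List ℕ)) :=
  [([1],[[1]]),([3],[[3]]),([18],[[18]]),([7],[[7]]),([16,22,15,15],[[23,16,22,15,15,22]]),([23,16,22,15,15,22],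
    [[23,16,22,15,15,22],[16,22,15,15]]),([5,4],[[6,4],[7],[3]]),([6,4],[[5,4],[6,4],[3]]),([20,19],[[21,19],
    [18],[1]]),([21,19],[[20,19],[21,19],[18]])]

/-- action on a subgroup -/
def U1n : List (List ℕ × List (List ℕ)) :=
  [([1],[[7]]),([3],[[18]]),([18],[[3]]),([7],[[1]]),([16,22,15,15],[[16,22,15,15]]),([23,16,22,15,15,22],[[23,
    16,22,15,15,22]]),([5,4],[[20,19]]),([6,4],[[21,19]]),([20,19],[[5,4]]),([21,19],[[6,4]])]

/-- action on a subgroup -/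
def USy : List (List ℕ × List (List ℕ)) :=
  [([7],[[7]]),([1],[[3],[7]]),([3],[[3],[1]]),([18],[[18]])]

/-- action on a subgroup -/
def USc : List (List ℕ × List (List ℕ)) :=
  [([7],[[7]]),([1],[[1]]),([3],[[3],[7]]),([18],[[18],[1],[7]])]

/-- action on a subgroup -/
def USn : List (List ℕ × List (List ℕ)) :=
  [([7],[[1]]),([1],[[7]]),([3],[[18]]),([18],[[3]])]

/-- action on a subgroup -/
def UEp : List (List ℕ × List (List ℕ)) :=
  [([22],[[22]]),([24],[[24]]),([2,1,26,24,26,1,2],[[2,1,26,24,26,1,2],[2,1,26,24,26,1,2]])]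

/-- action on a subgroup -/
def UEt : List (List ℕ × List (List ℕ)) :=
  [([22],[[22]]),([24],[[24],[24]]),([2,1,26,24,26,1,2],[[2,1,26,24,26,1,2]])]

/-- further relations in the centralizer -/
def EX : List (List ℕ × List ℕ) :=
  [([26,26],[]),([22,2,1,26,24,26,1,2],[2,1,26,24,26,1,2,22]),([24,2,1,26,24,26,1,2],[2,1,26,24,26,1,2,24]),
    ([18,20,5],[20,5,18,7]),([19,5,21,4,3,3],[3,19,5,21,4,3]),([19,5,21,4,3,18],[18,19,5,21,4,3]),([19,5,21,4,
    3,5],[5,19,5,21,4,3]),([26,2,19,5,21,4,3,2,26],[23,23,19,5,21,4,3,22,22]),([19,5,21,4,3,22,19,5,21,4,3,22,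
    19,5,21,4,3,22],[]),([25,19,5,21,4,3,24],[5,23,16,22,15,15,22,5]),([20,23,16,22,15,15,22,20],[24,19,5,21,
    4,3,25])]

/-- actions on subgroups -/
noncomputable def EN : List (List ℕ × List ℕ) :=
  actE [24] U1y ++ actE [5] U1c ++ actE [22] U1m ++ actE [24] USy ++ actE [5] USc ++
    actE [18] UEp ++ actE [20,
    5] UEt

/-- an element of order 3 -/
def ES : List (List ℕ × List ℕ) :=
  [([17,2,1,24,17,17,2,1,24,17,17,2,1,24,17],[]),([7,17,2,1,24,17],[17,2,1,24,17,18]),([24,17,2,1,24,17],[17,2,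
    1,24,17,23,24]),([22,17,2,1,24,17],[17,2,1,24,17,22])]

/-- norms -/
def E5x : List (List ℕ × List ℕ) :=
  [([24,17,7,24,17,7,24,17,7,24,17,7,24,17,7],[24,17,24,17,24,17,24,17,24,17]),([24,17,1,24,17,1,24,17,1,24,17,
    1,24,17,1],[24,17,24,17,24,17,24,17,24,17]),([24,17,3,24,17,3,24,17,3,24,17,3,24,17,3],[24,17,24,17,24,17,
    24,17,24,17]),([24,17,18,24,17,18,24,17,18,24,17,18,24,17,18],[24,17,24,17,24,17,24,17,24,17]),([24,17,24,
    17,5,7,24,17,24,17,5,7,24,17,24,17,5,7,24,17,24,17,5,7,24,17,24,17,5,7],[24,17,24,17,5,24,17,24,17,5,24,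
    17,24,17,5,24,17,24,17,5,24,17,24,17,5]),([24,17,24,17,5,1,24,17,24,17,5,1,24,17,24,17,5,1,24,17,24,17,5,
    1,24,17,24,17,5,1],[24,17,24,17,5,24,17,24,17,5,24,17,24,17,5,24,17,24,17,5,24,17,24,17,5]),([24,17,24,17,
    5,3,24,17,24,17,5,3,24,17,24,17,5,3,24,17,24,17,5,3,24,17,24,17,5,3],[24,17,24,17,5,24,17,24,17,5,24,17,
    24,17,5,24,17,24,17,5,24,17,24,17,5]),([24,17,24,17,5,18,24,17,24,17,5,18,24,17,24,17,5,18,24,17,24,17,5,
    18,24,17,24,17,5,18],[24,17,24,17,5,24,17,24,17,5,24,17,24,17,5,24,17,24,17,5,24,17,24,17,5])]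

/-- the standard generators -/
noncomputable def SW : ℕ → List ℕ :=
  getN [] [[],[7],[5,18,3,24,17,24,2,26,24,17,24,26,2,24,17,24,24,17,24],[1],[25,26,18,20,24,22],[19,5,21,4,3],
    [7,5],[3]]

/-- standard relators inside the centralizer -/
def SRH : List (List ℕ) :=
  [[3,1,3,1],[4,1,4,1],[5,1,5,1],[6,1,6,1],[7,1,7,1],[4,3,4,3,4,3,4,3,4,3,4,3,4,3,4,3],[5,3,5,3],[6,3,6,3],[7,3,
    7,3],[5,4,5,4,5,4],[6,4,6,4],[7,4,7,4],[6,5,6,5],[7,5,7,5],[7,6,7,6,7,6,7,6],[3,4,3,4,3,4,3,4,1],[6,7,6,7,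
    1],[4,4],[5,5],[6,6]]

/-- standard relators inside the 3-local subgroup -/
def SRK : List (List ℕ) :=
  [[2,1,2,1,2,1,2,1,2,1],[3,2,3,2,3,2],[4,2,4,2],[6,2,6,2,6,2],[7,2,7,2,7,2],[6,3,2,1,6,3,2,1,6,3,2,1,6,3,2,1,6,
    3,2,1],[7,6,2,7,6,2,7,6,2,7,6,2,7,6,2],[2,2]]

/-- substitute the standard generators -/
noncomputable def flat : List (List ℕ) → List (List ℕ × List ℕ) :=
  mapL fun r => (r.flatMap SW, [])

/-- the central element of order 3 -/
noncomputable def Eb : List (List ℕ × List ℕ) :=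
  [((List.replicate 5 [4,3,4,3,2]).flatten.flatMap SW, [22])]


end Cfsg.Lib.Spor.SzR
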