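import Cfsg.Agent.SporChar.SzHolB

/-! Centralizers in the automorphism group of the extraspecial group. -/

set_option autoImplicit false
set_option maxRecDepth 100000
set_option Elab.async false

namespace Cfsg.Lib.Spor.SzR

open Subgroup Bulk WF

/-- permutation model -/
@[reducible] def MC : PM where
  w := 11
  n := 128
  cs := csH
  SW := [([[8],[9],[15]],
    [⟨2, [4224], [[2], [1]]⟩,
     ⟨1, [4161], [[0]]⟩,
     ⟨4, [3840, 2048, 1024, 512], []⟩])]

instance : NeZero MC.n := ⟨by decide⟩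

theorem MC_ok : MC.ok = true := by decide +kernel

theorem MC_subs : MC.subsOK = true := by decide +kernel

/-- a formula -/
def FC : Fx :=
  (.all 0 30 (.imp (.pe [1,30] 0 [30,1] 0) (.imp (.eq [30,9,30,9] []) (.or (.eq [30] []) (.eq [30]
    [8])))))

theorem MC_FC : MC.decx FC = true := by decide +kernel

theorem MC_com : MC.decx (Fx.ands (fun u => .eq (15 :: u) (u ++ [15])) (MC.W 0)) = true := by decide +kernel

/-- permutation model -/
@[reducible] def MK : PM where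
  w := 11
  n := 128
  cs := csH
  SW := [([[1],[2],[3],[4],[5],[6],[7]],
    [⟨0, [64, 129, 258, 515, 1028, 2053, 4102, 4289, 322, 579, 1092, 2117, 4166, 192, 386, 643, 1156, 2181, 4230,
    4867, 5380, 6405, 4358, 770, 5636, 6661, 4614, 1282, 1539, 7173, 5126, 2306, 2563, 3076, 6150, 4546, 4803,
    5316, 6341, 4931, 5444, 6469, 4422, 834, 5700, 6725, 4678, 1346, 1603, 7237, 5190, 2370, 2627, 3140, 6214,
    450, 707, 1220, 2245, 4995, 5508, 6533, 4486, 898, 5764, 6789, 4742, 1410, 1667, 7301, 5254, 2434, 2691,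
    3204, 6278, 5892, 6917, 1795, 7429, 2819, 3332, 7685, 3588, 963, 1476, 2501, 5058, 1732, 2757, 5570, 5827,
    3269, 6594, 6851, 7364, 5956, 6981, 1859, 7493, 2883, 3396, 7749, 3652, 6020, 7045, 1923, 7557, 2947,
    3460, 7813, 3716, 3845, 7940, 1988, 3013, 6083, 3525, 7107, 7620, 3781, 7876, 3909, 8004, 3973, 8068,
    8133, 4036], []⟩]),
   ([[1]],
    [⟨0, [64], []⟩]),
   ([[9,18,9],[9,19,9],[9,20,9],[9,21,9],[8]],
    [⟨2, [384, 641, 1154, 2179, 4228, 961, 1474, 2499, 4484, 5056, 1730, 2755, 4740, 5568, 5825, 3267, 5252, 6592,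
    6849, 7362, 6276, 1986, 3011, 6081, 3523, 7105, 7618, 3779, 7874, 3971, 8066], []⟩])]

instance : NeZero MK.n := ⟨by decide⟩

theorem MK_ok : MK.ok = true := by decide +kernel

theorem MK_subs : MK.subsOK = true := by decide +kernel

/-- a formula -/
def F6a : Fx :=
  (.all 0 30 (.imp (.pe [30,30] 0 [] 0) (.imp (.not (.pe [1,30] 0 [30,1] 0)) (.all 1 31 (.imp (.pe
    [3,31,30] 0 [30,3,31] 0) (.all 1 32 (.imp (.pe [6,5,4,3,32,30] 0 [30,6,5,4,3,32] 0) (.all 1 33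
    (.imp (.pe [5,33,30] 0 [30,5,33] 0) (.all 1 34 (.imp (.pe [4,34,30] 0 [30,4,34] 0) (.ex 2 35
    (.and (.pe [1,35,22] 0 [1] 0) (.and (.pe [2,35,22] 0 [30] 0) (.and (.pe [3,35,22] 0 [3,31] 0)
    (.and (.pe [4,35,22] 0 [6,5,4,3,32] 0) (.and (.pe [5,35,22] 0 [5,33] 0) (.and (.pe [6,35,22] 0
    [4,34] 0) (.pe [7,35,22] 0 [7] 0)))))))))))))))))))

/-- a formula -/
def F6b : Fx :=
  (.all 2 35 (.imp (.eq [35,22,35,22,35,22] []) (.imp (.or (.eq [15,35,22,15,35,22] []) (.eq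
    [15,35,22,15,35,22] [8])) (.eq [35] []))))

theorem MK_a : MK.decx F6a = true := by decide +kernel

theorem MK_b : MK.decx F6b = true := by decide +kernel

/-- permutation model -/
@[reducible] def MM : PM where
  w := 11
  n := 128
  cs := csH
  SW := [([[8],[9],[10],[12],[18],[20],[22],[24],[9,8,26,24,26,8,9]],
    [⟨2, [4224, 388, 1157, 5127, 264, 4484, 5253, 1031, 4360, 5573, 1095, 1476, 328, 4168, 4421, 5191, 72], [[4, 1,
    4], [5, 7], [0, 7, 8, 6, 8, 7, 5, 4], [8, 1, 8, 4]]⟩,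
     ⟨1, [4160, 4417, 5570, 1091, 321, 1474, 5187], [[0, 2, 2], [0, 3, 2, 1]]⟩,
     ⟨8, [7936, 2049, 4609, 3841, 6145], [[1, 1, 1]]⟩,
     ⟨4, [4352], []⟩]),
   ([[8],[10],[18]],
    [⟨2, [4224, 386, 4482], [[1]]⟩,
     ⟨8, [4608], []⟩]),
   ([[22],[24],[9,8,26,24,26,8,9]],
    [⟨8, [2048, 961, 5826, 3840, 2497, 3266, 3777, 3010], [[2, 1]]⟩,
     ⟨1, [5568, 4224], []⟩])]

instance : NeZero MM.n := ⟨by decide⟩

theorem MM_ok : MM.ok = true := by decide +kernel

theorem MM_subs : MM.subsOK = true := by decide +kernel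

/-- a formula -/
def FM : Fx :=
  (.bind 36 [9,8,26,24,26,8,9] (.all 0 30 (.and (.imp (.pe [1,30] 0 [30,1] 0) (.imp (.pe [3,30] 0
    [30,3] 0) (.imp (.pe [5,4,30] 0 [30,5,4] 0) (.imp (.eq [18,30] [30,18]) (.mem 1 [30]))))) (.imp
    (.pe [2,24,30] 0 [2,30,24] 0) (.imp (.eq [24,30] [30,24]) (.and (.imp (.eq [36,30] [30,36])
    (.mem 2 [30])) (.bind 31 [30,30,30] (.bind 32 [31,31,31] (.imp (.eq [32,32,32] []) (.mem 2
    [30]))))))))))

theorem MM_FM : MM.decx FM = true := by decide +kernel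

theorem MM_com : MM.decx (Fx.ands (fun u => .eq (22 :: u) (u ++ [22])) (MM.W 0)) = true := by decide +kernel


end Cfsg.Lib.Spor.SzR
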