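import Cfsg.Agent.SporChar.U43ModQ

/-! The involution centralizer of `U₄(3)`: a permutation model and facts. -/

set_option autoImplicit false
set_option maxRecDepth 100000
set_option linter.unusedSimpArgs false
set_option linter.unreachableTactic false
set_option linter.unusedTactic false
set_option maxHeartbeats 1000000

namespace Cfsg.Lib.Spor.U43

open Subgroup Bulk PK WF

open Tup

variable {G : Type*} [Group G] {T : Tup G}

/-- permutation model -/
@[reducible] def MH : PM where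
  w := 10
  n := 48
  cs := [1434204597284861733261354389686816475992472245865444846089389463825540173301020143879283970489997830670382558422339279932167562204775794627061760,
    1403748513867005912726956243995187181256778855575020160453785970308768081266170107659175493342008028745486306945989679248999766973111272063631370,
    976678895819546844298948613261226723557238618616968211577918734674781440531701918444996013096517616772845438783191345871568692717153755070494740,
    1159415047783966818697383269940222737696784758317928527224772306470044415736103240323063728880653892489024838200390360053394202354297631995351070,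
    1250961926092436867769733854860684093038862074850333319467408152341983997694373936515788450250368363581323479872791065764306166053030746065520680,
    1068225774128155202119051585410015051409225972604233037759223954102845795883521774690994885880592190788760671149999487003636627599756096532684850,
    1250961809684533633855725275915128865038290360856327926937566096670584683654352178065660876466023620332459726000191421708047738089617643096002590,
    1068225657720113659642566871295497005089362172188450606141925313755160854066200670058190286915099127396451573091995905656059856654286506803886100,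
    1281477435787107795026635758211056367101292672111613509766077050355464706343461939268283201524251046251506284896046709712183063462065408112107570,
    1098741283823020405607232888587731906880279167006806597985775545020006164499755905182172396744487267845008027054207626520965894389734021959567400,
    1129256764756982385178302213950809632468946852490930124346256714944019040735019268346513526180379308075590095345230866732218590702914592361687040,
    854348158816658351853691664472148750261476655226337273475689956268966268210417760937091775200106048485807004101155710465811135935934561465231420,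
    1250962158708888167764416783870579186522360614133041477811097208397601715201134378825893901011493617182110205862973611843300530385243082808371200,
    1159415367706435615620921277730530886430809085396849308940723287536265973141868147325482433849739727036846574314316998677269023463566097493534720,
    1220445804943968638416487259937068578371611180227025583311044519816653210199280707213279803789280924257459146523230829459614599389859829199769670,
    823833027192025789839399717043794684567969595685584745098228347865071876328999796798549790235155273828664149595130127227659311385237163532728400,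
    915498903451011480504550404684063725421150048927320453365882635687904470336235632521152502330227784042131264845403051491702152848279029395077200,
    1189930207942947791923938432936940919697856876385661067233456671595347630681312427119492221647957616575185681392069091530263113518557737978531910,
    1434204597284861733261354389686816475992472245865444846089389463825540173301020143879283970489997830670382558422339279932167562204775794627061760]
  SW := [([[1],[2],[3],[4],[5],[6],[7],[8],[9],[10],[11],[12],[13],[14],[15],[16],[17]],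
    [⟨0, [64, 193, 130, 323, 260, 394, 525, 462, 586, 717, 654, 771, 836, 1226, 1357, 1294, 1487, 1424, 906, 1037,
    974, 1167, 1104, 1738, 1806, 1872, 1546, 1614, 1680, 1987, 1924, 2125, 2062, 2255, 2192, 2378, 2314, 2509,
    2446, 2639, 2576, 2762, 2698, 2893, 2829, 3022, 2958], [[3, 7], [13, 9, 13]]⟩,
     ⟨4, [193, 128, 833, 769, 321], [[1, 1, 0, 1], [1, 0, 1, 1]]⟩,
     ⟨2, [192], [[1]]⟩,
     ⟨6, [576], []⟩]),
   ([[1],[2],[3],[4],[5],[6],[7],[8],[9],[10],[11]],
    [⟨0, [64, 193, 130, 323, 260, 394, 586, 771, 836, 1226, 906, 1738, 1546, 1987, 1924], [[9], [3, 7], [1, 5]]⟩,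
     ⟨4, [320], [[0, 2], [1]]⟩,
     ⟨2, [192], [[0, 1]]⟩,
     ⟨6, [576], []⟩]),
   ([[14],[16]],
    [⟨0, [512, 449], [[1, 0]]⟩,
     ⟨2, [832, 256], []⟩]),
   ([[1],[6,2],[8,4],[8,6,4],[10],[11]],
    [⟨0, [64, 195, 389, 131, 581, 1221, 901], [[4], [0, 5, 2, 5], [5, 4, 5]]⟩,
     ⟨4, [320], [[0, 1], [2]]⟩,
     ⟨2, [193], [[0]]⟩,
     ⟨6, [576], []⟩])]

instance : NeZero MH.n := ⟨by decide⟩

theorem MH_ok : MH.ok = true := by decide +kernel

theorem MH_subs : MH.subsOK = true := by decide +kernel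

theorem MH_W0 : sub T.H.g (MH.W 0) = T.sH :=
  H_sub (by decide +kernel)

theorem MH_W1 : sub T.H.g (MH.W 1) = T.sT :=
  H_sub (by decide +kernel)

theorem MH_W2 : sub T.H.g (MH.W 2) = T.sP :=
  H_sub (by decide +kernel)

theorem MH_W3 : sub T.H.g (MH.W 3) = sub T.g [[1], [6, 2], [8, 4], [8, 6, 4], [10], [11]] :=
  H_sub (by decide +kernel)

theorem MH_sat : MH.satB 19 io rH = true := by decide +kernel

theorem embH (h : Sat T.H.g 19 io rH) (hz : T.z ≠ 1) : Emb MH.m T.H.g :=
  PM.emb_of_ker MH_ok MH_subs (PM.exists_hom' MH_ok MH_subs MH_sat h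
    (fun l => (H_res l).imp And.left And.right) cardH_le (by decide +kernel)) (v := 20)
    (K := (.or (.eq [20] [1]) (.bind 21 [20,20] (.bind 22 [21,21] (.bind 23 [22,22] (.bind 24
      [20,21,22,23,23] (.or (.bind 25 [3,24,2,20] (.or (.eq [25] [1]) (.or (.eq [2,25] [25,2,1]) (.or
      (.eq [4,25] [25,4,1]) (.or (.eq [6,25] [25,6,1]) (.eq [8,25] [25,8,1])))))) (.or (.bind 25
      [5,24,4,20] (.or (.eq [25] [1]) (.or (.eq [2,25] [25,2,1]) (.or (.eq [4,25] [25,4,1]) (.or (.eq
      [6,25] [25,6,1]) (.eq [8,25] [25,8,1])))))) (.or (.bind 25 [7,24,6,20] (.or (.eq [25] [1]) (.or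
      (.eq [2,25] [25,2,1]) (.or (.eq [4,25] [25,4,1]) (.or (.eq [6,25] [25,6,1]) (.eq [8,25]
      [25,8,1])))))) (.bind 25 [9,24,8,20] (.or (.eq [25] [1]) (.or (.eq [2,25] [25,2,1]) (.or (.eq
      [4,25] [25,4,1]) (.or (.eq [6,25] [25,6,1]) (.eq [8,25] [25,8,1]))))))))))))))) rfl (by decide +kernel)
    (by simpa [Fm.sem, upd_apply, g_simp, hz] using hz.symm)

theorem card_sH (h : Emb MH.m T.H.g) : Nat.card T.sH = 1152 :=
  MH_W0 (T := T) ▸ PM.card_of_emb MH_ok MH_subs h 0

theorem card_sT (h : Emb MH.m T.H.g) : Nat.card T.sT = 128 :=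
  MH_W1 (T := T) ▸ PM.card_of_emb MH_ok MH_subs h 1

theorem card_sP (h : Emb MH.m T.H.g) : Nat.card T.sP = 9 :=
  MH_W2 (T := T) ▸ PM.card_of_emb MH_ok MH_subs h 2

theorem rt_rel (h : Emb MH.m T.H.g) : ∀ r ∈ rt, wv T.g r = 1 :=
  H_rel (PM.rels MH_ok MH_subs h rt (by decide +kernel)) (by decide +kernel)

theorem norm_P [Finite G] (h : Emb MH.m T.H.g) :
    sub T.g [[1, 10], [8, 11, 8]] ≤ normalizer (T.sP : Set G) :=
  H_sub (T := T) (W := [[1, 10], [8, 11, 8]]) (by decide) ▸ MH_W2 (T := T) ▸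
    PM.le_normalizer MH_ok MH_subs h [[1, 10], [8, 11, 8]] 2 (by decide +kernel)

theorem h_basic (h : Emb MH.m T.H.g) :
    T.w * T.z * T.w * T.z = 1 ∧ ¬ T.w * T.z = 1 ∧ ¬ T.w * T.z = T.z ∧ T.w * T.z * T.z = T.z * T.w *
    T.z ∧ T.d * T.v * T.d * T.z * T.w * T.z = T.w * T.z * T.d * T.v * T.d ∧ ¬ T.t = T.t⁻¹ ∧ T.x *
    T.x * T.x = 1 ∧ T.t = T.x * T.y := by
  have := PM.holds MH_ok MH_subs h (p := (.and (.eq [1,10,1,10] []) (.and (.not (.eq [1,10] [])) (.and (.not (.eq [1,10] [1])) (.and (.eq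
      [1,1,10] [1,10,1]) (.and (.eq [1,10,1,8,11,8] [8,11,8,1,10]) (.and (.not (.eq [12] [13])) (.and
      (.eq [14,14,14] []) (.eq [12] [16,14]))))))))) (by decide +kernel)
  simp only [Fm.sem, wv_cons, wv_nil, one_mul, upd_apply, Nat.reduceEqDiff, ↓reduceIte, g_simp, MH_W0, MH_W1,
    MH_W2, MH_W3] at this
  exact this

theorem h_R (h : Emb MH.m T.H.g) :
    ∀ p ∈ T.sH, p * T.s = T.s * p → (∃ r ∈ sub T.g [[1], [6, 2], [8, 4], [8, 6, 4], [10], [11]], r =
    p) := by
  have := PM.holds MH_ok MH_subs h (p := (.bind 40 [6,2] (.all 0 20 (.imp (.eq [40,20] [20,40]) (.ex 3 21 (.eq [21] [20])))))) (by decide +kernel)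
  simp only [Fm.sem, wv_cons, wv_nil, one_mul, upd_apply, Nat.reduceEqDiff, ↓reduceIte, g_simp, MH_W0, MH_W1,
    MH_W2, MH_W3] at this
  exact this

theorem h_P (h : Emb MH.m T.H.g) :
    ∀ r ∈ T.sP, r * r * r = 1 ∧ r * T.x = T.x * r ∧ r * T.y = T.y * r ∧ r * T.z = T.z * r := by
  have := PM.holds MH_ok MH_subs h (p := (.all 2 21 (.and (.eq [21,21,21] []) (.and (.eq [14,21] [21,14]) (.and (.eq [16,21] [21,16])
      (.eq [1,21] [21,1])))))) (by decide +kernel)
  simp only [Fm.sem, wv_cons, wv_nil, one_mul, upd_apply, Nat.reduceEqDiff, ↓reduceIte, g_simp, MH_W0, MH_W1,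
    MH_W2, MH_W3] at this
  exact this

theorem h_cP (h : Emb MH.m T.H.g) :
    ∀ p ∈ T.sH, T.x * p = p * T.x → T.y * p = p * T.y → (∃ r ∈ T.sP, p = r ∨ p = r * T.z) := by
  have := PM.holds MH_ok MH_subs h (p := (.all 0 20 (.imp (.eq [20,14] [14,20]) (.imp (.eq [20,16] [16,20]) (.ex 2 21 (.or (.eq [20]
      [21]) (.eq [20] [1,21]))))))) (by decide +kernel)
  simp only [Fm.sem, wv_cons, wv_nil, one_mul, upd_apply, Nat.reduceEqDiff, ↓reduceIte, g_simp, MH_W0, MH_W1,
    MH_W2, MH_W3] at this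
  exact this

theorem h_ct (h : Emb MH.m T.H.g) :
    ∀ p ∈ T.sH, p * T.t = T.t * p → ((¬ (p * p * p) = 1 ∧ (p * p * p) * (p * p * p) = 1) ∨ (∃ r ∈
    T.sP, (r = 1 ∨ r = T.t ∨ r = T.t * T.t) ∧ (p = r ∨ p = T.x * r ∨ p = T.x * T.x * r))) := by
  have := PM.holds MH_ok MH_subs h (p := (.all 0 20 (.imp (.eq [12,20] [20,12]) (.bind 22 [20,20,20] (.or (.and (.not (.eq [22] [])) (.eq
      [22,22] [])) (.ex 2 21 (.and (.or (.eq [21] []) (.or (.eq [21] [12]) (.eq [21] [12,12]))) (.or
      (.eq [20] [21]) (.or (.eq [20] [21,14]) (.eq [20] [21,14,14])))))))))) (by decide +kernel)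
  simp only [Fm.sem, wv_cons, wv_nil, one_mul, upd_apply, Nat.reduceEqDiff, ↓reduceIte, g_simp, MH_W0, MH_W1,
    MH_W2, MH_W3] at this
  exact this

theorem h_nP (h : Emb MH.m T.H.g) :
    ∀ p ∈ T.sH, (∃ r ∈ T.sP, (p * T.x) = r * p) → (∃ r ∈ T.sP, p * T.y = r * p) → (∀ r ∈ T.sP, p * p
    * r = r * p * p) := by
  have := PM.holds MH_ok MH_subs h (p := (.all 0 20 (.bind 22 [14,20] (.imp (.ex 2 21 (.eq [22] [20,21])) (.imp (.ex 2 21 (.eq [16,20]
      [20,21])) (.all 2 21 (.eq [21,20,20] [20,20,21]))))))) (by decide +kernel)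
  simp only [Fm.sem, wv_cons, wv_nil, one_mul, upd_apply, Nat.reduceEqDiff, ↓reduceIte, g_simp, MH_W0, MH_W1,
    MH_W2, MH_W3] at this
  exact this

theorem h_inv (h : Emb MH.m T.H.g) :
    ∀ p ∈ T.sT, p * p = 1 → (p = 1 ∨ p = T.z ∨ (∃ r ∈ T.sH, r * T.s = (p * r) ∨ r * T.w = (p * r) ∨
    r * T.v = (p * r))) := by
  have := PM.holds MH_ok MH_subs h (p := (.bind 40 [6,2] (.all 1 20 (.imp (.eq [20,20] []) (.or (.eq [20] []) (.or (.eq [20] [1]) (.ex 0
      21 (.bind 22 [21,20] (.or (.eq [40,21] [22]) (.or (.eq [10,21] [22]) (.eq [11,21] [22]))))))))))) (by decide +kernel)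
  simp only [Fm.sem, wv_cons, wv_nil, one_mul, upd_apply, Nat.reduceEqDiff, ↓reduceIte, g_simp, MH_W0, MH_W1,
    MH_W2, MH_W3] at this
  exact this

/-- The centralizer of `z` and an involution `n` interchanging `z` and `s`. -/
structure HT (T : Tup G) : Prop where
  sat : Sat T.H.g 19 io rH
  ne : T.z ≠ 1
  cent : T.sH = centralizer {T.z}
  n2 : T.n * T.n = 1
  nz : T.n * T.z * T.n = T.s

theorem HT.emb (h : HT T) : Emb MH.m T.H.g := embH h.sat h.ne

theorem swap_of {n a b : G} (h : n * n = 1) (e : n * a * n = b) : n * b * n = a := by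
  calc _ = n * n * a * (n * n) := by rw [← e]; group
    _ = a := by rw [h, one_mul, mul_one]

theorem HT.act7 (h : HT T) {C B C' B' : List ℕ} (e : T.n * wv T.H.g C * T.n = wv T.H.g B)
    (e' : T.n * wv T.H.g C' * T.n = wv T.H.g B') :
    Act (sg T.H.g [[], [1], [6, 2], C, B, C', B']) T.n [[], [2], [1], [4], [3], [6], [5]] := by
  refine Act.of_lt (by simp) fun l hl => ?_
  rw [inv_eq_of_mul_eq_one_right h.n2]
  change l < 7 at hl
  interval_cases l <;> simp only [sg, List.getD_cons_succ, List.getD_cons_zero, wv_cons, wv_nil,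
    one_mul, mul_one, g_simp]
  exacts [h.n2, h.nz, swap_of h.n2 h.nz, e, swap_of h.n2 e, e', swap_of h.n2 e']

theorem HT.act5 (h : HT T) {C B : List ℕ} (e : T.n * wv T.H.g C * T.n = wv T.H.g B) :
    Act (sg T.H.g [[], [1], [6, 2], C, B]) T.n [[], [2], [1], [4], [3]] := by
  refine Act.of_lt (by simp) fun l hl => ?_
  rw [inv_eq_of_mul_eq_one_right h.n2]
  change l < 5 at hl
  interval_cases l <;> simp only [sg, List.getD_cons_succ, List.getD_cons_zero, wv_cons, wv_nil,
    one_mul, mul_one, g_simp]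
  exacts [h.n2, h.nz, swap_of h.n2 h.nz, e, swap_of h.n2 e]

theorem HT.fix (h : HT T) {D W W' : List (List ℕ)} {x m : G} (a : Act (sg T.H.g D) x W)
    (b : Act (sg T.H.g D) m W') (c : x * m = m * x) (Ls : List (List ℕ))
    (hd : (D.getD 1 [] = [1] ∧ W'.getD 1 [] = [1] ∧ D.getD 2 [] = [6, 2] ∧ W'.getD 2 [] = [2]) ∧
      (∀ L ∈ D, 20 ∉ L) ∧ MH.dec (fixFm D W W' Ls 3) = true) : Ls ≠ [] ∧ m = 1 := by
  refine PM.fix MH_ok MH_subs h.emb a b c Ls ?_ hd.2
  have h1 := b 1
  have h2 := b 2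
  simp only [sg, hd.1, wv_cons, wv_nil, one_mul, g_simp] at h1 h2
  obtain ⟨r, hr, rfl⟩ := h_R h.emb m (h.cent ▸ mem_centralizer_singleton_iff.2
    (mul_inv_eq_iff_eq_mul.1 h1)) (mul_inv_eq_iff_eq_mul.1 h2)
  rwa [MH_W3]

theorem HT.case0 (h : HT T) (h1 : T.n * T.c1 * T.n = T.w) (h2 : T.n * T.c2 * T.n = T.v) :
    False := by
  have an := h.act7 (C := [8, 4]) (B := [10]) (C' := [8, 6, 4]) (B' := [11])
    (by simpa [g_simp, mul_assoc] using h1) (by simpa [g_simp, mul_assoc] using h2)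
  have aq := PM.act MH_ok MH_subs h.emb (D := [[],[1],[6,2],[8,4],[10],[8,6,4],[11]])
    (W := [[],[1],[2,1],[3,1],[4,3,2,1],[5,1],[6,5,2,1]]) [6,4] (by decide +kernel)
  have a1 := PM.red MH_ok MH_subs h.emb (an.mul aq)
    [[],[2],[2,1],[4,2],[4,3,2,1],[6,2],[6,5,2,1]] (by decide +kernel)
  have a2 := PM.red MH_ok MH_subs h.emb (a1.mul a1)
    [[],[2,1],[1],[4,3],[3],[6,5],[5]] (by decide +kernel)
  have a3 := PM.red MH_ok MH_subs h.emb (a2.mul a1)
    [[],[1],[2],[3,1],[4,2],[5,1],[6,2]] (by decide +kernel)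
  have := h.fix a1 a3 (by group)
    [] (by decide +kernel)
  exact this.1 rfl

theorem HT.case1 (h : HT T) (h1 : T.n * T.c1 * T.n = T.w) (h2 : T.n * T.c2 * T.n = T.v * T.s) :
    False := by
  have an := h.act7 (C := [8, 4]) (B := [10]) (C' := [8, 6, 4]) (B' := [6, 2, 11])
    (by simpa [g_simp, mul_assoc] using h1) (by simpa [g_simp, mul_assoc] using h2)
  have aq := PM.act MH_ok MH_subs h.emb (D := [[],[1],[6,2],[8,4],[10],[8,6,4],[6,2,11]])
    (W := [[],[1],[2,1],[3,1],[4,3,2,1],[5,1],[6,5,2]]) [6,4] (by decide +kernel)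
  have a1 := PM.red MH_ok MH_subs h.emb (an.mul aq)
    [[],[2],[2,1],[4,2],[4,3,2,1],[6,2],[6,5,1]] (by decide +kernel)
  have a2 := PM.red MH_ok MH_subs h.emb (a1.mul a1)
    [[],[2,1],[1],[4,3],[3],[6,5,2],[5,1]] (by decide +kernel)
  have a3 := PM.red MH_ok MH_subs h.emb (a2.mul a1)
    [[],[1],[2],[3,1],[4,2],[5],[6]] (by decide +kernel)
  have := h.fix a1 a3 (by group)
    [] (by decide +kernel)
  exact this.1 rfl

theorem HT.case2 (h : HT T) (h1 : T.n * T.c1 * T.n = T.w * T.s) (h2 : T.n * T.c2 * T.n = T.v) :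
    False := by
  have an := h.act7 (C := [8, 4]) (B := [6, 2, 10]) (C' := [8, 6, 4]) (B' := [11])
    (by simpa [g_simp, mul_assoc] using h1) (by simpa [g_simp, mul_assoc] using h2)
  have aq := PM.act MH_ok MH_subs h.emb (D := [[],[1],[6,2],[8,4],[6,2,10],[8,6,4],[11]])
    (W := [[],[1],[2,1],[3,1],[4,3,2],[5,1],[6,5,2,1]]) [6,4] (by decide +kernel)
  have a1 := PM.red MH_ok MH_subs h.emb (an.mul aq)
    [[],[2],[2,1],[4,2],[4,3,1],[6,2],[6,5,2,1]] (by decide +kernel)
  have a2 := PM.red MH_ok MH_subs h.emb (a1.mul a1)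
    [[],[2,1],[1],[4,3,2],[3,1],[6,5],[5]] (by decide +kernel)
  have a3 := PM.red MH_ok MH_subs h.emb (a2.mul a1)
    [[],[1],[2],[3],[4],[5,1],[6,2]] (by decide +kernel)
  have := h.fix a1 a3 (by group)
    [] (by decide +kernel)
  exact this.1 rfl

theorem HT.case3 (h : HT T) (h1 : T.n * T.c1 * T.n = T.w * T.s) (h2 : T.n * T.c2 * T.n = T.v * T.s) :
    wv T.g [6, 4, 18, 6, 4, 18, 6, 4, 18] = 1 := by
  have an := h.act7 (C := [8, 4]) (B := [6, 2, 10]) (C' := [8, 6, 4]) (B' := [6, 2, 11])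
    (by simpa [g_simp, mul_assoc] using h1) (by simpa [g_simp, mul_assoc] using h2)
  have aq := PM.act MH_ok MH_subs h.emb (D := [[],[1],[6,2],[8,4],[6,2,10],[8,6,4],[6,2,11]])
    (W := [[],[1],[2,1],[3,1],[4,3,2],[5,1],[6,5,2]]) [6,4] (by decide +kernel)
  have a1 := PM.red MH_ok MH_subs h.emb (an.mul aq)
    [[],[2],[2,1],[4,2],[4,3,1],[6,2],[6,5,1]] (by decide +kernel)
  have a2 := PM.red MH_ok MH_subs h.emb (a1.mul a1)
    [[],[2,1],[1],[4,3,2],[3,1],[6,5,2],[5,1]] (by decide +kernel)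
  have a3 := PM.red MH_ok MH_subs h.emb (a2.mul a1)
    [[],[1],[2],[3],[4],[5],[6]] (by decide +kernel)
  have := h.fix a1 a3 (by group)
    [[], [1], [2], [2, 1]] (by decide +kernel)
  simpa [g_simp, mul_assoc] using this.2

theorem HT.case4 (h : HT T) (h1 : T.n * T.c1 * T.n = T.v) (h2 : T.n * T.c2 * T.n = T.w) :
    False := by
  have an := h.act7 (C := [8, 4]) (B := [11]) (C' := [8, 6, 4]) (B' := [10])
    (by simpa [g_simp, mul_assoc] using h1) (by simpa [g_simp, mul_assoc] using h2)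
  have aq := PM.act MH_ok MH_subs h.emb (D := [[],[1],[6,2],[8,4],[11],[8,6,4],[10]])
    (W := [[],[1],[2,1],[3,1],[5,4,2,1],[5,1],[6,3,2,1]]) [6,4] (by decide +kernel)
  have a1 := PM.red MH_ok MH_subs h.emb (an.mul aq)
    [[],[2],[2,1],[4,2],[6,3,2,1],[6,2],[5,4,2,1]] (by decide +kernel)
  have a2 := PM.red MH_ok MH_subs h.emb (a1.mul a1)
    [[],[2,1],[1],[6,3],[5],[5,4],[3]] (by decide +kernel)
  have a3 := PM.red MH_ok MH_subs h.emb (a2.mul a1)
    [[],[1],[2],[5,1],[6,2],[3,1],[4,2]] (by decide +kernel)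
  have := h.fix a1 a3 (by group)
    [] (by decide +kernel)
  exact this.1 rfl

theorem HT.case5 (h : HT T) (h1 : T.n * T.c1 * T.n = T.v * T.s) (h2 : T.n * T.c2 * T.n = T.w) :
    False := by
  have an := h.act7 (C := [8, 4]) (B := [6, 2, 11]) (C' := [8, 6, 4]) (B' := [10])
    (by simpa [g_simp, mul_assoc] using h1) (by simpa [g_simp, mul_assoc] using h2)
  have aq := PM.act MH_ok MH_subs h.emb (D := [[],[1],[6,2],[8,4],[6,2,11],[8,6,4],[10]])
    (W := [[],[1],[2,1],[3,1],[5,4,2],[5,1],[6,3,2,1]]) [6,4] (by decide +kernel)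
  have a1 := PM.red MH_ok MH_subs h.emb (an.mul aq)
    [[],[2],[2,1],[4,2],[6,3,1],[6,2],[5,4,2,1]] (by decide +kernel)
  have a2 := PM.red MH_ok MH_subs h.emb (a1.mul a1)
    [[],[2,1],[1],[6,3,2],[5,2,1],[5,4],[3,2]] (by decide +kernel)
  have a3 := PM.red MH_ok MH_subs h.emb (a2.mul a1)
    [[],[1],[2],[5,2],[6,2,1],[3,2,1],[4,1]] (by decide +kernel)
  have := h.fix a1 a3 (by group)
    [] (by decide +kernel)
  exact this.1 rfl

theorem HT.case6 (h : HT T) (h1 : T.n * T.c1 * T.n = T.v) (h2 : T.n * T.c2 * T.n = T.w * T.s) :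
    False := by
  have an := h.act7 (C := [8, 4]) (B := [11]) (C' := [8, 6, 4]) (B' := [6, 2, 10])
    (by simpa [g_simp, mul_assoc] using h1) (by simpa [g_simp, mul_assoc] using h2)
  have aq := PM.act MH_ok MH_subs h.emb (D := [[],[1],[6,2],[8,4],[11],[8,6,4],[6,2,10]])
    (W := [[],[1],[2,1],[3,1],[5,4,2,1],[5,1],[6,3,2]]) [6,4] (by decide +kernel)
  have a1 := PM.red MH_ok MH_subs h.emb (an.mul aq)
    [[],[2],[2,1],[4,2],[6,3,2,1],[6,2],[5,4,1]] (by decide +kernel)
  have a2 := PM.red MH_ok MH_subs h.emb (a1.mul a1)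
    [[],[2,1],[1],[6,3],[5,2],[5,4,2],[3,2,1]] (by decide +kernel)
  have a3 := PM.red MH_ok MH_subs h.emb (a2.mul a1)
    [[],[1],[2],[5,2,1],[6,1],[3,2],[4,2,1]] (by decide +kernel)
  have := h.fix a1 a3 (by group)
    [] (by decide +kernel)
  exact this.1 rfl

theorem HT.case7 (h : HT T) (h1 : T.n * T.c1 * T.n = T.v * T.s) (h2 : T.n * T.c2 * T.n = T.w * T.s) :
    False := by
  have an := h.act7 (C := [8, 4]) (B := [6, 2, 11]) (C' := [8, 6, 4]) (B' := [6, 2, 10])
    (by simpa [g_simp, mul_assoc] using h1) (by simpa [g_simp, mul_assoc] using h2)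
  have aq := PM.act MH_ok MH_subs h.emb (D := [[],[1],[6,2],[8,4],[6,2,11],[8,6,4],[6,2,10]])
    (W := [[],[1],[2,1],[3,1],[5,4,2],[5,1],[6,3,2]]) [6,4] (by decide +kernel)
  have a1 := PM.red MH_ok MH_subs h.emb (an.mul aq)
    [[],[2],[2,1],[4,2],[6,3,1],[6,2],[5,4,1]] (by decide +kernel)
  have a2 := PM.red MH_ok MH_subs h.emb (a1.mul a1)
    [[],[2,1],[1],[6,3,2],[5,1],[5,4,2],[3,1]] (by decide +kernel)
  have a3 := PM.red MH_ok MH_subs h.emb (a2.mul a1)
    [[],[1],[2],[5],[6],[3],[4]] (by decide +kernel)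
  have := h.fix a1 a3 (by group)
    [] (by decide +kernel)
  exact this.1 rfl

theorem HT.five10 (h : HT T) (h1 : T.n * T.c1 * T.n = T.w * T.s) :
    wv T.g [12, 18, 12, 18, 12, 18, 12, 18, 12, 18] = 1 := by
  have an := h.act5 (C := [8, 4]) (B := [6, 2, 10]) (by simpa [g_simp, mul_assoc] using h1)
  have ay := PM.act MH_ok MH_subs h.emb (D := [[],[1],[6,2],[8,4],[6,2,10]])
    (W := [[],[1],[3],[3,2],[4,3,2]]) [12] (by decide +kernel)
  have a1 := PM.red MH_ok MH_subs h.emb (an.mul ay)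
    [[],[2],[4],[4,1],[4,3,1]] (by decide +kernel)
  have a2 := PM.red MH_ok MH_subs h.emb (a1.mul a1)
    [[],[4],[4,3,1],[4,3,2,1],[3,2]] (by decide +kernel)
  have a4 := PM.red MH_ok MH_subs h.emb (a2.mul a2)
    [[],[3,2],[1],[4,3],[2]] (by decide +kernel)
  have a5 := PM.red MH_ok MH_subs h.emb (a4.mul a1)
    [[],[1],[2],[3],[4]] (by decide +kernel)
  have := h.fix a1 a5 (by group)
    [[], [1], [2], [3], [4], [2, 1], [3, 1], [3, 2], [4, 1], [4, 2], [4, 3], [3, 2, 1], [4, 2, 1],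
    [4, 3, 1], [4, 3, 2], [4, 3, 2, 1]] (by decide +kernel)
  simpa [g_simp, mul_assoc] using this.2

theorem HT.five11 (h : HT T) (h1 : T.n * T.c1 * T.n = T.w * T.s) :
    wv T.g [12, 18, 12, 18, 2, 12, 18, 12, 18, 2, 12, 18, 12, 18, 2, 12, 18, 12, 18, 2, 12, 18, 12, 18, 2] = 1 := by
  have an := h.act5 (C := [8, 4]) (B := [6, 2, 10]) (by simpa [g_simp, mul_assoc] using h1)
  have ay := PM.act MH_ok MH_subs h.emb (D := [[],[1],[6,2],[8,4],[6,2,10]])
    (W := [[],[1],[3],[3,2],[4,3,2]]) [12] (by decide +kernel)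
  have a1 := PM.red MH_ok MH_subs h.emb (an.mul ay)
    [[],[2],[4],[4,1],[4,3,1]] (by decide +kernel)
  have aa := PM.act MH_ok MH_subs h.emb (D := [[],[1],[6,2],[8,4],[6,2,10]])
    (W := [[],[1],[2],[3,1],[4,2,1]]) [2] (by decide +kernel)
  have b1 := PM.red MH_ok MH_subs h.emb (a1.mul a1)
    [[],[4],[4,3,1],[4,3,2,1],[3,2]] (by decide +kernel)
  have a1 := PM.red MH_ok MH_subs h.emb (aa.mul b1)
    [[],[4,2,1],[4,3,2,1],[4,3,1],[3,2,1]] (by decide +kernel)
  have a2 := PM.red MH_ok MH_subs h.emb (a1.mul a1)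
    [[],[2,1],[4,3,2],[1],[4,1]] (by decide +kernel)
  have a4 := PM.red MH_ok MH_subs h.emb (a2.mul a2)
    [[],[4,3,1],[3,2],[2,1],[4,2]] (by decide +kernel)
  have a5 := PM.red MH_ok MH_subs h.emb (a4.mul a1)
    [[],[1],[2],[3],[4]] (by decide +kernel)
  have := h.fix a1 a5 (by group)
    [[], [1], [2], [3], [4], [2, 1], [3, 1], [3, 2], [4, 1], [4, 2], [4, 3], [3, 2, 1], [4, 2, 1],
    [4, 3, 1], [4, 3, 2], [4, 3, 2, 1]] (by decide +kernel)
  simpa [g_simp, mul_assoc] using this.2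

theorem HT.five20 (h : HT T) (h1 : T.n * T.c2 * T.n = T.v * T.s) :
    wv T.g [11, 14, 11, 14, 18, 11, 14, 11, 14, 18, 11, 14, 11, 14, 18, 11, 14, 11, 14, 18, 11, 14, 11, 14,
    18] = 1 := by
  have an := h.act5 (C := [8, 6, 4]) (B := [6, 2, 11]) (by simpa [g_simp, mul_assoc] using h1)
  have ay := PM.act MH_ok MH_subs h.emb (D := [[],[1],[6,2],[8,6,4],[6,2,11]])
    (W := [[],[1],[3],[3,2],[4,3,2]]) [11,14,11,14] (by decide +kernel)
  have a1 := PM.red MH_ok MH_subs h.emb (an.mul ay)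
    [[],[2],[4],[4,1],[4,3,1]] (by decide +kernel)
  have a2 := PM.red MH_ok MH_subs h.emb (a1.mul a1)
    [[],[4],[4,3,1],[4,3,2,1],[3,2]] (by decide +kernel)
  have a4 := PM.red MH_ok MH_subs h.emb (a2.mul a2)
    [[],[3,2],[1],[4,3],[2]] (by decide +kernel)
  have a5 := PM.red MH_ok MH_subs h.emb (a4.mul a1)
    [[],[1],[2],[3],[4]] (by decide +kernel)
  have := h.fix a1 a5 (by group)
    [[], [1], [2], [3], [4], [2, 1], [3, 1], [3, 2], [4, 1], [4, 2], [4, 3], [3, 2, 1], [4, 2, 1],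
    [4, 3, 1], [4, 3, 2], [4, 3, 2, 1]] (by decide +kernel)
  simpa [g_simp, mul_assoc] using this.2

theorem HT.five21 (h : HT T) (h1 : T.n * T.c2 * T.n = T.v * T.s) :
    wv T.g [11, 14, 11, 14, 18, 11, 14, 11, 14, 18, 2, 11, 14, 11, 14, 18, 11, 14, 11, 14, 18, 2, 11, 14,
    11, 14, 18, 11, 14, 11, 14, 18, 2, 11, 14, 11, 14, 18, 11, 14, 11, 14, 18, 2, 11, 14, 11, 14,
    18, 11, 14, 11, 14, 18, 2] = 1 := by
  have an := h.act5 (C := [8, 6, 4]) (B := [6, 2, 11]) (by simpa [g_simp, mul_assoc] using h1)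
  have ay := PM.act MH_ok MH_subs h.emb (D := [[],[1],[6,2],[8,6,4],[6,2,11]])
    (W := [[],[1],[3],[3,2],[4,3,2]]) [11,14,11,14] (by decide +kernel)
  have a1 := PM.red MH_ok MH_subs h.emb (an.mul ay)
    [[],[2],[4],[4,1],[4,3,1]] (by decide +kernel)
  have aa := PM.act MH_ok MH_subs h.emb (D := [[],[1],[6,2],[8,6,4],[6,2,11]])
    (W := [[],[1],[2],[3,1],[4,2,1]]) [2] (by decide +kernel)
  have b1 := PM.red MH_ok MH_subs h.emb (a1.mul a1)
    [[],[4],[4,3,1],[4,3,2,1],[3,2]] (by decide +kernel)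
  have a1 := PM.red MH_ok MH_subs h.emb (aa.mul b1)
    [[],[4,2,1],[4,3,2,1],[4,3,1],[3,2,1]] (by decide +kernel)
  have a2 := PM.red MH_ok MH_subs h.emb (a1.mul a1)
    [[],[2,1],[4,3,2],[1],[4,1]] (by decide +kernel)
  have a4 := PM.red MH_ok MH_subs h.emb (a2.mul a2)
    [[],[4,3,1],[3,2],[2,1],[4,2]] (by decide +kernel)
  have a5 := PM.red MH_ok MH_subs h.emb (a4.mul a1)
    [[],[1],[2],[3],[4]] (by decide +kernel)
  have := h.fix a1 a5 (by group)
    [[], [1], [2], [3], [4], [2, 1], [3, 1], [3, 2], [4, 1], [4, 2], [4, 3], [3, 2, 1], [4, 2, 1],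
    [4, 3, 1], [4, 3, 2], [4, 3, 2, 1]] (by decide +kernel)
  simpa [g_simp, mul_assoc] using this.2

end Cfsg.Lib.Spor.U43
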