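import Cfsg.Agent.SporChar.U43Defs

/-! The groups `Q₈ ∘ Q₈` and `SL₂(3) ∘ SL₂(3)`: permutation models and facts. -/

set_option autoImplicit false
set_option maxRecDepth 100000
set_option linter.unusedSimpArgs false
set_option linter.unreachableTactic false
set_option linter.unusedTactic false
set_option maxHeartbeats 1000000

namespace Cfsg.Lib.Spor.U43

open Subgroup Bulk PK WF

open Tup

variable {G : Type*} [Group G] {T : Tup G}

/-- permutation model -/
@[reducible] def MQ : PM where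
  w := 7
  n := 8
  cs := [27770475822416768,
    23860373820358663,
    19827849934523022,
    15918225239836437,
    7973660307132828,
    11883762280058403,
    19827849949087509,
    15918225225271950,
    7973898946252323,
    11883523640938908,
    27770475822416768,
    27770475822416768,
    27770475822416768,
    27770475822416768,
    27770475822416768,
    27770475822416768,
    27770475822416768,
    27770475822416768,
    27770475822416768]
  SW := [([[1],[2],[3],[4],[5],[6],[7],[8],[9]],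
    [⟨0, [64, 193, 130, 323, 260, 387, 452], [[1, 5], [3, 7]]⟩,
     ⟨4, [320], [[1]]⟩,
     ⟨2, [192], []⟩])]

instance : NeZero MQ.n := ⟨by decide⟩

theorem MQ_ok : MQ.ok = true := by decide +kernel

theorem MQ_subs : MQ.subsOK = true := by decide +kernel

theorem MQ_W0 : sub T.Q.g (MQ.W 0) = T.sQ :=
  Q_sub (by decide +kernel)

theorem MQ_sat : MQ.satB 19 io rQ = true := by decide +kernel

theorem embQ (h : Sat T.Q.g 19 io rQ) (hz : T.z ≠ 1) : Emb MQ.m T.Q.g :=
  PM.emb_of_ker MQ_ok MQ_subs (PM.exists_hom' MQ_ok MQ_subs MQ_sat h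
    (fun l => (Q_res l).imp And.left And.right) cardQ_le (by decide +kernel)) (v := 20)
    (K := (.or (.eq [20] [1]) (.or (.eq [2,20] [20,2,1]) (.or (.eq [4,20] [20,4,1]) (.or (.eq [6,20]
      [20,6,1]) (.eq [8,20] [20,8,1])))))) rfl (by decide +kernel)
    (by simpa [Fm.sem, upd_apply, g_simp, hz] using hz.symm)

theorem card_sQ (h : Emb MQ.m T.Q.g) : Nat.card T.sQ = 32 :=
  MQ_W0 (T := T) ▸ PM.card_of_emb MQ_ok MQ_subs h 0

theorem q_symp (h : Emb MQ.m T.Q.g) :
    ∀ p ∈ T.sQ, p * T.z = T.z * p ∧ (p * p = 1 ∨ p * p = T.z) ∧ (T.a * p = p * T.a → T.b * p = p *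
    T.b → T.c * p = p * T.c → T.d * p = p * T.d → (p = 1 ∨ p = T.z)) := by
  have := PM.holds MQ_ok MQ_subs h (p := (.all 0 20 (.and (.eq [1,20] [20,1]) (.and (.or (.eq [20,20] []) (.eq [20,20] [1])) (.imp (.eq
      [20,2] [2,20]) (.imp (.eq [20,4] [4,20]) (.imp (.eq [20,6] [6,20]) (.imp (.eq [20,8] [8,20])
      (.or (.eq [20] []) (.eq [20] [1])))))))))) (by decide +kernel)
  simp only [Fm.sem, wv_cons, wv_nil, one_mul, upd_apply, Nat.reduceEqDiff, ↓reduceIte, g_simp, MQ_W0] at this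
  exact this

theorem q_basic (h : Emb MQ.m T.Q.g) :
    T.s * T.s = 1 ∧ T.s * T.z = T.z * T.s ∧ T.q * T.q = 1 ∧ T.q * T.z * T.q = T.z ∧ T.q * T.s * T.q
    = T.z * T.s ∧ T.c1 * T.c1 = 1 ∧ T.c2 * T.c2 = 1 ∧ T.c1 * T.s = T.s * T.c1 ∧ T.c2 * T.s = T.s *
    T.c2 ∧ T.c * T.s = T.s * T.c ∧ T.c1 * T.c2 * T.c1 * T.c2 = T.z ∧ T.b * T.b = T.z ∧ T.d * T.d =
    T.z ∧ T.b * T.c = T.c * T.b ∧ T.c2 * T.c1 * T.c2 * T.c1 = T.z ∧ T.b * T.a * T.b⁻¹ * T.a⁻¹ * T.z
    = 1 := by
  have := PM.holds MQ_ok MQ_subs h (p := (.bind 40 [6,2] (.bind 41 [8,4] (.bind 42 [8,6,4] (.bind 43 [6,4] (.and (.eq [40,40] []) (.and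
      (.eq [1,40] [40,1]) (.and (.eq [43,43] []) (.and (.eq [43,1,43] [1]) (.and (.eq [43,40,43]
      [40,1]) (.and (.eq [41,41] []) (.and (.eq [42,42] []) (.and (.eq [40,41] [41,40]) (.and (.eq
      [40,42] [42,40]) (.and (.eq [40,6] [6,40]) (.and (.eq [42,41,42,41] [1]) (.and (.eq [4,4] [1])
      (.and (.eq [8,8] [1]) (.and (.eq [6,4] [4,6]) (.and (.eq [41,42,41,42] [1]) (.eq [1,3,5,2,4]
      []))))))))))))))))))))) (by decide +kernel)
  simp only [Fm.sem, wv_cons, wv_nil, one_mul, upd_apply, Nat.reduceEqDiff, ↓reduceIte, g_simp, MQ_W0] at this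
  exact this

theorem q_ne (h : Emb MQ.m T.Q.g) :
    ¬ T.a = 1 ∧ ¬ T.a = T.z ∧ ¬ T.s = T.z ∧ (¬ T.c1 = 1 ∧ ¬ T.c1 = T.z ∧ ¬ T.c1 = T.s ∧ ¬ T.c1 = T.z
    * T.s) ∧ (¬ T.c2 = 1 ∧ ¬ T.c2 = T.z ∧ ¬ T.c2 = T.s ∧ ¬ T.c2 = T.z * T.s) := by
  have := PM.holds MQ_ok MQ_subs h (p := (.bind 40 [6,2] (.bind 41 [8,4] (.bind 42 [8,6,4] (.and (.not (.eq [2] [])) (.and (.not (.eq [2]
      [1])) (.and (.not (.eq [40] [1])) (.and (.and (.not (.eq [41] [])) (.and (.not (.eq [41] [1]))
      (.and (.not (.eq [41] [40])) (.not (.eq [41] [40,1]))))) (.and (.not (.eq [42] [])) (.and (.not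
      (.eq [42] [1])) (.and (.not (.eq [42] [40])) (.not (.eq [42] [40,1]))))))))))))) (by decide +kernel)
  simp only [Fm.sem, wv_cons, wv_nil, one_mul, upd_apply, Nat.reduceEqDiff, ↓reduceIte, g_simp, MQ_W0] at this
  exact this

/-- the generators of the extraspecial group -/
def DQ : List (List ℕ) := [[], [1], [2], [4], [6], [8]]

/-- the generators of the extraspecial group -/
abbrev Tup.u (T : Tup G) : ℕ → G := sg T.Q.g DQ

/-- tables of automorphisms -/
def L32 : List (List (List ℕ)) := [[[], [1], [2], [3], [4], [5]], [[], [1], [2], [3, 1], [4], [5, 1]], [[], [1], [2, 1], [3], [4,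
    1], [5]], [[], [1], [2, 1], [3], [4, 1], [5, 1]], [[], [1], [4], [5], [2], [3]], [[], [1], [4],
    [5, 4], [2], [2, 3]], [[], [1], [2, 1], [3, 1], [4, 1], [5, 1]], [[], [1], [2, 1], [3, 1], [4,
    1], [5]], [[], [1], [4], [5, 1], [2], [3, 1]], [[], [1], [4], [4, 5], [2], [3, 2]], [[], [1],
    [2], [3], [4], [5, 1]], [[], [1], [4, 1], [5], [2, 1], [3]], [[], [1], [4, 1], [4, 5], [2, 1],
    [3, 2]], [[], [1], [4, 1], [5, 1], [2, 1], [3]], [[], [1], [4, 1], [5, 4], [2, 1], [3, 2]], [[],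
    [1], [4, 1], [5], [2, 1], [3, 1]], [[], [1], [2], [3, 2], [4], [4, 5]], [[], [1], [4, 1], [5,
    4], [2, 1], [2, 3]], [[], [1], [2], [2, 3], [4], [5, 4]], [[], [1], [2], [3, 1], [4], [5]], [[],
    [1], [4, 1], [5, 1], [2, 1], [3, 1]], [[], [1], [4, 1], [4, 5], [2, 1], [2, 3]], [[], [1], [4],
    [5, 1], [2], [3]], [[], [1], [4], [4, 5], [2], [2, 3]], [[], [1], [4], [5], [2], [3, 1]], [[],
    [1], [2, 1], [2, 3], [4, 1], [5, 4]], [[], [1], [2, 1], [3, 2], [4, 1], [4, 5]], [[], [1], [2,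
    1], [2, 3], [4, 1], [4, 5]], [[], [1], [4], [5, 4], [2], [3, 2]], [[], [1], [2, 1], [3, 2], [4,
    1], [5, 4]], [[], [1], [2], [3, 2], [4], [5, 4]], [[], [1], [2], [2, 3], [4], [4, 5]]]

/-- a table -/
def Ww : List (List ℕ) := [[], [1], [4], [5], [2], [3]]

/-- a table -/
def Wws : List (List ℕ) := [[], [1], [4], [5, 1], [2], [3, 1]]

/-- a table -/
def Wv : List (List ℕ) := [[], [1], [4], [5, 4], [2], [2, 3]]

/-- a table -/
def Wvs : List (List ℕ) := [[], [1], [4], [4, 5], [2], [3, 2]]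

/-- a table -/
def Ws : List (List ℕ) := [[], [1], [2], [3, 1], [4], [5, 1]]

/-- a table -/
def Wx : List (List ℕ) := [[], [1], [3], [3, 2], [4], [5]]

/-- a table -/
def Wy : List (List ℕ) := [[], [1], [2], [3], [5], [5, 4]]

/-- a table -/
def Wc : List (List ℕ) := [[], [1], [2], [3], [5, 4], [4, 1]]

theorem q_aut (h : Emb MQ.m T.Q.g) :
    ∀ p ∈ T.sQ, (p = T.c ∨ p = T.z * T.c ∨ p = T.s * T.c ∨ p = T.z * T.s * T.c) →
    ∀ r ∈ T.sQ, r * p = T.s → ∀ e ∈ T.sQ, e * e = T.z → e * p = p * e → ∀ f ∈ T.sQ, f * f = T.z →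
    (e * f = T.c1 ∨ e * f = T.z * T.c1 ∨ e * f = T.s * T.c1 ∨ e * f = T.z * T.s * T.c1) →
    ∃ W ∈ L32, r = sg T.u W 2 ∧ e = sg T.u W 3 ∧ p = sg T.u W 4 ∧ f = sg T.u W 5 := by
  have := PM.holds MQ_ok MQ_subs h (p := (.bind 40 [6,2] (.bind 41 [8,4] (.all 0 20 (.imp (.or (.eq [20] [6]) (.or (.eq [20] [6,1]) (.or
      (.eq [20] [6,40]) (.eq [20] [6,40,1])))) (.all 0 21 (.imp (.eq [20,21] [40]) (.all 0 22 (.imp
      (.eq [22,22] [1]) (.imp (.eq [20,22] [22,20]) (.all 0 23 (.imp (.eq [23,23] [1]) (.imp (.or (.eq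
      [23,22] [41]) (.or (.eq [23,22] [41,1]) (.or (.eq [23,22] [41,40]) (.eq [23,22] [41,40,1]))))
      (orL L32 fun W => .and (.eq [21] (sb DQ (W.getD 2 []))) (.and (.eq [22] (sb DQ (W.getD 3 [])))
      (.and (.eq [20] (sb DQ (W.getD 4 []))) (.eq [23] (sb DQ (W.getD 5 []))))))))))))))))))) (by decide +kernel)
  simp (disch := decide) only [sem_orL, wv_sb, sg_upd, Fm.sem, wv_cons, wv_nil, one_mul, upd_apply, Nat.reduceEqDiff, ↓reduceIte, g_simp, MQ_W0] at this
  exact this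

theorem L32_ok : ∀ W ∈ L32, W.length ≤ 6 ∧ W.getD 0 [] = [] ∧ W.getD 1 [] = [1] := by decide +kernel

/-- the symmetry of commutators -/
def symFm (L : List ℕ) (W' : List (List ℕ)) (L' : List ℕ) (W : List (List ℕ)) : Fm :=
  orL [(([] : List ℕ), ([] : List ℕ)), ([1], [6, 2]), ([6, 2], [1]), ([6, 2, 1], [6, 2, 1])] fun p =>
    .and (.eq (sb DQ (sb W' L ++ L)) p.1) (.eq (sb DQ (L' ++ sb W L')) p.2)

/-- an outer automorphism of order two -/
def outFm (W : List (List ℕ)) (L : List ℕ) : Fm :=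
  .and (actFm DQ [] (W.map (sb W))) (.and (.not (.ex 0 20 (actFm DQ [20] W))) (symFm L W L W))

theorem q_pair : ∀ W ∈ L32, MQ.dec (.not (outFm W [5, 3])) = true ∨ ∀ W' ∈ L32,
    MQ.dec (.not (.and (outFm W' [5, 4, 3]) (symFm [5, 3] W' [5, 4, 3] W))) = true ∨
    (W ∈ [Ww, Wws] ∧ W' ∈ [Wv, Wvs]) ∨ (W' ∈ [Ww, Wws] ∧ W ∈ [Wv, Wvs]) := by decide +kernel

theorem act_s (h : Emb MQ.m T.Q.g) : Act T.u T.s Ws := by
  simpa [g_simp] using PM.act MQ_ok MQ_subs h (D := DQ) (W := Ws) [6, 2] (by decide +kernel)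

theorem half_w (h : Emb MQ.m T.Q.g) {B : G} {W : List (List ℕ)} (a : Act T.u B W)
    (hW : W ∈ [Ww, Wws]) : Act T.u B Ww ∨ Act T.u (B * T.s) Ww := by
  rcases List.mem_pair.1 hW with rfl | rfl
  exacts [Or.inl a, Or.inr (PM.red MQ_ok MQ_subs h (a.mul (act_s h)) _ (by decide +kernel))]

theorem half_v (h : Emb MQ.m T.Q.g) {B : G} {W : List (List ℕ)} (a : Act T.u B W)
    (hW : W ∈ [Wv, Wvs]) : Act T.u B Wv ∨ Act T.u (B * T.s) Wv := by
  rcases List.mem_pair.1 hW with rfl | rfl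
  exacts [Or.inl a, Or.inr (PM.red MQ_ok MQ_subs h (a.mul (act_s h)) _ (by decide +kernel))]

theorem act_wxw (h : Emb MQ.m T.Q.g) {w x : G} (a : Act T.u w Ww) (b : Act T.u x Wx) :
    Act T.u (w * x * w) Wy := PM.red MQ_ok MQ_subs h ((a.mul b).mul a) _ (by decide +kernel)

theorem act_vxv (h : Emb MQ.m T.Q.g) {v x : G} (a : Act T.u v Wv) (b : Act T.u x Wx) :
    Act T.u (v * x * v) Wc := PM.red MQ_ok MQ_subs h ((a.mul b).mul a) _ (by decide +kernel)

/-- permutation model -/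
@[reducible] def MK : PM where
  w := 9
  n := 24
  cs := [42657122426767500594227940119892518355493799619047408669337063936,
    38947520102551481437955539013543579338202021576410697402501824521,
    31513754009417297058453093786174288719152068369936718560657421842,
    24123474135712152779724971505091671989700376715076168189204243483,
    13027108753377992020565352962874960475897894063534757400940141092,
    16715017496697396396022069137487209058541320710637573928884389933,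
    25985520697938085608812819830111914909458408069993485674416710683,
    33375800571750983479453680073265650078080902766557899214607889938,
    31499291429363856676550558268351153156681077169948159663432812589,
    24087317974654134391755738319787067804174186140439745031471651364,
    42657122426767500594227940119892518355493799619047408669337063936,
    42657122426767500594227940119892518355493799619047408669337063936,
    42657122426767500594227940119892518355493799619047408669337063936,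
    42657122426767500594227940119892518355493799619047408669337063936,
    18577085133504317179803285428065912599199596569012616630327349302,
    35190843947270860048957589587980517941698451747944022812839420479,
    29655323030449839429324906444301582498377101848491819440298041919,
    9317456941869527928177627401183214588374303978593862343951421494,
    42657122426767500594227940119892518355493799619047408669337063936]
  SW := [([[1],[2],[3],[4],[5],[6],[7],[8],[9],[14],[15],[16],[17]],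
    [⟨0, [64, 193, 130, 323, 260, 457, 394, 585, 522, 643, 708, 1097, 1034, 1227, 1164, 841, 778, 971, 908, 1418,
    1484, 1290, 1356], [[4, 12, 5, 11, 1], [10, 12]]⟩,
     ⟨4, [320, 705, 641, 129, 193], [[1, 0, 1, 1]]⟩,
     ⟨2, [192], []⟩]),
   ([[1],[2],[3],[4],[5],[6],[7],[8],[9]],
    [⟨0, [64, 193, 130, 323, 260, 643, 708], [[3, 7], [1, 5]]⟩,
     ⟨4, [321], [[0]]⟩,
     ⟨2, [192], []⟩])]

instance : NeZero MK.n := ⟨by decide⟩

theorem MK_ok : MK.ok = true := by decide +kernel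

theorem MK_subs : MK.subsOK = true := by decide +kernel

theorem MK_W0 : sub T.K.g (MK.W 0) = T.sK :=
  K_sub (by decide +kernel)

theorem MK_W1 : sub T.K.g (MK.W 1) = T.sQ :=
  K_sub (by decide +kernel)

theorem MK_sat : MK.satB 19 io rK = true := by decide +kernel

theorem embK (h : Sat T.K.g 19 io rK) (hz : T.z ≠ 1) : Emb MK.m T.K.g :=
  PM.emb_of_ker MK_ok MK_subs (PM.exists_hom' MK_ok MK_subs MK_sat h
    (fun l => (K_res l).imp And.left And.right) cardK_le (by decide +kernel)) (v := 20)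
    (K := (.or (.eq [20] [1]) (.bind 21 [20,20] (.bind 22 [21,21] (.bind 23 [22,22] (.bind 24
      [20,21,22,23,23] (.or (.bind 25 [3,24,2,20] (.or (.eq [25] [1]) (.or (.eq [2,25] [25,2,1]) (.or
      (.eq [4,25] [25,4,1]) (.or (.eq [6,25] [25,6,1]) (.eq [8,25] [25,8,1])))))) (.or (.bind 25
      [5,24,4,20] (.or (.eq [25] [1]) (.or (.eq [2,25] [25,2,1]) (.or (.eq [4,25] [25,4,1]) (.or (.eq
      [6,25] [25,6,1]) (.eq [8,25] [25,8,1])))))) (.or (.bind 25 [7,24,6,20] (.or (.eq [25] [1]) (.or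
      (.eq [2,25] [25,2,1]) (.or (.eq [4,25] [25,4,1]) (.or (.eq [6,25] [25,6,1]) (.eq [8,25]
      [25,8,1])))))) (.bind 25 [9,24,8,20] (.or (.eq [25] [1]) (.or (.eq [2,25] [25,2,1]) (.or (.eq
      [4,25] [25,4,1]) (.or (.eq [6,25] [25,6,1]) (.eq [8,25] [25,8,1]))))))))))))))) rfl (by decide +kernel)
    (by simpa [Fm.sem, upd_apply, g_simp, hz] using hz.symm)

theorem card_sK (h : Emb MK.m T.K.g) : Nat.card T.sK = 288 :=
  MK_W0 (T := T) ▸ PM.card_of_emb MK_ok MK_subs h 0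

theorem sK_le [Finite G] (h : Emb MK.m T.K.g) : T.sK ≤ normalizer (T.sQ : Set G) :=
  MK_W0 (T := T) ▸ MK_W1 (T := T) ▸
    PM.le_normalizer MK_ok MK_subs h (MK.W 0) 1 (by decide +kernel)

theorem K_u : sg T.K.g DQ = T.u := (K_sg (by decide)).trans (Q_sg (by decide)).symm

theorem act_x (h : Emb MK.m T.K.g) : Act T.u T.x Wx := by
  simpa [g_simp, K_u] using PM.act MK_ok MK_subs h (D := DQ) (W := Wx) [14] (by decide +kernel)

theorem act_y (h : Emb MK.m T.K.g) : Act T.u T.y Wy := by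
  simpa [g_simp, K_u] using PM.act MK_ok MK_subs h (D := DQ) (W := Wy) [16] (by decide +kernel)

theorem act_c (h : Emb MK.m T.K.g) : Act T.u (T.c * T.d * T.y⁻¹) Wc := by
  simpa [g_simp, K_u] using
    PM.act MK_ok MK_subs h (D := DQ) (W := Wc) [17, 8, 6] (by decide +kernel)

theorem k_basic (h : Emb MK.m T.K.g) :
    T.x * T.x * T.x = 1 ∧ T.y * T.y * T.y = 1 ∧ (T.c * T.d * T.y⁻¹) * (T.c * T.d * T.y⁻¹) * (T.c *
    T.d * T.y⁻¹) = 1 ∧ T.x * T.z = T.z * T.x ∧ T.y * T.z = T.z * T.y := by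
  have := PM.holds MK_ok MK_subs h (p := (.and (.eq [14,14,14] []) (.and (.eq [16,16,16] []) (.and (.bind 20 [17,8,6] (.eq [20,20,20]
      [])) (.and (.eq [1,14] [14,1]) (.eq [1,16] [16,1])))))) (by decide +kernel)
  simp only [Fm.sem, wv_cons, wv_nil, one_mul, upd_apply, Nat.reduceEqDiff, ↓reduceIte, g_simp, MK_W0, MK_W1] at this
  exact this

theorem k_inv (h : Emb MK.m T.K.g) :
    ∀ p ∈ T.sQ, p * p = 1 → (p = 1 ∨ p = T.z ∨ (∃ r ∈ T.sK, r * T.s = p * r ∧ r * T.z = T.z * r)) := by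
  have := PM.holds MK_ok MK_subs h (p := (.bind 40 [6,2] (.all 1 20 (.imp (.eq [20,20] []) (.or (.eq [20] []) (.or (.eq [20] [1]) (.ex 0
      21 (.and (.eq [40,21] [21,20]) (.eq [1,21] [21,1]))))))))) (by decide +kernel)
  simp only [Fm.sem, wv_cons, wv_nil, one_mul, upd_apply, Nat.reduceEqDiff, ↓reduceIte, g_simp, MK_W0, MK_W1] at this
  exact this

end Cfsg.Lib.Spor.U43
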