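import Cfsg.Agent.SporChar.U43StepK
import Cfsg.Agent.SporChar.U43ModH

/-! Groups of type `U₄(3)`: the involution centralizer and the relations involving `n`. -/

set_option autoImplicit false

namespace Cfsg.Lib.Spor.U43

open Subgroup Bulk PK WF Tup Cfsg.Lib.Local Cfsg.Lib.Solv
open scoped Pointwise

variable {G : Type*} [Group G] {T : Tup G}

theorem KT.eQ (h : KT T) : Emb MQ.m T.Q.g := embQ_of h.sat h.pre.ne_one

theorem KT.eK (h : KT T) : Emb MK.m T.K.g := embK h.sat h.pre.ne_one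

theorem u_simp : T.u 0 = 1 ∧ T.u 1 = T.z ∧ T.u 2 = T.a ∧ T.u 3 = T.b ∧ T.u 4 = T.c ∧ T.u 5 = T.d := by
  simp [sg, DQ, g_simp]

theorem q_mem : T.a ∈ T.sQ ∧ T.b ∈ T.sQ ∧ T.c ∈ T.sQ ∧ T.d ∈ T.sQ :=
  ⟨g_mem (l := 2) (by decide), g_mem (l := 4) (by decide), g_mem (l := 6) (by decide),
    g_mem (l := 8) (by decide)⟩

/-- An involution interchanging `z` and `s`. -/
structure NT (T : Tup G) (n : G) : Prop extends KT T where
  n2 : n * n = 1
  nz : n * T.z * n = T.s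
  hV : ∀ e ∈ T.sQ, n * e * n ∈ T.sQ → e = 1 ∨ e = T.z ∨ e = T.s ∨ e = T.z * T.s

theorem mk_n {z s q m : G} (z2 : z * z = 1) (b2 : s * z = z * s) (b3 : q * q = 1)
    (b4 : q * z * q = z) (b5 : q * s * q = z * s) (m1 : m * z * m⁻¹ = s) (m2 : m * s * m⁻¹ = z) :
    ∃ n, n * n = 1 ∧ n * z * n = s := by
  refine ⟨q * (m * q * m⁻¹) * q, ?_, ?_⟩
  · calc _ = q * m * q * m⁻¹ * (q * q) * m * q * m⁻¹ * q := by group
      _ = q * (m * (q * q) * m⁻¹) * q := by rw [b3, mul_one (q * m * q * m⁻¹), ← b3]; group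
      _ = 1 := by rw [b3, mul_one, mul_inv_cancel, mul_one, b3]
  · calc _ = q * (m * q * m⁻¹) * (q * z * q) * (m * q * m⁻¹) * q := by group
      _ = q * (m * (q * s * q) * m⁻¹) * q := by rw [b4, ← m2]; group
      _ = q * s * (q * q) * z * q := by rw [b5, ← conj_mul, m1, m2, b3]; group
      _ = q * s * q * (q * z * q) := by group
      _ = _ := by rw [b5, b4, mul_assoc, b2, ← mul_assoc, z2, one_mul]

theorem KT.exists_n [Finite G] (h : KT T) : ∃ n, NT T n := by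
  obtain ⟨b1, b2, b3, b4, b5, -⟩ := q_basic h.eQ
  have hs : T.s ∈ T.sQ := mul_mem q_mem.1 q_mem.2.2.1
  have sz : T.s ≠ T.z := (q_ne h.eQ).2.2.1
  have z2 := h.pre.mul_self
  have key : ∀ g, g * T.z * g⁻¹ ∈ T.sQ → g * T.z * g⁻¹ ≠ T.z →
      ∃ r, r * T.s * r⁻¹ = g * T.z * g⁻¹ ∧ r * T.z * r⁻¹ = T.z := fun g h1 h2 => by
    obtain ⟨r, -, a, b⟩ := ((k_inv h.eK _ h1 (h.pre.conj g).mul_self).resolve_left
      (h.pre.conj g).ne_one).resolve_left h2
    exact ⟨r, mul_inv_eq_iff_eq_mul.2 a, mul_inv_eq_iff_eq_mul.2 b⟩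
  obtain ⟨g0, h1, h2⟩ := h.nwc
  obtain ⟨r, r1, -⟩ := key g0 h1 h2
  have e1 : r⁻¹ * g0 * T.z * (r⁻¹ * g0)⁻¹ = T.s := by
    calc _ = r⁻¹ * (g0 * T.z * g0⁻¹) * r := by group
      _ = _ := by rw [← r1]; group
  generalize r⁻¹ * g0 = g at e1
  obtain ⟨k, k1, k2⟩ := key g⁻¹ (by
    simpa using Solv.mem_conj_smul.1 (h.pre.mem_conj (g := g) (e1 ▸ sz) (e1 ▸ hs))) fun e => sz (by
      rw [← e1]; nth_rewrite 1 [← e]; group)
  have m1 : g * k * T.z * (g * k)⁻¹ = T.s := by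
    calc _ = g * (k * T.z * k⁻¹) * g⁻¹ := by group
      _ = _ := by rw [k2, e1]
  have m2 : g * k * T.s * (g * k)⁻¹ = T.z := by
    calc _ = g * (k * T.s * k⁻¹) * g⁻¹ := by group
      _ = _ := by rw [k1]; group
  generalize g * k = m at m1 m2
  obtain ⟨n, n2, nz⟩ := mk_n z2 b2 b3 b4 b5 m1 m2
  have i := inv_eq_of_mul_eq_one_right n2
  have nz' : n * T.z * n⁻¹ = T.s := by rwa [i]
  have p := h.pre.pair (g := n) (nz' ▸ sz) (nz' ▸ hs)
  refine ⟨n, h, n2, nz, fun e he he' => ?_⟩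
  rw [← nz', ← p.mem_V, eq_of_le_of_card_ge p.V_le (by
    rw [h.four n (nz' ▸ hs) (nz' ▸ sz), p.card_V])]
  exact ⟨he, Solv.mem_conj_smul.2 (by rwa [i])⟩

theorem KT.mem_z (h : KT T) {y : G} (hy : ∀ l, T.u l * y = y * T.u l) : y ∈ zpowers T.z := by
  have k : ∀ l, T.u l ∈ centralizer ({y} : Set G) := fun l =>
    mem_centralizer_singleton_iff.2 (hy l)
  have k1 := k 1
  have k2 := k 2
  have k3 := k 3
  have k4 := k 4
  have k5 := k 5
  simp only [u_simp] at k1 k2 k3 k4 k5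
  refine h.pre.cent fun q hq => mem_centralizer_singleton_iff.1 (letters_le (fun l hl => ?_) hq)
  fin_cases hl
  exacts [k1, k2, inv_mem k2, k3, inv_mem k3, k4, inv_mem k4, k5, inv_mem k5]

theorem KT.eq_three (h : KT T) {x y : G} {W : List (List ℕ)} (a : Act T.u x W) (b : Act T.u y W)
    (hx : x * x * x = 1) (hy : y * y * y = 1) (hz : y * T.z = T.z * y) : x = y := by
  rcases h.pre.mem_iff.1 (h.mem_z (a.comm b)) with e | e
  · exact (inv_mul_eq_one.1 e).symm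
  · rw [inv_mul_eq_iff_eq_mul.1 e, ← sq, ← pow_succ, (show Commute y T.z from hz).mul_pow, pow_succ,
      pow_succ T.z, sq, sq, hy, h.pre.mul_self, one_mul, one_mul] at hx
    exact absurd hx h.pre.ne_one

namespace NT

variable {n c c' : G}

theorem ns (h : NT T n) : n * T.s * n = T.z := swap_of h.n2 h.nz

theorem inv (h : NT T n) : n⁻¹ = n := inv_eq_of_mul_eq_one_right h.n2

theorem cm (h : NT T n) (x y : G) : n * (x * y) * n = n * x * n * (n * y * n) := by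
  simpa only [h.inv] using (conj_mul (a := x) (b := n) (c := y)).symm

theorem comm_z (h : NT T n) (hc : c * T.s = T.s * c) : n * c * n * T.z = T.z * (n * c * n) := by
  rw [← h.ns, ← h.cm, ← h.cm, hc]

theorem comm_s (h : NT T n) (hc : c ∈ T.sQ) : n * c * n * T.s = T.s * (n * c * n) := by
  rw [← h.nz, ← h.cm, ← h.cm, h.pre.central c hc]

theorem mem (h : NT T n) (hc : c * T.s = T.s * c) {x : G} (hx : x ∈ T.sQ) :
    n * c * n * x * (n * c * n)⁻¹ ∈ T.sQ :=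
  conj_mem_of_mem_normalizer (h.pre.norm (mem_centralizer_singleton_iff.2 (h.comm_z hc))) hx

theorem comm_V (h : NT T n) (hc : c ∈ T.sQ) (hs : c * T.s = T.s * c) (hc' : c' ∈ T.sQ)
    (hs' : c' * T.s = T.s * c') : n * c * n * c' * (n * c * n)⁻¹ = c' ∨
      n * c * n * c' * (n * c * n)⁻¹ = T.z * c' ∨ n * c * n * c' * (n * c * n)⁻¹ = T.s * c' ∨
      n * c * n * c' * (n * c * n)⁻¹ = T.z * T.s * c' := by
  have := h.hV _ (mul_mem (h.mem hs hc') (inv_mem hc')) (by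
    convert mul_mem hc (h.mem hs' (inv_mem hc)) using 1
    simp only [mul_inv_rev, h.inv, ← mul_assoc, h.n2, one_mul])
  simpa only [mul_inv_eq_iff_eq_mul (b := c'), one_mul] using this

theorem exists_tab (h : NT T n) (hc : c ∈ T.sQ) (hs : c * T.s = T.s * c) :
    ∃ W ∈ L32, Act T.u (n * c * n) W := by
  obtain ⟨-, -, -, -, -, -, -, b8, -, b10, -, b12, b13, b14, -⟩ := q_basic h.eQ
  obtain ⟨ma, mb, mc, md⟩ := q_mem (T := T)
  have hz : n * c * n * T.z * (n * c * n)⁻¹ = T.z := by rw [h.comm_z hs, mul_inv_cancel_right]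
  obtain ⟨W, hW, e1, e2, e3, e4⟩ := q_aut h.eQ _ (h.mem hs mc) (h.comm_V hc hs mc b10) _
    (h.mem hs ma) (by rw [conj_mul, h.comm_s hc, mul_inv_cancel_right]) _ (h.mem hs mb)
    (by rw [conj_mul, b12, hz]) (by rw [conj_mul, conj_mul, b14]) _ (h.mem hs md)
    (by rw [conj_mul, b13, hz]) (by rw [conj_mul]; exact h.comm_V hc hs (mul_mem mb md) b8)
  obtain ⟨w1, w2, w3⟩ := L32_ok W hW
  refine ⟨W, hW, Act.of_lt w1 fun l hl => ?_⟩
  change l < 6 at hl
  interval_cases l <;> simp only [u_simp]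
  exacts [by simp only [sg, w2, wv_nil, mul_one, mul_inv_cancel], by simp only [sg, w3, wv_cons, wv_nil, one_mul]; simpa [DQ, g_simp] using hz,
    e1, e2, e3, e4]

theorem sym (h : NT T n) {L L' : List ℕ} {W W' : List (List ℕ)} (e : wv T.u L = c)
    (e' : wv T.u L' = c') (hc : c ∈ T.sQ) (hs : c * T.s = T.s * c) (h2 : c * c = 1)
    (hc' : c' ∈ T.sQ) (hs' : c' * T.s = T.s * c') (h2' : c' * c' = 1) (a : Act T.u (n * c * n) W)
    (a' : Act T.u (n * c' * n) W') (S : ℕ → Subgroup G) : (symFm L W' L' W).sem S T.Q.g := by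
  have k : n * (c * (n * c' * n * c * (n * c' * n)⁻¹)) * n =
      n * c * n * c' * (n * c * n)⁻¹ * c' := by
    simp only [mul_inv_rev, h.inv, inv_eq_of_mul_eq_one_right h2, inv_eq_of_mul_eq_one_right h2',
      mul_assoc, h.n2, mul_one]
  have := h.hV _ (mul_mem hc (h.mem hs' hc)) (k ▸ mul_mem (h.mem hs hc') hc')
  simp only [symFm, sem_orL, List.mem_cons, List.not_mem_nil, or_false, exists_eq_or_imp,
    exists_eq_left, Fm.sem, wv_sb, wv_append, wv_cons, wv_nil, one_mul, g_simp]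
  simp only [← wv_sb, ← a.wv, ← a'.wv, e, e', ← k]
  rcases this with e | e | e | e <;> rw [e]
  · exact Or.inl ⟨rfl, by rw [mul_one, h.n2]⟩
  · exact Or.inr (Or.inl ⟨rfl, h.nz⟩)
  · exact Or.inr (Or.inr (Or.inl ⟨rfl, h.ns⟩))
  · exact Or.inr (Or.inr (Or.inr ⟨(mul_assoc _ _ _).symm, by
      rw [h.cm, h.nz, h.ns, (q_basic h.eQ).2.1, ← mul_assoc]⟩))

theorem out (h : NT T n) {L : List ℕ} {W : List (List ℕ)} (e : wv T.u L = c) (hc : c ∈ T.sQ)
    (hs : c * T.s = T.s * c) (h2 : c * c = 1)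
    (hV : ¬ c = 1 ∧ ¬ c = T.z ∧ ¬ c = T.s ∧ ¬ c = T.z * T.s) (hW : W ∈ L32)
    (a : Act T.u (n * c * n) W) : (outFm W L).sem (fun i => sub T.Q.g (MQ.W i)) T.Q.g := by
  refine ⟨Act.sem _ ?_, ?_, h.sym e e hc hs h2 hc hs h2 a a _⟩
  · have := a.mul a
    rwa [← h.cm, h2, mul_one, h.n2] at this
  · rintro ⟨x, hx, b⟩
    have b := Act.of_sem (L32_ok W hW).1 b
    rw [sg_upd _ _ (by decide), show wv (upd T.Q.g 20 x) [20] = x by simp [upd_apply]] at b
    have m := mul_mem (MQ_W0 (T := T) ▸ (show x ∈ sub T.Q.g (MQ.W 0) from hx))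
      (h.pre.zpowers_le (h.mem_z (a.comm b)))
    rw [mul_inv_cancel_left] at m
    have e := swap_of h.n2 (rfl : n * c * n = _)
    rcases h.hV _ m (e.symm ▸ hc) with a | a | a | a <;> rw [a] at e
    · exact hV.1 (by rw [← e, mul_one, h.n2])
    · exact hV.2.2.1 (e.symm.trans h.nz)
    · exact hV.2.1 (e.symm.trans h.ns)
    · exact hV.2.2.2 (by rw [← e, h.cm, h.nz, h.ns, (q_basic h.eQ).2.1])

theorem half (h : NT T n) (hc : c ∈ T.sQ) (hs : c * T.s = T.s * c) (h2 : c * c = 1)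
    {W : List (List ℕ)} (a : Act T.u (n * c * n) W ∨ Act T.u (n * c * n * T.s) W) :
    ∃ w, Act T.u w W ∧ (n * c * n = w ∨ n * c * n = w * T.s) ∧ w * w = 1 ∧ w * T.s = T.s * w ∧
      w * T.z = T.z * w := by
  have b2 : n * c * n * (n * c * n) = 1 := by rw [← h.cm, h2, mul_one, h.n2]
  obtain ⟨b1, b3, -⟩ := q_basic h.eQ
  rcases a with a | a
  · exact ⟨_, a, Or.inl rfl, b2, h.comm_s hc, h.comm_z hs⟩
  · refine ⟨_, a, Or.inr (by rw [mul_assoc _ T.s, b1, mul_one]), ?_, ?_, ?_⟩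
    · rw [mul_assoc, ← mul_assoc T.s, ← h.comm_s hc, mul_assoc _ T.s, b1, mul_one, b2]
    · rw [← mul_assoc T.s, ← h.comm_s hc]
    · rw [mul_assoc, b3, ← mul_assoc, h.comm_z hs, mul_assoc]

end NT

theorem sq_eq {s B B' w v : G} (hs : s * s = 1) (h : B * B' * B * B' = s) (hw : w * s = s * w)
    (hv : v * s = s * v) (e : B = w ∨ B = w * s) (e' : B' = v ∨ B' = v * s) :
    w * v * w * v = s := by
  have p1 : ∀ x, s * (w * x) = w * (s * x) := fun x => by rw [← mul_assoc, ← hw, mul_assoc]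
  have p2 : ∀ x, s * (v * x) = v * (s * x) := fun x => by rw [← mul_assoc, ← hv, mul_assoc]
  have p3 : ∀ x, s * (s * x) = x := fun x => by rw [← mul_assoc, hs, one_mul]
  rcases e with rfl | rfl <;> rcases e' with rfl | rfl <;>
    simpa only [mul_assoc, p1, p2, p3, ← hv, hs, mul_one] using h

theorem NT.mkH [Finite G] {n w v : G} (h : NT T n) (aw : Act T.u w Ww) (av : Act T.u v Wv)
    (w2 : w * w = 1) (v2 : v * v = 1) (e : w * v * w * v = T.s) (wz : w * T.z = T.z * w)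
    (vz : v * T.z = T.z * v) : HT { T with w := w, v := v, t := T.x * T.y, n := n } := by
  obtain ⟨k1, k2, k3, k4, k5⟩ := k_basic h.eK
  obtain ⟨ma, mb, mc, md⟩ := q_mem (T := T)
  have i1 := inv_eq_of_mul_eq_one_right w2
  have i2 := inv_eq_of_mul_eq_one_right v2
  have c3 : ∀ {w : G}, w * w = 1 → w * T.x * w * (w * T.x * w) * (w * T.x * w) = 1 := fun {w} e => by
    have := inv_eq_of_mul_eq_one_right e
    nth_rewrite 2 [← this]; nth_rewrite 4 [← this]; nth_rewrite 6 [← this]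
    rw [conj_mul, conj_mul, k1, mul_one, mul_inv_cancel]
  have e1 := h.eq_three (act_wxw h.eQ aw (act_x h.eK)) (act_y h.eK) (c3 w2) k2 k5
  have cz : ∀ x ∈ T.sQ, x ∈ centralizer {T.z} := fun x hx => h.pre.le_cent hx
  have mx := mem_centralizer_singleton_iff.2 k4
  have my := mem_centralizer_singleton_iff.2 k5
  have e2 := h.eq_three (act_vxv h.eQ av (act_x h.eK)) (act_c h.eK) (c3 v2) k3
    (mem_centralizer_singleton_iff.1 (mul_mem (mul_mem (cz _ mc) (cz _ md)) (inv_mem my)))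
  have a1 := aw 2
  have a2 := aw 3
  have a3 := av 2
  have a4 := av 3
  have a5 := av 5
  simp only [u_simp, sg, Ww, Wv, List.getD_cons_succ, List.getD_cons_zero, wv_cons, wv_nil, one_mul,
    i1, i2] at a1 a2 a3 a4 a5
  set T' : Tup G := { T with w := w, v := v, t := T.x * T.y, n := n } with hT
  have hs : Sat T'.H.g 19 io rH := by
    refine sat_of h.pre.mul_self w2 v2 (mul_one 1) (List.forall_mem_append.2
      ⟨List.forall_mem_append.2 ⟨K_rel (T := T'.H) h.sat.rel (by decide +kernel), ?_⟩, ?_⟩) <;>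
    simp only [rW, List.forall_mem_cons, wv_cons, wv_nil, one_mul, List.not_mem_nil,
      IsEmpty.forall_iff, implies_true, and_true, g_simp, hT]
    · exact ⟨by rw [a1, mul_inv_cancel], by rw [a2, mul_inv_cancel], by rw [a3, mul_inv_cancel],
        by rw [a4]; group, by rw [a5, (q_basic h.eQ).2.2.2.2.2.2.2.2.2.2.2.2.2.2.2],
        by rw [e, mul_inv_cancel_right, mul_inv_cancel]⟩
    · exact ⟨by rw [e1, mul_inv_cancel], by rw [e2]; group, mul_inv_cancel _⟩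
  refine ⟨hs, h.pre.ne_one, eq_of_le_of_card_ge (letters_le fun l hl => ?_)
    (h.card.trans (card_sH (embH hs h.pre.ne_one)).symm).le, h.n2, h.nz⟩
  fin_cases hl
  exacts [cz _ h.pre.mem, cz _ ma, inv_mem (cz _ ma), cz _ mb, inv_mem (cz _ mb), cz _ mc,
    inv_mem (cz _ mc), cz _ md, inv_mem (cz _ md), mem_centralizer_singleton_iff.2 wz,
    mem_centralizer_singleton_iff.2 vz, mul_mem mx my, inv_mem (mul_mem mx my), mx, inv_mem mx, my,
    inv_mem my]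

theorem KT.exists_HT [Finite G] (h : KT T) : ∃ T' : Tup G, T'.z = T.z ∧ HT T' ∧
    T'.n * T'.c1 * T'.n = T'.w * T'.s ∧ T'.n * T'.c2 * T'.n = T'.v * T'.s := by
  obtain ⟨n, h⟩ := h.exists_n
  obtain ⟨b1, -, -, -, -, b6, b7, b8, b9, -, b11, -, -, -, b15, -⟩ := q_basic h.eQ
  obtain ⟨-, -, -, n1, n2⟩ := q_ne h.eQ
  obtain ⟨ma, mb, mc, md⟩ := q_mem (T := T)
  have m1 : T.c1 ∈ T.sQ := mul_mem mb md
  have m2 : T.c2 ∈ T.sQ := mul_mem (mul_mem mb mc) md
  have e1 : wv T.u [5, 3] = T.c1 := by simp [u_simp]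
  have e2 : wv T.u [5, 4, 3] = T.c2 := by simp [u_simp]
  obtain ⟨W, hW, a⟩ := h.exists_tab m1 b8
  obtain ⟨W', hW', a'⟩ := h.exists_tab m2 b9
  have s1 : n * T.c1 * n * (n * T.c2 * n) * (n * T.c1 * n) * (n * T.c2 * n) = T.s := by
    rw [← h.cm, ← h.cm, ← h.cm, b11, h.nz]
  have s2 : n * T.c2 * n * (n * T.c1 * n) * (n * T.c2 * n) * (n * T.c1 * n) = T.s := by
    rw [← h.cm, ← h.cm, ← h.cm, b15, h.nz]
  rcases q_pair W hW with p | p
  · exact absurd (h.out e1 m1 b8 b6 n1 hW a) (PM.holds MQ_ok MQ_subs h.eQ p)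
  rcases p W' hW' with p | ⟨p, p'⟩ | ⟨p, p'⟩
  · exact absurd ⟨h.out e2 m2 b9 b7 n2 hW' a', h.sym e1 e2 m1 b8 b6 m2 b9 b7 a a' _⟩
      (PM.holds MQ_ok MQ_subs h.eQ p)
  · obtain ⟨w, w1, w2, w3, w4, w5⟩ := h.half m1 b8 b6 (half_w h.eQ a p)
    obtain ⟨v, v1, v2, v3, v4, v5⟩ := h.half m2 b9 b7 (half_v h.eQ a' p')
    have k := h.mkH w1 v1 w3 v3 (sq_eq b1 s1 w4 v4 w2 v2) w5 v5
    rcases w2 with w2 | w2 <;> rcases v2 with v2 | v2
    exacts [(k.case0 w2 v2).elim, (k.case1 w2 v2).elim, (k.case2 w2 v2).elim, ⟨_, by rfl, k, w2, v2⟩]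
  · obtain ⟨w, w1, w2, w3, w4, w5⟩ := h.half m2 b9 b7 (half_w h.eQ a' p)
    obtain ⟨v, v1, v2, v3, v4, v5⟩ := h.half m1 b8 b6 (half_v h.eQ a p')
    have k := h.mkH w1 v1 w3 v3 (sq_eq b1 s2 w4 v4 w2 v2) w5 v5
    rcases w2 with w2 | w2 <;> rcases v2 with v2 | v2
    exacts [(k.case4 v2 w2).elim, (k.case5 v2 w2).elim, (k.case6 v2 w2).elim, (k.case7 v2 w2).elim]

end Cfsg.Lib.Spor.U43
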