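import Cfsg.Agent.SporChar.U43ModQ
import Cfsg.Agent.SporChar.LargeXPair

/-! Groups of type `U₄(3)`: standard generators of `SL₂(3) ∘ SL₂(3)`. -/

set_option autoImplicit false

namespace Cfsg.Lib.Spor.U43

open Subgroup Bulk PK WF Tup Cfsg.Lib.Local Cfsg.Lib.Solv
open scoped Pointwise

/-- `SL₂(3)` -/
abbrev SL3 := Matrix.SpecialLinearGroup (Fin 2) (ZMod 3)

/-- an element of order 4 -/
def mI : SL3 := ⟨!![0, 2; 1, 0], by decide⟩

/-- an element of order 3 -/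
def mY : SL3 := ⟨!![1, 1; 0, 1], by decide⟩

theorem sl_facts : (∀ m : SL3, m * m = 1 → m = 1 ∨ m = (mI * mI)⁻¹) ∧ mY * mY * mY = 1 ∧
    mY * mI * mY⁻¹ * (mY * mI * mY⁻¹) = mI * mI ∧
    mI * (mY * mI * mY⁻¹) * mI * (mY * mI * mY⁻¹) = mI * mI ∧
    mY * (mY * mI * mY⁻¹) * mY⁻¹ = mI * (mY * mI * mY⁻¹) ∧
    ∀ m : SL3, ∃ i : Fin 4, ∃ j : Fin 2, ∃ k : Fin 3,
      m = mI ^ i.1 * (mY * mI * mY⁻¹) ^ j.1 * mY ^ k.1 := by decide +kernel

variable {G : Type*} [Group G]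

theorem sl_gens {A : Subgroup G} (e : A ≃* SL3) {z : G} (hz : orderOf z = 2) (hA : z ∈ A) :
    ∃ a ∈ A, ∃ b ∈ A, ∃ x ∈ A, a * a * z = 1 ∧ b * b * z = 1 ∧ a * b * a * b * z = 1 ∧
      x * x * x = 1 ∧ x * a * x⁻¹ = b ∧ x * b * x⁻¹ = a * b ∧
      ∀ L : Subgroup G, a ∈ L → x ∈ L → A ≤ L := by
  obtain ⟨f1, f2, f3, f4, f5, f6⟩ := sl_facts
  let φ : SL3 →* G := A.subtype.comp e.symm.toMonoidHom
  have hφ : ∀ m, φ m ∈ A := fun m => (e.symm m).2
  have h1 : φ (e ⟨z, hA⟩) = z := congrArg Subtype.val (e.symm_apply_apply _)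
  have h2 : φ (mI * mI)⁻¹ = z := by
    rcases f1 (e ⟨z, hA⟩) (by
      rw [← map_mul, ← map_one e]
      exact congrArg e (Subtype.ext (mul_self_of_orderOf_two hz))) with a | a
    · rw [a, map_one] at h1
      exact absurd h1.symm (ne_one_of_orderOf_two hz)
    · rw [← a, h1]
  refine ⟨_, hφ mI, _, hφ (mY * mI * mY⁻¹), _, hφ mY, ?_, ?_, ?_, ?_, ?_, ?_, fun L a b u hu => ?_⟩
  · rw [← h2, ← map_mul, ← map_mul, mul_inv_cancel, map_one]
  · rw [← h2, ← map_mul, ← map_mul, f3, mul_inv_cancel, map_one]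
  · simp only [← h2, ← map_mul]; rw [f4, mul_inv_cancel, map_one]
  · rw [← map_mul, ← map_mul, f2, map_one]
  · simp only [map_mul, map_inv]
  · simp only [← map_mul, ← map_inv]; rw [f5]
  · obtain ⟨i, j, k, h⟩ := f6 (e ⟨u, hu⟩)
    have : φ (e ⟨u, hu⟩) = u := congrArg Subtype.val (e.symm_apply_apply _)
    rw [← this, h]
    simp only [map_mul, map_pow, map_inv]
    exact mul_mem (mul_mem (pow_mem a _) (pow_mem (mul_mem (mul_mem b a) (inv_mem b)) _))
      (pow_mem b _)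

theorem comm_of_three {x u z : G} (h3 : x * x * x = 1) (hz : z * z = 1) (hc : x * z = z * x)
    (h : u * x * u⁻¹ * x⁻¹ = 1 ∨ u * x * u⁻¹ * x⁻¹ = z) : u * x = x * u := by
  rcases h with h | h
  · exact mul_inv_eq_iff_eq_mul.1 (mul_inv_eq_one.1 h)
  · have e : u * x * u⁻¹ = z * x := mul_inv_eq_iff_eq_mul.1 h
    have e3 : z * x * (z * x) * (z * x) = 1 := by
      rw [← e, conj_mul, conj_mul, h3, mul_one, mul_inv_cancel]
    have : z = 1 := by
      rw [← sq, ← pow_succ, (Commute.symm hc).mul_pow, pow_succ, pow_succ x, sq, sq, hz, h3] at e3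
      simpa using e3
    exact mul_inv_eq_iff_eq_mul.1 (by rw [e, this, one_mul])

/-- The hypotheses in terms of generators. -/
structure KT (T : Tup G) : Prop where
  sat : Sat T.K.g 19 io rK
  pre : PreLX T.sQ T.z
  card : Nat.card (centralizer ({T.z} : Set G)) = 1152
  nwc : ∃ g, g * T.z * g⁻¹ ∈ T.sQ ∧ g * T.z * g⁻¹ ≠ T.z
  four : ∀ g, g * T.z * g⁻¹ ∈ T.sQ → g * T.z * g⁻¹ ≠ T.z →
    Nat.card ↥(T.sQ ⊓ MulAut.conj g • T.sQ) = 4

theorem g_mem {T : Tup G} {Ls : List ℕ} {l : ℕ} (h : l ∈ Ls) :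
    T.g l ∈ sub T.g (Ls.map fun l => [l]) := by
  simpa using mem_of (T := T) (L := [l]) (Ls := Ls) (by simpa using h)

theorem exists_satK {A B : Subgroup G} (e₁ : A ≃* SL3) (e₂ : B ≃* SL3) {z : G}
    (hz : orderOf z = 2) (hc : ∀ g ∈ A, g * z = z * g) (n1 : B ≤ normalizer (A : Set G))
    (n2 : A ≤ normalizer (B : Set G)) (hm : A ⊓ B = zpowers z) :
    ∃ T : Tup G, T.z = z ∧ Sat T.K.g 19 io rK ∧ T.sK = A ⊔ B := by
  have hzm : z ∈ A ⊓ B := hm ▸ mem_zpowers z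
  have z2 := mul_self_of_orderOf_two hz
  obtain ⟨a, ha, b, hb, x, hx, a1, a2, a3, a4, a5, a6, a7⟩ := sl_gens e₁ hz hzm.1
  obtain ⟨c, hc', d, hd, y, hy, c1, c2, c3, c4, c5, c6, c7⟩ := sl_gens e₂ hz hzm.2
  have k : ∀ u ∈ A, u * u * u = 1 → u ∈ centralizer (B : Set G) := fun u hu h3 v hv =>
    comm_of_three h3 z2 (hc u hu) ((mem_zpowers_iff_of_orderOf_two hz).1 (hm ▸ mem_inf.2 ⟨mul_mem
      (conj_mem_of_mem_normalizer (n1 hv) hu) (inv_mem hu), by
        have := mul_mem hv (conj_mem_of_mem_normalizer (n2 hu) (inv_mem hv))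
        simpa [mul_assoc] using this⟩))
  have hAB : A ≤ centralizer (B : Set G) := a7 _ (by
    have := mul_mem (k x hx a4) (inv_mem (k (b * x * b⁻¹) (mul_mem (mul_mem hb hx) (inv_mem hb))
      (by rw [conj_mul, conj_mul, a4, mul_one, mul_inv_cancel])))
    rwa [show x * (b * x * b⁻¹)⁻¹ = x * b * x⁻¹ * b⁻¹ by group, a6, mul_inv_cancel_right] at this)
    (k x hx a4)
  have r : ∀ u ∈ A, ∀ v ∈ B, u * v * u⁻¹ * v⁻¹ = 1 := fun u hu v hv => by
    rw [← hAB hu v hv]; group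
  let T : Tup G := ⟨z, a, b, c, d, 1, 1, 1, x, y, 1⟩
  have m : ∀ l ∈ LK, T.g l ∈ T.sK := fun l hl => g_mem hl
  refine ⟨T, rfl, sat_of z2 (mul_one 1) (mul_one 1) (mul_one 1) ?_, le_antisymm
    (letters_le fun l hl => ?_) (sup_le (a7 _ (m 2 (by decide)) (m 14 (by decide)))
      (c7 _ (m 6 (by decide)) (m 16 (by decide))))⟩
  · simp only [rK, rQ, List.cons_append, List.nil_append, List.forall_mem_cons, wv_cons, wv_nil,
      one_mul, List.not_mem_nil, IsEmpty.forall_iff, implies_true, and_true, g_simp, T]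
    exact ⟨a1, a2, a3, c1, c2, c3, r a ha c hc', r a ha d hd, r b hb c hc', r b hb d hd, a4,
      by rw [a5, mul_inv_cancel], by rw [a6]; group, c4, by rw [c5, mul_inv_cancel],
      by rw [c6]; group, r x hx c hc', r x hx d hd, r a ha y hy, r b hb y hy, r x hx y hy⟩
  · fin_cases hl
    exacts [mem_sup_left hzm.1, mem_sup_left ha, mem_sup_left (inv_mem ha), mem_sup_left hb,
      mem_sup_left (inv_mem hb), mem_sup_right hc', mem_sup_right (inv_mem hc'), mem_sup_right hd,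
      mem_sup_right (inv_mem hd), mem_sup_left hx, mem_sup_left (inv_mem hx), mem_sup_right hy,
      mem_sup_right (inv_mem hy)]

theorem embQ_of {T : Tup G} (h : Sat T.K.g 19 io rK) (hz : T.z ≠ 1) : Emb MQ.m T.Q.g :=
  embQ (T := T.K) (satQ h (by decide +kernel)) hz

theorem exists_KT [Finite G] (z : G) (hz : orderOf z = 2)
    (H₁ H₂ : Subgroup (centralizer ({z} : Set G)))
    (hn₁ : (H₁.subgroupOf (H₁ ⊔ H₂)).Normal) (hn₂ : (H₂.subgroupOf (H₁ ⊔ H₂)).Normal)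
    (e₁ : H₁ ≃* SL3) (e₂ : H₂ ≃* SL3)
    (hm : (H₁ ⊓ H₂).map (centralizer ({z} : Set G)).subtype = zpowers z)
    (Q : Subgroup (centralizer ({z} : Set G)))
    (hQ : Q = (pCore 2 ↥(H₁ ⊔ H₂)).map (H₁ ⊔ H₂).subtype) (hF : generalizedFittingSubgroup _ = Q)
    (hw : ∃ g : G, (∃ hq : g * z * g⁻¹ ∈ centralizer ({z} : Set G),
      (⟨g * z * g⁻¹, hq⟩ : centralizer ({z} : Set G)) ∈ Q) ∧ g * z * g⁻¹ ≠ z)
    (hH : Nat.card (centralizer ({z} : Set G)) = 2 ^ 7 * 3 ^ 2)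
    (h4 : ∀ g : G, g * z * g⁻¹ ∈ Q.map (centralizer ({z} : Set G)).subtype → g * z * g⁻¹ ≠ z →
      Nat.card ↥(Q.map (centralizer ({z} : Set G)).subtype ⊓
        (Q.map (centralizer ({z} : Set G)).subtype).map (MulAut.conj g).toMonoidHom) = 4) :
    ∃ T : Tup G, T.z = z ∧ KT T := by
  let C := centralizer ({z} : Set G)
  have inj := C.subtype_injective
  obtain ⟨T, rfl, hs, hK⟩ := exists_satK ((H₁.equivMapOfInjective _ inj).symm.trans e₁)
    ((H₂.equivMapOfInjective _ inj).symm.trans e₂) hz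
    (fun g hg => mem_centralizer_singleton_iff.1 (map_subtype_le _ hg))
    ((map_mono (le_sup_right.trans ((normal_subgroupOf_iff_le_normalizer le_sup_left).1
      hn₁))).trans (le_normalizer_map _))
    ((map_mono (le_sup_left.trans ((normal_subgroupOf_iff_le_normalizer le_sup_right).1
      hn₂))).trans (le_normalizer_map _)) (by rw [← map_inf _ _ _ inj, hm])
  have h1 := ne_one_of_orderOf_two hz
  have eQ := embQ_of hs h1
  have eK := embK hs h1
  rw [← Subgroup.map_sup] at hK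
  have p2 : IsPGroup 2 T.sQ := IsPGroup.of_card (n := 5) (card_sQ eQ)
  have QK : T.sQ ≤ T.sK := letters_le fun l hl => g_mem ((by decide : ∀ l ∈ LQ, l ∈ LK) l hl)
  have e : Q.map C.subtype = T.sQ := by
    have a : T.sQ ≤ Q.map C.subtype := by
      rw [← map_subgroupOf_eq_of_le (QK.trans (hK ▸ map_subtype_le _)), hQ]
      refine map_mono (le_map_pCore (fun q hq => ?_) (fun k hk => mem_normalizer_fintype
        fun q hq => conj_mem_of_mem_normalizer (H := T.sQ) (sK_le eK (hK ▸ mem_map_of_mem _ hk)) hq)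
        p2.comap_subtype)
      obtain ⟨k, hk, e⟩ := hK ▸ QK hq
      exact (Subtype.ext e : k = q) ▸ hk
    obtain ⟨n, hn⟩ := ((pCore_isPGroup 2 _).map (H₁ ⊔ H₂).subtype |>.map C.subtype).exists_card_eq
    have b : Nat.card (Q.map C.subtype) ∣ 288 := by
      rw [← card_sK eK, hK, hQ]
      exact card_dvd_of_le (map_mono (map_subtype_le _))
    rw [← hQ] at hn
    refine (eq_of_le_of_card_ge a ?_).symm
    rw [card_sQ eQ, hn]
    rw [hn, show 288 = 2 ^ 5 * 9 from rfl] at b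
    exact Nat.le_of_dvd (by norm_num)
      ((Nat.Coprime.pow_left n (by norm_num)).dvd_of_dvd_mul_right b)
  have sp : SympPair T.sQ T.z := ⟨g_mem (l := 1) (by decide), hz, fun q hq => (q_symp eQ q hq).1,
    fun q hq => (mem_zpowers_iff_of_orderOf_two hz).2 (q_symp eQ q hq).2.1,
    fun c hc h _ => (mem_zpowers_iff_of_orderOf_two hz).2 ((q_symp eQ c hc).2.2
      (h _ (g_mem (l := 2) (by decide))) (h _ (g_mem (l := 4) (by decide)))
      (h _ (g_mem (l := 6) (by decide))) (h _ (g_mem (l := 8) (by decide))))⟩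
  have ex : IsExtraspecial 2 T.sQ := sp.isExtraspecial
    (fun c hc => (mem_zpowers_iff_of_orderOf_two hz).2 ((q_symp eQ c hc.1).2.2
      (hc.2 _ (g_mem (l := 2) (by decide))) (hc.2 _ (g_mem (l := 4) (by decide)))
      (hc.2 _ (g_mem (l := 6) (by decide))) (hc.2 _ (g_mem (l := 8) (by decide)))))
    fun h => (sp.mem_iff.1 (h (g_mem (l := 2) (by decide)))).elim (q_ne eQ).1 (q_ne eQ).2.1
  obtain ⟨g, ⟨hg, g1⟩, g2⟩ := hw
  rw [e] at h4
  exact ⟨T, rfl, hs, (preLX_of_genFitting hz (hF ▸ e) ex).1, hH, ⟨g, e ▸ ⟨_, g1, rfl⟩, g2⟩, h4⟩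

end Cfsg.Lib.Spor.U43
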